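/-
The setting of rank one pushing up: the projection onto `PSL₂(q)` and the elementary facts about a Sylow subgroup.
-/
import Cfsg.Agent.Lib.LocalEven.PushingUpClosure
import Cfsg.Agent.Lib.Perm.SL2Unipotent
import Cfsg.Agent.Lib.LocalEvenB.SL2Natural

set_option autoImplicit false
set_option linter.unusedSectionVars false
set_option linter.style.haveILetI false

open Matrix CfsgLib.Perm.SL2Unipotent
open scoped MatrixGroups Pointwise commutatorElement

namespace CfsgLib.PushingUpRankOne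

open CfsgLib.LocalEvenB.PushingUp CfsgLib.LocalEvenB

variable {G : Type*} [Group G] [Finite G] {p : ℕ} [Fact p.Prime] {F : Type*} [Field F] [Fintype F]

/-- `PSL₂(F)`. -/
abbrev PSL2 (F : Type*) [Field F] := Matrix.ProjectiveSpecialLinearGroup (Fin 2) F

/-- The projection of `SL₂` onto `PSL₂`. -/
def pr : SL(2, F) →* (PSL2 F) := QuotientGroup.mk' _

theorem pr_surjective : Function.Surjective (pr (F := F)) := QuotientGroup.mk'_surjective _

theorem pr_eq_one {g : SL(2, F)} : pr g = 1 ↔ g ∈ Subgroup.center (SL(2, F)) := QuotientGroup.eq_one_iff g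

theorem pr_eq_pr {g h : SL(2, F)} : pr g = pr h ↔ g⁻¹ * h ∈ Subgroup.center (SL(2, F)) := QuotientGroup.eq

theorem pr_up_inj {x y : F} (h : pr (up x) = pr (up y)) : x = y := by
  rw [pr_eq_pr, up_inv, up_mul, Matrix.SpecialLinearGroup.mem_center_iff] at h
  obtain ⟨r, -, hr⟩ := h
  have := congrFun (congrFun hr 0) 1
  simp [up_val] at this
  linear_combination this

/-- What the arguments use of the rank one pushing-up situation. -/
structure Hyp (p : ℕ) (S Q M : Subgroup G) (n : ℕ) (φ : G →* (PSL2 F)) : Prop where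
  setup : Setup p S M Q
  one_le : 1 ≤ n
  card : Fintype.card F = p ^ n
  surj : Function.Surjective φ
  map : S.map φ = (Cfsg.upperUnipotentSL2 F).map pr

/-- The projection can be chosen to send the Sylow subgroup onto the upper unitriangular group. -/
theorem exists_hyp {S Q M : Subgroup G} (hs : Setup p S M Q) {n : ℕ} (hn : 1 ≤ n)
    (hF : Fintype.card F = p ^ n) (φ : G →* (PSL2 F)) (hφ : Function.Surjective φ) :
    ∃ φ' : G →* (PSL2 F), φ'.ker = φ.ker ∧ Hyp p S Q M n φ' := by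
  haveI : CharP F p := charP_of_card_eq_prime_pow hF
  obtain ⟨P, hP⟩ := hs.sylow
  obtain ⟨x, hx⟩ := MulAction.exists_smul_eq (PSL2 F) (P.mapSurjective hφ)
    ((CfsgLib.Classical.unipSLSylow (F := F) p).mapSurjective pr_surjective)
  refine ⟨(MulAut.conj x).toMonoidHom.comp φ, ?_, hs, hn, hF, (MulAut.conj x).surjective.comp hφ, ?_⟩
  · ext g
    simp [MonoidHom.mem_ker]
  · have h1 := congrArg (fun R : Sylow p (PSL2 F) => (R : Subgroup (PSL2 F))) hx
    rw [← Subgroup.map_map, ← hP]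
    refine Eq.trans ?_ (h1.trans ?_)
    · rfl
    · show (CfsgLib.Classical.unipSL F).map pr = _
      congr 1
      ext g
      rw [mem_upper]
      constructor
      · rintro ⟨c, rfl⟩
        exact ⟨c.toAdd, Subtype.ext (CfsgLib.Classical.uSL_coe c.toAdd)⟩
      · rintro ⟨c, rfl⟩
        exact ⟨Multiplicative.ofAdd c, Subtype.ext (CfsgLib.Classical.uSL_coe c)⟩

namespace Hyp

variable {S Q M : Subgroup G} {n : ℕ} {φ : G →* (PSL2 F)} (H : Hyp p S Q M n φ)
include H

theorem charP : CharP F p := charP_of_card_eq_prime_pow H.card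

theorem inf_ker : S ⊓ φ.ker ≤ Q :=
  (CfsgLib.LocalEven.PushingUpClosure.kernel_facts H.setup H.one_le H.card φ H.surj).1

theorem exists_up (x : F) : ∃ s ∈ S, φ s = pr (up x) := by
  have : pr (up x) ∈ S.map φ := H.map ▸ ⟨_, mem_upper.2 ⟨x, rfl⟩, rfl⟩
  exact this

theorem exists_param {s : G} (hs : s ∈ S) : ∃ x, φ s = pr (up x) := by
  obtain ⟨g, hg, hgs⟩ : φ s ∈ (Cfsg.upperUnipotentSL2 F).map pr := H.map ▸ ⟨s, hs, rfl⟩
  obtain ⟨x, rfl⟩ := mem_upper.1 hg
  exact ⟨x, hgs.symm⟩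

theorem mem_Q_of_map {s : G} (hs : s ∈ S) (h : φ s = 1) : s ∈ Q := H.inf_ker ⟨hs, MonoidHom.mem_ker.2 h⟩

theorem mem_Q_of_map_eq {s t : G} (hs : s ∈ S) (ht : t ∈ S) (h : φ s = φ t) : s⁻¹ * t ∈ Q :=
  H.mem_Q_of_map (mul_mem (inv_mem hs) ht) (by rw [map_mul, map_inv, h, inv_mul_cancel])

theorem map_Q : ∀ q ∈ Q, φ q = 1 := by
  intro q hq
  haveI := H.setup.normal
  -- the image of `Q` is a normal subgroup inside the upper unitriangular image and its conjugates
  obtain ⟨g, hg⟩ := H.surj (pr (SL2Natural.wE 1))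
  obtain ⟨x, hx⟩ := H.exists_param (H.setup.le hq)
  obtain ⟨y, hy⟩ := H.exists_param (H.setup.le (H.setup.normal.conj_mem q hq g))
  rw [map_mul, map_mul, map_inv, hg, hx, ← map_inv, ← map_mul, ← map_mul] at hy
  have hlow : SL2Natural.wE 1 * up x * (SL2Natural.wE 1)⁻¹ = low (-x) := by
    rw [SL2Natural.low_eq, neg_neg]
  rw [hlow, pr_eq_pr, low_inv, neg_neg, Matrix.SpecialLinearGroup.mem_center_iff] at hy
  obtain ⟨r, -, hr⟩ := hy
  have h1 := congrFun (congrFun hr 1) 0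
  simp [low_val, up_val, Matrix.mul_apply, Fin.sum_univ_two] at h1
  have hx0 : x = 0 := h1.symm
  rw [hx, hx0, up_zero, map_one]

theorem commutator_mem {a c : G} (ha : a ∈ S) (hc : c ∈ S) : a * c * a⁻¹ * c⁻¹ ∈ Q := by
  refine H.mem_Q_of_map (mul_mem (mul_mem (mul_mem ha hc) (inv_mem ha)) (inv_mem hc)) ?_
  obtain ⟨x, hx⟩ := H.exists_param ha
  obtain ⟨y, hy⟩ := H.exists_param hc
  rw [map_mul, map_mul, map_mul, map_inv, map_inv, hx, hy, ← map_inv, ← map_inv, ← map_mul, ← map_mul,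
    ← map_mul, up_inv, up_inv, up_mul, up_mul, up_mul]
  rw [show x + y + -x + -y = 0 by ring, up_zero, map_one]

theorem pow_mem {a : G} (ha : a ∈ S) : a ^ p ∈ Q := by
  haveI := H.charP
  refine H.mem_Q_of_map (S.pow_mem ha _) ?_
  obtain ⟨x, hx⟩ := H.exists_param ha
  rw [map_pow, hx, ← map_pow]
  have : ∀ k : ℕ, up x ^ k = up ((k : F) * x) := by
    intro k
    induction k with
    | zero => simp [up_zero]
    | succ k ih => rw [pow_succ, ih, up_mul]; congr 1; push_cast; ring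
  rw [this, CharP.cast_eq_zero, zero_mul, up_zero, map_one]

theorem ker_le : φ.ker ≤ M := by
  by_contra hle
  have htop := H.setup.top_of (S ⊔ φ.ker) le_sup_left fun h => hle (le_sup_right.trans h)
  obtain ⟨g, hg⟩ := H.surj (pr (SL2Natural.wE 1))
  obtain ⟨s, hs, k, hk, rfl⟩ := Subgroup.mem_sup_of_normal_right.1 (htop ▸ Subgroup.mem_top g)
  obtain ⟨x, hx⟩ := H.exists_param hs
  rw [map_mul, MonoidHom.mem_ker.1 hk, mul_one, hx, pr_eq_pr, up_inv,
    Matrix.SpecialLinearGroup.mem_center_iff] at hg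
  obtain ⟨r, -, hr⟩ := hg
  have h1 := congrFun (congrFun hr 1) 0
  simp [SL2Natural.wE, low_val, up_val, Matrix.mul_apply, Fin.sum_univ_two] at h1

/-- A subgroup over `S` which covers the quotient is everything. -/
theorem eq_top_of_map {R : Subgroup G} (hR : S ≤ R) (h : R.map φ = ⊤) : R = ⊤ := by
  refine H.setup.top_of R hR fun hle => H.setup.proper (eq_top_iff.2 fun g _ => ?_)
  obtain ⟨r, hr, hrg⟩ : φ g ∈ R.map φ := h ▸ Subgroup.mem_top _
  have hk : r⁻¹ * g ∈ φ.ker := by rw [MonoidHom.mem_ker, map_mul, map_inv, hrg, inv_mul_cancel]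
  have := mul_mem (hle hr) (H.ker_le hk)
  rwa [mul_inv_cancel_left] at this

theorem map_sup_eq_top {g : G} (hg : φ g = pr (SL2Natural.wE 1)) :
    (S ⊔ S.map (MulAut.conj g).toMonoidHom).map φ = ⊤ := by
  rw [eq_top_iff]
  intro y _
  obtain ⟨z, rfl⟩ := pr_surjective y
  refine SL2Natural.sl_induction (P := fun z => pr z ∈ (S ⊔ S.map (MulAut.conj g).toMonoidHom).map φ)
    (by rw [map_one]; exact one_mem _) (fun a b ha hb => by rw [map_mul]; exact mul_mem ha hb)
    (fun x => ?_) (fun x => ?_) z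
  · obtain ⟨s, hs, hsx⟩ := H.exists_up x
    exact ⟨s, Subgroup.mem_sup_left hs, hsx⟩
  · obtain ⟨s, hs, hsx⟩ := H.exists_up (-x)
    refine ⟨g * s * g⁻¹, Subgroup.mem_sup_right ⟨s, hs, rfl⟩, ?_⟩
    rw [map_mul, map_mul, map_inv, hg, hsx, SL2Natural.low_eq, map_mul, map_mul, map_inv]

/-- Some conjugate of `S` generates `G` with `S`. -/
theorem exists_opposite : ∃ g : G, φ g = pr (SL2Natural.wE 1) ∧ S ⊔ S.map (MulAut.conj g).toMonoidHom = ⊤ := by
  obtain ⟨g, hg⟩ := H.surj (pr (SL2Natural.wE 1))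
  exact ⟨g, hg, H.eq_top_of_map le_sup_left (H.map_sup_eq_top hg)⟩

/-- A `p`-element of the kernel lies in `Q`. -/
theorem mem_Q_of_ker {k : G} (hk : φ k = 1) (hkp : IsPGroup p (Subgroup.zpowers k)) : k ∈ Q := by
  obtain ⟨P, hP⟩ := H.setup.sylow
  obtain ⟨R, hR⟩ := hkp.exists_le_sylow
  obtain ⟨g, hg⟩ := MulAction.exists_smul_eq G R P
  have hmem : g * k * g⁻¹ ∈ S := by
    rw [← hP, ← hg]
    exact ⟨k, hR (Subgroup.mem_zpowers k), rfl⟩
  have h := H.setup.normal.conj_mem _ (H.mem_Q_of_map hmem (by rw [map_mul, map_mul, map_inv, hk, mul_one, mul_inv_cancel])) g⁻¹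
  simpa [mul_assoc] using h

theorem relIndex : Q.relIndex S = p ^ n := by
  haveI := H.charP
  have h1 : φ.ker.relIndex S = p ^ n := by
    rw [Subgroup.relIndex_ker, H.map, ← H.card, ← Nat.card_eq_fintype_card]
    refine (Nat.card_eq_of_bijective (fun x : F => (⟨pr (up x), _, mem_upper.2 ⟨x, rfl⟩, rfl⟩ :
      ↥((Cfsg.upperUnipotentSL2 F).map pr))) ⟨fun x y h => pr_up_inj (congrArg Subtype.val h), ?_⟩).symm
    rintro ⟨_, u, hu, rfl⟩
    obtain ⟨x, rfl⟩ := mem_upper.1 hu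
    exact ⟨x, rfl⟩
  rw [← Subgroup.inf_relIndex_right]
  rw [← Subgroup.inf_relIndex_right φ.ker] at h1
  convert h1 using 2
  exact le_antisymm (fun x hx => ⟨MonoidHom.mem_ker.2 (H.map_Q x hx.1), hx.2⟩)
    (fun x hx => ⟨H.mem_Q_of_map hx.2 (MonoidHom.mem_ker.1 hx.1), hx.2⟩)

end Hyp

end CfsgLib.PushingUpRankOne
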