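/-
A module of order `q²` of a group with quotient `PSL₂(q)` on which a Sylow subgroup fixes a line pointwise and
moves everything into it is the natural `SL₂(q)`-module, and the lift of the projection to `SL₂(q)` is unique.
-/
import Cfsg.Agent.Lib.PushingUpRankOne.Setting
import Cfsg.Agent.Lib.Coprime.Generation
import Cfsg.Agent.Lib.LocalEvenB.BaumannModule

set_option autoImplicit false
set_option linter.unusedSectionVars false
set_option linter.style.haveILetI false

open Matrix CfsgLib.Perm.SL2Unipotent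
open scoped MatrixGroups

namespace CfsgLib.PushingUpRankOne

open CfsgLib.LocalEvenB.PushingUp CfsgLib.LocalEvenB

variable {G : Type*} [Group G] [Finite G] {p : ℕ} [Fact p.Prime] {F : Type*} [Field F] [Fintype F]
  {A : Type*} [AddCommGroup A] [Finite A]

instance : Finite (AddMonoid.End A) := Finite.of_injective (fun f : AddMonoid.End A => (f : A → A)) DFunLike.coe_injective

instance : Finite (AddMonoid.End A)ˣ := Finite.of_injective Units.val Units.val_injective

/-- A module of order `q²` with a line for the Sylow subgroup. -/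
structure LineModule (p n : ℕ) (S Q : Subgroup G) (σ : G →* AddMonoid.End A) (L : AddSubgroup A) : Prop where
  triv : ∀ q ∈ Q, σ q = 1
  fixed : ∀ s ∈ S, ∀ l ∈ L, σ s l = l
  into : ∀ s ∈ S, ∀ a, σ s a - a ∈ L
  cardL : Nat.card L = p ^ n
  cardA : Nat.card A = p ^ n * p ^ n
  exponent : ∀ a : A, p • a = 0
  noFix : ∀ a, (∀ g, σ g a = a) → a = 0

section Action

variable (σ : G →* AddMonoid.End A)

theorem act_mul (g h : G) (a : A) : σ (g * h) a = σ g (σ h a) := by rw [map_mul]; rfl

theorem act_one (a : A) : σ 1 a = a := by rw [map_one]; rfl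

theorem act_inv (g : G) (a : A) : σ g⁻¹ (σ g a) = a := by rw [← act_mul, inv_mul_cancel, act_one]

theorem act_inv' (g : G) (a : A) : σ g (σ g⁻¹ a) = a := by rw [← act_mul, mul_inv_cancel, act_one]

theorem act_injective (g : G) : Function.Injective (σ g) := fun a b h => by
  rw [← act_inv σ g a, h, act_inv]

/-- The stabilizer of a subgroup. -/
def stab (L : AddSubgroup A) : Subgroup G where
  carrier := {g | ∀ a, σ g a ∈ L ↔ a ∈ L}
  one_mem' a := by rw [act_one]
  mul_mem' {g h} hg hh a := by rw [act_mul, hg, hh]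
  inv_mem' {g} hg a := by rw [← hg, act_inv']

/-- The elements fixing a subgroup pointwise and moving everything into it. -/
def unipotents (L : AddSubgroup A) : Subgroup G where
  carrier := {g | (∀ l ∈ L, σ g l = l) ∧ ∀ a, σ g a - a ∈ L}
  one_mem' := ⟨fun l _ => act_one σ l, fun a => by rw [act_one, sub_self]; exact zero_mem _⟩
  mul_mem' {g h} hg hh := ⟨fun l hl => by rw [act_mul, hh.1 l hl, hg.1 l hl], fun a => by
    rw [act_mul]
    have : σ g (σ h a) - a = (σ g (σ h a) - σ h a) + (σ h a - a) := by abel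
    rw [this]
    exact add_mem (hg.2 _) (hh.2 a)⟩
  inv_mem' {g} hg := ⟨fun l hl => by
      conv_lhs => rw [← hg.1 l hl]
      exact act_inv σ g l, fun a => by
    have h := hg.2 (σ g⁻¹ a)
    rw [act_inv'] at h
    simpa using neg_mem h⟩

variable {σ}

theorem mem_unipotents {L : AddSubgroup A} {g : G} :
    g ∈ unipotents σ L ↔ (∀ l ∈ L, σ g l = l) ∧ ∀ a, σ g a - a ∈ L := Iff.rfl

/-- A conjugate of a unipotent element is unipotent for the image line. -/
theorem conj_unipotents {L : AddSubgroup A} {g h : G} (hh : h ∈ stab σ L) (hg : g ∈ unipotents σ L) :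
    h * g * h⁻¹ ∈ unipotents σ L := by
  refine ⟨fun l hl => ?_, fun a => ?_⟩
  · rw [act_mul, act_mul, hg.1 _ (((stab σ L).inv_mem hh l).2 hl), act_inv']
  · rw [act_mul, act_mul]
    have : σ h (σ g (σ h⁻¹ a)) - a = σ h (σ g (σ h⁻¹ a) - σ h⁻¹ a) := by rw [map_sub, act_inv']
    rw [this]
    exact (hh _).2 (hg.2 _)

theorem act_pow_unipotent {L : AddSubgroup A} {g : G} (hg : g ∈ unipotents σ L) (a : A) (k : ℕ) :
    σ (g ^ k) a = a + k • (σ g a - a) := by
  induction k with
  | zero => simp
  | succ k ih =>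
    rw [pow_succ', act_mul, ih, map_add, map_nsmul, hg.1 _ (hg.2 a), succ_nsmul]
    abel

end Action

namespace LineModule

variable {S Q M : Subgroup G} {n : ℕ} {φ : G →* PSL2 F} {σ : G →* AddMonoid.End A} {L : AddSubgroup A}
variable (H : Hyp p S Q M n φ) (D : LineModule p n S Q σ L)
include H D

omit H in
theorem le_unipotents : S ≤ unipotents σ L := fun s hs => ⟨D.fixed s hs, D.into s hs⟩

theorem one_lt : 1 < p ^ n := Nat.one_lt_pow (by have := H.one_le; omega) (Fact.out : p.Prime).one_lt

theorem exists_ne : ∃ l ∈ L, l ≠ 0 := by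
  by_contra! h
  have : Nat.card L = 1 := Nat.card_eq_one_iff_unique.2
    ⟨⟨fun a b => Subtype.ext ((h a a.2).trans (h b b.2).symm)⟩, ⟨0⟩⟩
  have h1 := one_lt H D
  rw [← D.cardL, this] at h1
  omega

theorem ker_facts : S ⊓ σ.ker ≤ Q ∧ σ.ker ≤ M := by
  have h1 : S ⊓ σ.ker ≤ Q := by
    by_contra hc
    obtain ⟨l, hl, hl0⟩ := exists_ne H D
    apply hl0
    refine D.noFix l fun g => ?_
    let R : Subgroup G :=
      { carrier := {g | σ g l = l}
        one_mem' := act_one σ l
        mul_mem' := fun {a b} ha hb => by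
          show σ (a * b) l = l
          rw [act_mul, hb, ha]
        inv_mem' := fun {a} ha => by
          show σ a⁻¹ l = l
          conv_lhs => rw [← ha]
          exact act_inv σ a l }
    have hR : R = ⊤ := by
      refine Solvable.Cores.eq_top_of_sylow_le R fun q hq => ?_
      by_cases hqp : q = p
      · subst hqp
        obtain ⟨P, hP⟩ := H.setup.sylow
        exact ⟨P, fun s hs => D.fixed s (hP ▸ hs) l hl⟩
      · haveI := Fact.mk hq
        obtain ⟨P⟩ : Nonempty (Sylow q G) := inferInstance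
        refine ⟨P, fun s hsP => ?_⟩
        obtain ⟨a, ha⟩ := P.isPGroup' ⟨s, hsP⟩
        have hs1 : orderOf s ∣ q ^ a := orderOf_dvd_of_pow_eq_one (by simpa using congrArg Subtype.val ha)
        have h2 := mem_of_coprime H.setup σ.ker hc (Nat.Coprime.coprime_dvd_left hs1
          (Nat.Coprime.pow_left a ((Nat.coprime_primes hq Fact.out).2 hqp)))
        show σ s l = l
        rw [MonoidHom.mem_ker.1 h2]
        rfl
    exact (hR ▸ Subgroup.mem_top g : g ∈ R)
  refine ⟨h1, ?_⟩
  by_contra hle
  have htop := H.setup.top_of (S ⊔ σ.ker) le_sup_left fun h => hle (le_sup_right.trans h)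
  obtain ⟨l, hl, hl0⟩ := exists_ne H D
  apply hl0
  refine D.noFix l fun g => ?_
  obtain ⟨s, hs, k, hk, rfl⟩ := Subgroup.mem_sup_of_normal_right.1 (htop ▸ Subgroup.mem_top g)
  rw [act_mul, MonoidHom.mem_ker.1 hk]
  exact D.fixed s hs l hl

/-- A nontrivial element of `S / Q` fixes exactly the line. -/
theorem fixed_eq {s : G} (hs : s ∈ S) (hsQ : s ∉ Q) {a : A} (ha : σ s a = a) : a ∈ L := by
  classical
  obtain ⟨hSk, hkM⟩ := ker_facts H D
  let Fx : AddSubgroup A :=
    { carrier := {b | σ s b = b}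
      zero_mem' := map_zero _
      add_mem' := fun {x y} hx hy => by
        show σ s (x + y) = x + y
        rw [map_add, hx, hy]
      neg_mem' := fun {x} hx => by
        show σ s (-x) = -x
        rw [map_neg, hx] }
  have hLF : L ≤ Fx := fun l hl => D.fixed s hs l hl
  suffices hcard : Nat.card Fx ≤ p ^ n by
    have e : L = Fx := SetLike.coe_injective (Set.eq_of_subset_of_ncard_le hLF (by
      rw [← Nat.card_coe_set_eq, ← Nat.card_coe_set_eq]
      exact hcard.trans D.cardL.ge) (Set.toFinite _))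
    exact e ▸ (show a ∈ Fx from ha)
  rcases Nat.lt_or_ge n 2 with hn | hn
  · obtain rfl : n = 1 := by have := H.one_le; omega
    obtain ⟨k, hk, hkc⟩ := (Nat.dvd_prime_pow (Fact.out : p.Prime)).1
      (show Nat.card Fx ∣ p ^ 2 from (AddSubgroup.card_addSubgroup_dvd_card Fx).trans (by
        rw [D.cardA, pow_one, sq]))
    rw [hkc]
    refine Nat.pow_le_pow_right (Fact.out : p.Prime).pos ?_
    by_contra hk1
    obtain rfl : k = 2 := by omega
    have htop : Fx = ⊤ := AddSubgroup.eq_top_of_card_eq _ (by rw [hkc, D.cardA, pow_one, sq])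
    exact hsQ (hSk ⟨hs, MonoidHom.mem_ker.2 (AddMonoidHom.ext fun b => (htop ▸ trivial : b ∈ Fx))⟩)
  · -- the bound for faithful modules
    let c : G →* MulAut (Multiplicative A) :=
      { toFun := fun g =>
          { toFun := fun v => Multiplicative.ofAdd (σ g v.toAdd)
            invFun := fun v => Multiplicative.ofAdd (σ g⁻¹ v.toAdd)
            left_inv := fun v => by simp [act_inv]
            right_inv := fun v => by simp [act_inv']
            map_mul' := fun v w => by simp [map_add] }
        map_one' := MulEquiv.ext fun v => by simp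
        map_mul' := fun g h => MulEquiv.ext fun v => by simp }
    haveI : Finite (Multiplicative A ⋊[c] G) := Finite.of_equiv _ SemidirectProduct.equivProd.symm
    set W : Subgroup (Multiplicative A ⋊[c] G) := (SemidirectProduct.inl).range with hW
    haveI : W.Normal := by
      rw [hW, SemidirectProduct.range_inl_eq_ker_rightHom]; infer_instance
    have hinl : ∀ (g : G) (v : Multiplicative A), (SemidirectProduct.inr g : Multiplicative A ⋊[c] G) *
        SemidirectProduct.inl v * (SemidirectProduct.inr g)⁻¹ = SemidirectProduct.inl (c g v) := fun g v => by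
      rw [SemidirectProduct.inl_aut, map_inv]
    have hWc : IsMulCommutative W := ⟨⟨by
      rintro ⟨_, v, rfl⟩ ⟨_, w, rfl⟩
      apply Subtype.ext
      show SemidirectProduct.inl v * SemidirectProduct.inl w = SemidirectProduct.inl w * SemidirectProduct.inl v
      rw [← map_mul, ← map_mul, mul_comm v w]⟩⟩
    have hWp : ∀ v ∈ W, v ^ p = 1 := by
      rintro _ ⟨v, rfl⟩
      rw [← map_pow, show v ^ p = 1 from (Multiplicative.toAdd.injective (by simp [D.exponent])), map_one]
    let φ' := φ.comp (SemidirectProduct.rightHom (φ := c))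
    have hφ' : Function.Surjective φ' := H.surj.comp SemidirectProduct.rightHom_surjective
    have hkK : σ.ker ≤ φ.ker :=
      (CfsgLib.LocalEven.PushingUpClosure.kernel_facts H.setup H.one_le H.card φ H.surj).2.2 σ.ker
        inferInstance hSk hn
    have hker : ∀ x ∈ Subgroup.centralizer (W : Set (Multiplicative A ⋊[c] G)), φ' x = 1 := by
      intro x hx
      refine MonoidHom.mem_ker.1 (hkK (MonoidHom.mem_ker.2 (AddMonoidHom.ext fun b => ?_)))
      show σ x.right b = b
      have h1 := Subgroup.mem_centralizer_iff.1 hx _ ⟨Multiplicative.ofAdd b, rfl⟩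
      have h2 := congrArg SemidirectProduct.left h1
      simp only [SemidirectProduct.mul_left, SemidirectProduct.left_inl, SemidirectProduct.right_inl, map_one,
        MulAut.one_apply] at h2
      have h3 : b + x.left.toAdd = x.left.toAdd + σ x.right b := by
        simpa [c] using congrArg Multiplicative.toAdd h2
      rw [add_comm] at h3
      exact (add_left_cancel h3).symm
    have hap : IsPGroup p (Subgroup.zpowers (SemidirectProduct.inr s : Multiplicative A ⋊[c] G)) := by
      rw [← MonoidHom.map_zpowers]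
      exact (H.setup.isPGroup.to_le (Subgroup.zpowers_le.2 hs)).map _
    have hb := (CfsgLib.LocalEven.ModuleQuotient.bounds W hWc hWp H.card hn φ' hφ' hker hap
      (by
        show φ (SemidirectProduct.rightHom (SemidirectProduct.inr s : Multiplicative A ⋊[c] G)) ≠ 1
        rw [SemidirectProduct.rightHom_inr]
        exact fun h => hsQ (H.mem_Q_of_map hs h))).1
    set C := W ⊓ Subgroup.centralizer ({SemidirectProduct.inr s} : Set (Multiplicative A ⋊[c] G)) with hC
    have hWcard : Nat.card W = p ^ n * p ^ n := by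
      rw [← D.cardA, hW, ← Nat.card_congr (MonoidHom.ofInjective SemidirectProduct.inl_injective).toEquiv]
      rfl
    have hFC : Nat.card Fx ≤ Nat.card C := by
      refine Nat.card_le_card_of_injective (fun b : Fx => (⟨SemidirectProduct.inl (Multiplicative.ofAdd (b : A)),
        ⟨_, rfl⟩, Subgroup.mem_centralizer_singleton_iff.2 ?_⟩ : C)) fun x y h => ?_
      · have h1 := hinl s (Multiplicative.ofAdd (b : A))
        rw [show c s (Multiplicative.ofAdd (b : A)) = Multiplicative.ofAdd (b : A) from by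
          show Multiplicative.ofAdd (σ s _) = _
          rw [toAdd_ofAdd, (show σ s (b : A) = b from b.2)], mul_inv_eq_iff_eq_mul] at h1
        exact h1.symm
      · exact Subtype.ext (Multiplicative.ofAdd.injective (SemidirectProduct.inl_injective (congrArg Subtype.val h)))
    have h2 := Subgroup.relIndex_mul_relIndex ⊥ C W bot_le inf_le_left
    rw [Subgroup.relIndex_bot_left, Subgroup.relIndex_bot_left, hWcard] at h2
    refine hFC.trans (Nat.le_of_mul_le_mul_right ?_ (pow_pos (Fact.out : p.Prime).pos n))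
    calc Nat.card C * p ^ n ≤ Nat.card C * C.relIndex W := Nat.mul_le_mul_left _ hb
      _ = _ := h2

omit H in
theorem stab_of_mem {s : G} (hs : s ∈ S) : s ∈ stab σ L := fun a => by
  constructor
  · intro h
    have := act_inv σ s a
    rw [D.fixed _ (inv_mem hs) _ h] at this
    rwa [← this]
  · intro h
    rw [D.fixed s hs a h]; exact h

/-- Unipotent elements act as elements of `S`. -/
theorem exists_S {g : G} (hg : g ∈ unipotents σ L) : ∃ s ∈ S, σ g = σ s := by
  obtain ⟨P, hP⟩ := H.setup.sylow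
  set σu := σ.toHomUnits
  let f := σu.rangeRestrict
  have hf : Function.Surjective f := σu.rangeRestrict_surjective
  have hp : IsPGroup p ↥((unipotents σ L).map f) := by
    rintro ⟨_, x, hx, rfl⟩
    refine ⟨1, Subtype.ext ?_⟩
    show (f x) ^ p ^ 1 = 1
    rw [pow_one, ← map_pow]
    refine Subtype.ext (Units.ext (AddMonoidHom.ext fun a => ?_))
    show σ (x ^ p) a = a
    rw [act_pow_unipotent hx, D.exponent, add_zero]
  have hle : ((P.mapSurjective hf : Sylow p σu.range) : Subgroup σu.range) ≤ (unipotents σ L).map f :=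
    Subgroup.map_mono (hP.le.trans (le_unipotents D))
  have he := (P.mapSurjective hf).is_maximal' hp hle
  obtain ⟨s, hs, hse⟩ : f g ∈ ((P.mapSurjective hf : Sylow p σu.range) : Subgroup σu.range) :=
    he ▸ ⟨g, hg, rfl⟩
  refine ⟨s, hP ▸ hs, ?_⟩
  exact (congrArg (fun t : σu.range => ((t : (AddMonoid.End A)ˣ) : AddMonoid.End A)) hse).symm

theorem coprime_ker_image : ∀ k, φ k = 1 → IsPGroup p (Subgroup.zpowers k) → σ k = 1 := fun _ hk hkp =>
  D.triv _ (H.mem_Q_of_ker hk hkp)

/-- On unipotent elements the action is determined by the projection. -/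
theorem eq_of_map {g s : G} (hg : g ∈ unipotents σ L) (hs : s ∈ S) (h : φ g = φ s) : σ g = σ s := by
  set k := s⁻¹ * g with hk
  have hku : k ∈ unipotents σ L := mul_mem (inv_mem (le_unipotents D hs)) hg
  have hk1 : φ k = 1 := by rw [hk, map_mul, map_inv, h, inv_mul_cancel]
  suffices hσ : σ k = 1 by
    rw [show g = s * k by rw [hk, mul_inv_cancel_left], map_mul, hσ, mul_one]
  -- the `p`-part of `k` acts like `k`
  obtain ⟨a, m, hm, e⟩ := Nat.exists_eq_pow_mul_and_not_dvd (orderOf_pos k).ne' p (Fact.out : p.Prime).ne_one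
  have hkp : IsPGroup p (Subgroup.zpowers (k ^ m)) := by
    have h1 : (k ^ m) ^ p ^ a = 1 := by rw [← pow_mul, mul_comm, ← e, pow_orderOf_eq_one]
    obtain ⟨i, -, hi⟩ := (Nat.dvd_prime_pow (Fact.out : p.Prime)).1 (orderOf_dvd_of_pow_eq_one h1)
    exact IsPGroup.of_card (n := i) (by rw [Nat.card_zpowers, hi])
  have h2 := coprime_ker_image H D (k ^ m) (by rw [map_pow, hk1, one_pow]) hkp
  refine AddMonoidHom.ext fun b => ?_
  have h3 : σ (k ^ m) b = b := by rw [h2]; rfl
  rw [act_pow_unipotent hku, add_eq_left] at h3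
  have h4 : Nat.gcd m p • (σ k b - b) = 0 := by
    have hm' : addOrderOf (σ k b - b) ∣ Nat.gcd m p :=
      Nat.dvd_gcd (addOrderOf_dvd_of_nsmul_eq_zero h3) (addOrderOf_dvd_of_nsmul_eq_zero (D.exponent _))
    exact addOrderOf_dvd_iff_nsmul_eq_zero.1 hm'
  rw [show Nat.gcd m p = 1 from ((Fact.out : p.Prime).coprime_iff_not_dvd.2 hm).symm, one_nsmul] at h4
  exact sub_eq_zero.1 h4

/-- The kernel of the projection stabilizes the line. -/
theorem ker_le_stab : φ.ker ≤ stab σ L := by
  classical
  obtain ⟨hSk, hkM⟩ := ker_facts H D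
  rcases Nat.lt_or_ge n 2 with hn | hn
  · obtain rfl : n = 1 := by have := H.one_le; omega
    by_contra hle
    obtain ⟨k, hk, hkL⟩ := SetLike.not_le_iff_exists.1 hle
    obtain ⟨l, hl, hlk⟩ : ∃ l ∈ L, σ k l ∉ L := by
      by_contra! hh
      refine hkL fun a => ⟨fun ha => ?_, hh a⟩
      let f : L → L := fun x => ⟨σ k x, hh _ x.2⟩
      have hf : Function.Injective f := fun x y h => Subtype.ext (act_injective σ k (congrArg Subtype.val h))
      obtain ⟨x, hx⟩ := Finite.injective_iff_surjective.1 hf ⟨_, ha⟩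
      rw [← act_injective σ k (congrArg Subtype.val hx)]
      exact x.2
    obtain ⟨g, hg, hgtop⟩ := H.exists_opposite
    set m := σ k l
    have hLm : ∀ b : A, ∃ (i : ℤ), b - i • m ∈ L := by
      intro b
      have hcard : Nat.card (A ⧸ L) = p := by
        have := AddSubgroup.card_eq_card_quotient_mul_card_addSubgroup L
        rw [D.cardA, D.cardL, pow_one] at this
        exact (Nat.eq_of_mul_eq_mul_right (Fact.out : p.Prime).pos this).symm
      have htop := zmultiples_eq_top_of_prime_card (G := A ⧸ L) (p := p) hcard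
        (g := QuotientAddGroup.mk' L m) (fun h => hlk ((QuotientAddGroup.eq_zero_iff m).1 h))
      obtain ⟨i, hi⟩ := AddSubgroup.mem_zmultiples_iff.1 (htop ▸ AddSubgroup.mem_top (QuotientAddGroup.mk' L b))
      refine ⟨i, (QuotientAddGroup.eq_zero_iff _).1 ?_⟩
      show QuotientAddGroup.mk' L (b - i • m) = 0
      rw [map_sub, map_zsmul, hi, sub_self]
    -- a generator of the opposite line
    obtain ⟨m', hm', hm'L⟩ : ∃ m', (∃ l' ∈ L, σ g l' = m') ∧ m' ∉ L := by
      by_contra! hh
      obtain ⟨l', hl', hl0⟩ := exists_ne H D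
      refine hl0 (act_injective σ g ((map_zero (σ g)).symm ▸ ?_))
      refine D.noFix _ fun x => ?_
      have hgL : σ g l' ∈ L := hh _ ⟨l', hl', rfl⟩
      let R : Subgroup G :=
        { carrier := {x | σ x (σ g l') = σ g l'}
          one_mem' := act_one σ _
          mul_mem' := fun {a b} ha hb => by
            show σ (a * b) _ = _
            rw [act_mul, hb, ha]
          inv_mem' := fun {a} ha => by
            show σ a⁻¹ _ = _
            conv_lhs => rw [← ha]
            exact act_inv σ a _ }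
      have : S ⊔ S.map (MulAut.conj g).toMonoidHom ≤ R := sup_le (fun s hs => D.fixed s hs _ hgL) (by
        rintro _ ⟨s, hs, rfl⟩
        show σ (g * s * g⁻¹) (σ g l') = σ g l'
        rw [← act_mul, inv_mul_cancel_right, act_mul, D.fixed s hs l' hl'])
      exact (hgtop ▸ this) (Subgroup.mem_top x)
    -- an element of `S` takes the moved line to the opposite one
    obtain ⟨i, hi⟩ := hLm m'
    set d := m' - i • m
    have hi0 : ¬ ((p : ℤ) ∣ i) := by
      rintro ⟨j, rfl⟩
      apply hm'L
      have : m' = d := by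
        show m' = m' - ((p : ℤ) * j) • m
        rw [_root_.mul_zsmul, natCast_zsmul, D.exponent, sub_zero]
      rw [this]; exact hi
    obtain ⟨s₁, hs₁, hs₁Q⟩ : ∃ s ∈ S, s ∉ Q := by
      by_contra! hh
      have := H.relIndex
      rw [Subgroup.relIndex_eq_one.2 hh, pow_one] at this
      exact (Fact.out : p.Prime).one_lt.ne this
    set e := σ s₁ m - m
    have heL : e ∈ L := D.into _ hs₁ m
    have he0 : e ≠ 0 := fun h => hlk (fixed_eq H D hs₁ hs₁Q (sub_eq_zero.1 h))
    have hie : i • e ≠ 0 := by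
      intro h
      have h1 := addOrderOf_dvd_iff_zsmul_eq_zero.2 h
      rw [addOrderOf_eq_prime (D.exponent e) he0] at h1
      exact hi0 h1
    have hLgen : AddSubgroup.zmultiples (i • e) = L := by
      refine SetLike.coe_injective (Set.eq_of_subset_of_ncard_le
        (SetLike.coe_subset_coe.2 (AddSubgroup.zmultiples_le_of_mem (zsmul_mem heL i))) ?_ (Set.toFinite _))
      rw [← Nat.card_coe_set_eq, ← Nat.card_coe_set_eq, SetLike.coe_sort_coe, SetLike.coe_sort_coe, D.cardL,
        Nat.card_zmultiples, addOrderOf_eq_prime (D.exponent _) hie, pow_one]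
    obtain ⟨j, hj⟩ := AddSubgroup.mem_zmultiples_iff.1 (hLgen.symm ▸ hi : d ∈ AddSubgroup.zmultiples (i • e))
    obtain ⟨jn, hjn⟩ : ∃ jn : ℕ, (jn : ℤ) • (i • e) = d := by
      refine ⟨(j % (addOrderOf (i • e) : ℤ)).toNat, ?_⟩
      rw [Int.toNat_of_nonneg (Int.emod_nonneg _ (Nat.cast_ne_zero.2 (addOrderOf_pos _).ne')),
        mod_addOrderOf_zsmul, hj]
    set s₂ := s₁ ^ jn
    have hs₂ : σ s₂ (i • m) = m' := by
      rw [map_zsmul, act_pow_unipotent (le_unipotents D hs₁), smul_add, ← natCast_zsmul (σ s₁ m - m),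
        smul_comm, hjn]
      show i • m + (m' - i • m) = m'
      abel
    -- the conjugate of `S` fixing that line agrees with the opposite one
    set h₂ := g⁻¹ * (s₂ * k)
    have hh₂ : h₂ ∈ stab σ L := by
      obtain ⟨l', hl', hl''⟩ := hm'
      have h0 : σ h₂ (i • l) = l' := by
        apply act_injective σ g
        rw [← act_mul, mul_inv_cancel_left, act_mul, map_zsmul, hl'']
        exact hs₂
      have hne : i • l ≠ 0 := fun h => hm'L (by
        rw [← hl'', ← h0, h, map_zero, map_zero]; exact zero_mem _)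
      have hgen : AddSubgroup.zmultiples (i • l) = L := by
        refine SetLike.coe_injective (Set.eq_of_subset_of_ncard_le
          (SetLike.coe_subset_coe.2 (AddSubgroup.zmultiples_le_of_mem (zsmul_mem hl i))) ?_ (Set.toFinite _))
        rw [← Nat.card_coe_set_eq, ← Nat.card_coe_set_eq, SetLike.coe_sort_coe, SetLike.coe_sort_coe, D.cardL,
          Nat.card_zmultiples, addOrderOf_eq_prime (D.exponent _) hne, pow_one]
      have hmap : ∀ a ∈ L, σ h₂ a ∈ L := by
        intro a ha
        obtain ⟨r, rfl⟩ := AddSubgroup.mem_zmultiples_iff.1 (hgen.symm ▸ ha : a ∈ AddSubgroup.zmultiples (i • l))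
        rw [map_zsmul, h0]
        exact zsmul_mem hl' r
      refine fun a => ⟨fun ha => ?_, hmap a⟩
      let f : L → L := fun x => ⟨σ h₂ x, hmap _ x.2⟩
      have hf : Function.Injective f := fun x y h => Subtype.ext (act_injective σ _ (congrArg Subtype.val h))
      obtain ⟨x, hx⟩ := Finite.injective_iff_surjective.1 hf ⟨_, ha⟩
      rw [← act_injective σ _ (congrArg Subtype.val hx)]
      exact x.2
    have hsk : s₂ * k ∈ M := mul_mem (H.setup.sleM (pow_mem hs₁ _)) (H.ker_le hk)
    apply H.setup.proper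
    rw [eq_top_iff, ← hgtop]
    refine sup_le H.setup.sleM ?_
    rintro _ ⟨s, hs, rfl⟩
    obtain ⟨t, ht, hts⟩ := exists_S H D (conj_unipotents ((stab σ L).inv_mem hh₂) (le_unipotents D hs))
    rw [inv_inv] at hts
    set u := (h₂ * t * h₂⁻¹)⁻¹ * s
    have hu : u ∈ σ.ker := by
      rw [MonoidHom.mem_ker]
      have : u = h₂ * (t⁻¹ * (h₂⁻¹ * s * h₂)) * h₂⁻¹ := by simp only [u]; group
      rw [this, map_mul, map_mul σ h₂, map_mul σ t⁻¹, hts, ← map_mul σ t⁻¹, inv_mul_cancel, map_one, mul_one,
        ← map_mul, mul_inv_cancel, map_one]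
    show g * s * g⁻¹ ∈ M
    have : g * s * g⁻¹ = ((s₂ * k) * t * (s₂ * k)⁻¹) * (g * u * g⁻¹) := by simp only [u, h₂]; group
    rw [this]
    refine mul_mem (mul_mem (mul_mem hsk (H.setup.sleM ht)) (inv_mem hsk)) (hkM ?_)
    exact (inferInstance : σ.ker.Normal).conj_mem u hu g
  · -- coprime action
    intro k hk
    set σu := σ.toHomUnits
    set SA := S.map σu
    set KA := φ.ker.map σu
    haveI : IsMulCommutative SA := ⟨⟨by
      rintro ⟨_, a, ha, rfl⟩ ⟨_, b, hb, rfl⟩
      refine Subtype.ext (Units.ext ?_)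
      show σ a * σ b = σ b * σ a
      rw [← map_mul, ← map_mul, show a * b = (a * b * a⁻¹ * b⁻¹) * (b * a) by group, map_mul,
        D.triv _ (H.commutator_mem ha hb), one_mul]⟩⟩
    have hexp : ∀ x ∈ SA, x ^ p = 1 := by
      rintro _ ⟨a, ha, rfl⟩
      rw [← map_pow]
      exact Units.ext (D.triv _ (H.pow_mem ha))
    have hcardSA : Nat.card SA = p ^ n := by
      rw [← H.relIndex, ← Subgroup.relIndex_ker, ← Subgroup.inf_relIndex_right, ← Subgroup.inf_relIndex_right Q]
      congr 1
      exact le_antisymm (fun x hx => ⟨hSk ⟨hx.2, (congrArg Units.val (MonoidHom.mem_ker.1 hx.1) : σ x = 1)⟩, hx.2⟩)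
        (fun x hx => ⟨MonoidHom.mem_ker.2 (Units.ext (D.triv x hx.1)), hx.2⟩)
    have hnc : ¬ IsCyclic SA := by
      intro hcy
      obtain ⟨x, hx⟩ := hcy.exists_generator
      have h1 : Nat.card SA ≤ p := by
        rw [← orderOf_eq_card_of_forall_mem_zpowers hx]
        exact Nat.le_of_dvd (Fact.out : p.Prime).pos (orderOf_dvd_of_pow_eq_one (Subtype.ext (by
          simpa using hexp x x.2)))
      rw [hcardSA] at h1
      have h2 : p ^ 2 ≤ p ^ 1 := (Nat.pow_le_pow_right (Fact.out : p.Prime).pos hn).trans (by rwa [pow_one])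
      exact absurd ((Nat.pow_le_pow_iff_right (Fact.out : p.Prime).one_lt).1 h2) (by norm_num)
    have hnorm : SA ≤ Subgroup.normalizer (KA : Set (AddMonoid.End A)ˣ) := Subgroup.le_normalizer_iff.2 (by
      rintro _ ⟨s, -, rfl⟩ _ ⟨t, ht, rfl⟩
      exact ⟨s * t * s⁻¹, (inferInstance : φ.ker.Normal).conj_mem t ht s, by simp⟩)
    have hcop : (Nat.card SA).Coprime (Nat.card KA) := by
      rw [hcardSA]
      refine Nat.Coprime.pow_left _ (((Fact.out : p.Prime).coprime_iff_not_dvd).2 fun hd => ?_)
      obtain ⟨⟨_, t, ht, rfl⟩, hto⟩ := exists_prime_orderOf_dvd_card' p hd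
      rw [← Subgroup.orderOf_coe] at hto
      replace hto : orderOf (σu t) = p := hto
      obtain ⟨a, m, hm, e⟩ := Nat.exists_eq_pow_mul_and_not_dvd (orderOf_pos t).ne' p (Fact.out : p.Prime).ne_one
      have hkp : IsPGroup p (Subgroup.zpowers (t ^ m)) := by
        have h1 : (t ^ m) ^ p ^ a = 1 := by rw [← pow_mul, mul_comm, ← e, pow_orderOf_eq_one]
        obtain ⟨i, -, hi⟩ := (Nat.dvd_prime_pow (Fact.out : p.Prime)).1 (orderOf_dvd_of_pow_eq_one h1)
        exact IsPGroup.of_card (n := i) (by rw [Nat.card_zpowers, hi])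
      have h2 := coprime_ker_image H D (t ^ m) (by rw [map_pow, MonoidHom.mem_ker.1 ht, one_pow]) hkp
      have h3 : (σu t) ^ m = 1 := by rw [← map_pow]; exact Units.ext h2
      exact hm (hto ▸ orderOf_dvd_of_pow_eq_one h3)
    suffices hKA : KA ≤ (stab σ L).map σu by
      obtain ⟨t, ht, hte⟩ := hKA ⟨k, hk, rfl⟩
      intro a
      have : σ k = σ t := congrArg Units.val hte.symm
      rw [this]; exact ht a
    rw [← CfsgLib.Coprime.iSup_centralizer_singleton hnc hnorm hcop]
    refine iSup₂_le fun a ha => ?_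
    obtain ⟨⟨s, hs, rfl⟩, hs1⟩ := ha
    have hsQ : s ∉ Q := fun h => hs1 (Units.ext (D.triv s h))
    rintro _ ⟨⟨t, ht, rfl⟩, htc⟩
    refine ⟨t, ?_, rfl⟩
    have hc : σ t * σ s = σ s * σ t := congrArg Units.val (Subgroup.mem_centralizer_singleton_iff.1 htc)
    have hmap : ∀ l ∈ L, σ t l ∈ L := fun l hl => by
      refine fixed_eq H D hs hsQ ?_
      rw [← act_mul, map_mul, ← hc, ← map_mul, act_mul, D.fixed s hs l hl]
    refine fun a => ⟨fun ha => ?_, hmap a⟩
    let f : L → L := fun x => ⟨σ t x, hmap _ x.2⟩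
    have hf : Function.Injective f := fun x y h => Subtype.ext (act_injective σ _ (congrArg Subtype.val h))
    obtain ⟨x, hx⟩ := Finite.injective_iff_surjective.1 hf ⟨_, ha⟩
    rw [← act_injective σ _ (congrArg Subtype.val hx)]
    exact x.2

theorem stab_of_map {h : G} (hh : ∀ s ∈ S, φ (h * s * h⁻¹) ∈ S.map φ) : h ∈ stab σ L := by
  classical
  have hle : S ⊔ φ.ker ≤ stab σ L := sup_le (fun s hs => stab_of_mem D hs) (ker_le_stab H D)
  set R := S ⊔ φ.ker
  obtain ⟨P, hP⟩ := H.setup.sylow
  have hconj : S.map (MulAut.conj h).toMonoidHom ≤ R := by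
    rintro _ ⟨s, hs, rfl⟩
    obtain ⟨s', hs', he⟩ := hh s hs
    have hk : s'⁻¹ * (h * s * h⁻¹) ∈ φ.ker := by
      rw [MonoidHom.mem_ker, map_mul, map_inv, he, inv_mul_cancel]
    have := mul_mem (Subgroup.mem_sup_left hs' : s' ∈ R) (Subgroup.mem_sup_right hk)
    rwa [mul_inv_cancel_left] at this
  have hPR : (P : Subgroup G) ≤ R := hP ▸ le_sup_left
  have hhR : ((h • P : Sylow p G) : Subgroup G) ≤ R := by
    rw [Sylow.coe_subgroup_smul, hP]
    exact hconj
  obtain ⟨r, hr⟩ := MulAction.exists_smul_eq R (P.subtype hPR) ((h • P).subtype hhR)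
  have hmapeq : S.map (MulAut.conj (r : G)).toMonoidHom = S.map (MulAut.conj h).toMonoidHom := by
    have h1 : (r • P.subtype hPR) = ((r : G) • P).subtype (by
        rw [Sylow.coe_subgroup_smul, hP]
        rintro _ ⟨s, hs, rfl⟩
        exact mul_mem (mul_mem r.2 (Subgroup.mem_sup_left hs)) (inv_mem r.2)) := by
      exact Sylow.smul_subtype hPR r
    rw [h1] at hr
    have h2 := congrArg (fun T : Sylow p G => (T : Subgroup G)) (Sylow.subtype_injective hr)
    simp only [Sylow.coe_subgroup_smul, hP] at h2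
    exact h2
  obtain ⟨s₁, hs₁, hs₁Q⟩ : ∃ s ∈ S, s ∉ Q := by
    by_contra! hh'
    have := H.relIndex
    rw [Subgroup.relIndex_eq_one.2 hh'] at this
    exact (one_lt H D).ne this
  have hmap : ∀ l ∈ L, σ h l ∈ L := fun l hl => by
    obtain ⟨t, ht, hte⟩ : (r : G) * s₁ * (r : G)⁻¹ ∈ S.map (MulAut.conj h).toMonoidHom :=
      hmapeq ▸ ⟨s₁, hs₁, rfl⟩
    replace hte : h * t * h⁻¹ = (r : G) * s₁ * (r : G)⁻¹ := hte
    have h1 : σ ((r : G) * s₁ * (r : G)⁻¹) (σ h l) = σ h l := by
      rw [← hte, ← act_mul, inv_mul_cancel_right, act_mul, D.fixed t ht l hl]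
    rw [act_mul, act_mul] at h1
    have h2 := fixed_eq H D hs₁ hs₁Q (act_injective σ (r : G) (h1.trans (act_inv' σ (r : G) (σ h l)).symm))
    have h3 := (hle r.2 (σ (r : G)⁻¹ (σ h l))).2 h2
    rwa [act_inv'] at h3
  refine fun a => ⟨fun ha => ?_, hmap a⟩
  let f : L → L := fun x => ⟨σ h x, hmap _ x.2⟩
  have hf : Function.Injective f := fun x y e => Subtype.ext (act_injective σ _ (congrArg Subtype.val e))
  obtain ⟨x, hx⟩ := Finite.injective_iff_surjective.1 hf ⟨_, ha⟩
  rw [← act_injective σ _ (congrArg Subtype.val hx)]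
  exact x.2

end LineModule

end CfsgLib.PushingUpRankOne
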