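/-
Coordinates on a module with a line for the Sylow subgroup: it is the natural `SL₂(q)`-module.
-/
import Cfsg.Agent.Lib.PushingUpRankOne.Natural

set_option autoImplicit false
set_option linter.unusedSectionVars false
set_option linter.style.haveILetI false

open Matrix CfsgLib.Perm.SL2Unipotent
open scoped MatrixGroups

namespace CfsgLib.PushingUpRankOne

open CfsgLib.LocalEvenB.PushingUp CfsgLib.LocalEvenB

variable {G : Type*} [Group G] [Finite G] {p : ℕ} [Fact p.Prime] {F : Type*} [Field F] [Fintype F]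
  {A : Type*} [AddCommGroup A] [Finite A]

omit [Fintype F] in
theorem center_apply {z : SL(2, F)} (hz : z ∈ Subgroup.center SL(2, F)) : z.1 0 1 = 0 ∧ z.1 1 0 = 0 := by
  obtain ⟨r, -, hr⟩ := Matrix.SpecialLinearGroup.mem_center_iff.1 hz
  rw [← hr]
  simp

omit [Finite G] [Fact p.Prime] in
/-- Two lifts of the projection sending `S` to unipotent elements are equal. -/
theorem lift_unique {S : Subgroup G} {φ : G →* PSL2 F} {g : G} (hgen : S ⊔ S.map (MulAut.conj g).toMonoidHom = ⊤)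
    {ρ ρ' : G →* SL(2, F)} (h : ∀ x, pr (ρ x) = φ x) (h' : ∀ x, pr (ρ' x) = φ x)
    (hu : ∀ s ∈ S, ∃ x, ρ s = up x) (hu' : ∀ s ∈ S, ∃ x, ρ' s = up x) : ρ = ρ' := by
  have hS : ∀ s ∈ S, ρ s = ρ' s := fun s hs => by
    obtain ⟨x, hx⟩ := hu s hs
    obtain ⟨y, hy⟩ := hu' s hs
    have h1 := (h s).trans (h' s).symm
    rw [hx, hy] at h1
    rw [hx, hy, pr_up_inj h1]
  have hle : S ⊔ S.map (MulAut.conj g).toMonoidHom ≤ ρ.eqLocus ρ' := by
    refine sup_le hS ?_
    rintro _ ⟨s, hs, rfl⟩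
    show ρ (g * s * g⁻¹) = ρ' (g * s * g⁻¹)
    simp only [map_mul, map_inv, hS s hs]
    have hz : (ρ g)⁻¹ * ρ' g ∈ Subgroup.center SL(2, F) := pr_eq_pr.1 ((h g).trans (h' g).symm)
    set z := (ρ g)⁻¹ * ρ' g with hzd
    rw [show ρ' g = ρ g * z by rw [hzd, mul_inv_cancel_left], _root_.mul_inv_rev]
    calc ρ g * ρ' s * (ρ g)⁻¹ = ρ g * (ρ' s * (z * z⁻¹)) * (ρ g)⁻¹ := by group
      _ = ρ g * ((z * ρ' s) * z⁻¹) * (ρ g)⁻¹ := by
        rw [← mul_assoc (ρ' s), Subgroup.mem_center_iff.1 hz (ρ' s)]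
      _ = _ := by group
  rw [hgen] at hle
  exact MonoidHom.ext fun x => hle (Subgroup.mem_top x)

namespace LineModule

variable {S Q M : Subgroup G} {n : ℕ} {φ : G →* PSL2 F} {σ : G →* AddMonoid.End A} {L : AddSubgroup A}
variable (H : Hyp p S Q M n φ) (D : LineModule p n S Q σ L)
include H D

/-- The module is natural. -/
theorem natural : ∃ (ρ : G →* SL(2, F)) (ψ : A ≃+ (Fin 2 → F)), Function.Surjective ρ ∧
    (∀ g, pr (ρ g) = φ g) ∧ (∀ g a, ψ (σ g a) = (ρ g).1 *ᵥ ψ a) ∧ (∀ a, a ∈ L ↔ ψ a 1 = 0) ∧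
    ∀ s ∈ S, ∃ x, ρ s = up x := by
  classical
  haveI := H.charP
  obtain ⟨g₀, hg₀, hgen⟩ := H.exists_opposite
  choose sx hsxS hsx using H.exists_up
  let vz : F → G := fun z => g₀ * sx (-z) * g₀⁻¹
  have hvz : ∀ z, φ (vz z) = pr (low z) := fun z => by
    simp only [vz]
    rw [map_mul, map_mul, map_inv, hg₀, hsx, SL2Natural.low_eq, map_mul, map_mul, map_inv]
  have hsU : ∀ s ∈ S, s ∈ unipotents σ L := fun s hs => le_unipotents D hs
  have hsadd : ∀ x y, σ (sx (x + y)) = σ (sx x * sx y) := fun x y =>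
    (eq_of_map H D (hsU _ (mul_mem (hsxS x) (hsxS y))) (hsxS (x + y))
      (by rw [map_mul, hsx, hsx, hsx, ← map_mul, up_mul])).symm
  have hsx0 : σ (sx 0) = 1 := D.triv _ (H.mem_Q_of_map (hsxS 0) (by rw [hsx, up_zero, map_one]))
  have hsxQ : ∀ x : F, x ≠ 0 → sx x ∉ Q := fun x hx h => hx (by
    have := H.map_Q _ h
    rw [hsx, ← map_one pr, ← up_zero] at this
    exact pr_up_inj this)
  -- the opposite line
  set L' : AddSubgroup A := L.map (σ g₀ : A →+ A) with hL'
  have hdisj : ∀ a ∈ L, a ∈ L' → a = 0 := by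
    rintro a ha ⟨l, hl, hla⟩
    refine D.noFix a fun x => ?_
    let R : Subgroup G :=
      { carrier := {x | σ x a = a}
        one_mem' := act_one σ a
        mul_mem' := fun {u w} hu hw => by
          show σ (u * w) a = a
          rw [act_mul, hw, hu]
        inv_mem' := fun {u} hu => by
          show σ u⁻¹ a = a
          conv_lhs => rw [← hu]
          exact act_inv σ u a }
    have hR : S ⊔ S.map (MulAut.conj g₀).toMonoidHom ≤ R := sup_le (fun s hs => D.fixed s hs a ha) (by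
      rintro _ ⟨s, hs, rfl⟩
      show σ (g₀ * s * g₀⁻¹) a = a
      have e : σ g₀ l = a := hla
      rw [← e, ← act_mul, inv_mul_cancel_right, act_mul, D.fixed s hs l hl])
    exact (hgen ▸ hR) (Subgroup.mem_top x)
  have hL'card : Nat.card L' = p ^ n := by
    rw [← D.cardL]
    exact (Nat.card_congr (AddSubgroup.equivMapOfInjective L (σ g₀ : A →+ A) (act_injective σ g₀)).toEquiv).symm
  -- the two families of maps
  let f : F → L' →+ L := fun x =>
    { toFun := fun b => ⟨σ (sx x) b - b, D.into _ (hsxS x) _⟩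
      map_zero' := Subtype.ext (by simp)
      map_add' := fun b c => Subtype.ext (by simp [map_add]; abel) }
  have hinto : ∀ z a, σ (vz z) a - a ∈ L' := fun z a => by
    refine ⟨σ (sx (-z)) (σ g₀⁻¹ a) - σ g₀⁻¹ a, D.into _ (hsxS _) _, ?_⟩
    show σ g₀ (σ (sx (-z)) (σ g₀⁻¹ a) - σ g₀⁻¹ a) = _
    rw [map_sub, act_inv', ← act_mul, ← act_mul]
  let e : F → L →+ L' := fun z =>
    { toFun := fun a => ⟨σ (vz z) a - a, hinto z a⟩
      map_zero' := Subtype.ext (by simp)
      map_add' := fun b c => Subtype.ext (by simp [map_add]; abel) }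
  have hvfix : ∀ z, ∀ b ∈ L', σ (vz z) b = b := by
    rintro z _ ⟨l, hl, rfl⟩
    show σ (g₀ * sx (-z) * g₀⁻¹) (σ g₀ l) = σ g₀ l
    rw [← act_mul, inv_mul_cancel_right, act_mul, D.fixed _ (hsxS _) l hl]
  have hsfix : ∀ x, ∀ a ∈ L, σ (sx x) a = a := fun x a ha => D.fixed _ (hsxS x) a ha
  have hf_apply : ∀ x (b : L'), σ (sx x) b = b + f x b := fun x b => by simp [f]
  have he_apply : ∀ z (a : L), σ (vz z) a = a + e z a := fun z a => by simp [e]
  have hfadd : ∀ x y b, f (x + y) b = f x b + f y b := fun x y b => Subtype.ext (by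
    show σ (sx (x + y)) (b : A) - b = (σ (sx x) (b : A) - b) + (σ (sx y) (b : A) - b)
    rw [hsadd, act_mul]
    have h1 := hf_apply y b
    rw [h1, map_add, hsfix x _ (f y b).2]
    abel)
  have hfneg : ∀ x b, f (-x) b = -f x b := fun x b => eq_neg_of_add_eq_zero_left (by
    rw [← hfadd, neg_add_cancel]
    exact Subtype.ext (by show σ (sx 0) (b : A) - b = 0; rw [hsx0]; exact sub_self _))
  have hfinj : ∀ x : F, x ≠ 0 → Function.Bijective (f x) := fun x hx => by
    have hinj : Function.Injective (f x) := (injective_iff_map_eq_zero (f x)).2 fun b hb => by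
      have hb' : σ (sx x) (b : A) = b := by rw [hf_apply, hb]; simp
      exact Subtype.ext (hdisj _ (fixed_eq H D (hsxS x) (hsxQ x hx) hb') b.2)
    exact (Nat.bijective_iff_injective_and_card _).2 ⟨hinj, by rw [hL'card, D.cardL]⟩
  -- the two relations
  have hrel : ∀ x : F, x ≠ 0 → (∀ a : L, f x (e x⁻¹ a) = a) ∧
      ∀ z (b : L'), f (-(x ^ 2 * z)) b = -f x (e z (f x b)) := by
    intro x hx
    set v := vz x⁻¹
    set h := v⁻¹ * (sx x * g₀)
    have hh : h ∈ stab σ L := by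
      refine stab_of_map H D fun s hs => ?_
      obtain ⟨y, hy⟩ := H.exists_param hs
      obtain ⟨t, ht, hte⟩ := H.exists_up (x ^ 2 * y)
      refine ⟨t, ht, ?_⟩
      have hh' : φ h = pr (low (-x⁻¹) * (up x * SL2Natural.wE 1)) := by
        rw [map_mul, map_mul, map_inv, hvz, hsx, hg₀, ← map_inv, low_inv, map_mul, map_mul]
      rw [map_mul, map_mul, map_inv, hh', hy, hte, ← map_inv, ← map_mul, ← map_mul]
      congr 1
      rw [eq_mul_inv_iff_mul_eq]
      apply sl_ext <;>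
        simp [Matrix.SpecialLinearGroup.coe_mul, up_val, low_val, SL2Natural.wE_val one_ne_zero] <;>
        (try field_simp) <;> (try ring_nf) <;> simp
    have hline : ∀ a ∈ L, ∃ b ∈ L', σ v a = σ (sx x) b := by
      intro a ha
      refine ⟨σ g₀ (σ h⁻¹ a), ⟨_, ((stab σ L).inv_mem hh a).2 ha, rfl⟩, ?_⟩
      rw [← act_mul, ← act_mul]
      congr 2
      simp only [h]; group
    refine ⟨fun a => ?_, fun z b => ?_⟩
    · obtain ⟨b, hb, hab⟩ := hline a a.2
      have h1 := hf_apply x ⟨b, hb⟩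
      rw [he_apply, h1] at hab
      have h2 : (a : A) - f x ⟨b, hb⟩ = b - e x⁻¹ a := by
        rw [sub_eq_sub_iff_add_eq_add]
        linear_combination (norm := abel) hab
      have h3 := hdisj _ (sub_mem a.2 (f x ⟨b, hb⟩).2) (h2 ▸ sub_mem hb (e x⁻¹ a).2)
      have h4 : (e x⁻¹ a : A) = b := by
        rw [h3] at h2
        exact (sub_eq_zero.1 h2.symm).symm
      have h5 : e x⁻¹ a = ⟨b, hb⟩ := Subtype.ext h4
      rw [h5]
      exact Subtype.ext (sub_eq_zero.1 h3).symm
    · set t := v⁻¹ * (sx x * vz z * (sx x)⁻¹) * v with ht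
      have htu : t ∈ unipotents σ L := by
        have : t = h * sx (-z) * h⁻¹ := by simp only [ht, h, vz]; group
        rw [this]
        exact conj_unipotents hh (hsU _ (hsxS _))
      have hφt : φ t = φ (sx (-(x ^ 2 * z))) := by
        rw [map_mul, map_mul, map_mul, map_mul, map_inv, map_inv, hvz, hvz, hsx, hsx, ← map_inv, ← map_inv,
          ← map_mul, ← map_mul, ← map_mul, ← map_mul, low_inv, up_inv]
        congr 1
        apply sl_ext <;> simp [Matrix.SpecialLinearGroup.coe_mul, up_val, low_val] <;> field_simp <;> ring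
      have hσ := eq_of_map H D htu (hsxS _) hφt
      have h1 : σ v (σ (sx (-(x ^ 2 * z))) b) = σ (sx x * vz z * (sx x)⁻¹) (σ v b) := by
        rw [← hσ, ← act_mul, ← act_mul]
        congr 2
        simp only [ht]; group
      have h2 : σ (sx x)⁻¹ (b : A) = b - f x b := by
        apply act_injective σ (sx x)
        rw [act_inv', map_sub, hf_apply, hsfix x _ (f x b).2]
        abel
      rw [hvfix _ b b.2, hf_apply, map_add, hvfix _ b b.2, he_apply, act_mul, act_mul, h2, map_sub,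
        hvfix _ b b.2, he_apply, map_sub, map_add, hf_apply, hf_apply x (e z (f x b)), hsfix x _ (f x b).2] at h1
      have h3 : (f (-(x ^ 2 * z)) b : A) + f x (e z (f x b)) =
          -(e x⁻¹ (f (-(x ^ 2 * z)) b) : A) - e z (f x b) := by
        linear_combination (norm := abel) h1
      have h4 := hdisj _ (add_mem (f (-(x ^ 2 * z)) b).2 (f x (e z (f x b))).2)
        (h3 ▸ sub_mem (neg_mem (e x⁻¹ _).2) (e z _).2)
      exact Subtype.ext (eq_neg_of_add_eq_zero_left h4)
  -- the field acting on the line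
  let f1 : L' ≃+ L := AddEquiv.ofBijective (f 1) (hfinj 1 one_ne_zero)
  let θ : F → AddMonoid.End L := fun x => (f x).comp f1.symm.toAddMonoidHom
  have hθ : ∀ x a, θ x a = f x (f1.symm a) := fun _ _ => rfl
  have hθ1 : ∀ a, θ 1 a = a := fun a => f1.apply_symm_apply a
  have hθadd : ∀ x y a, θ (x + y) a = θ x a + θ y a := fun x y a => hfadd x y _
  have hθ0 : ∀ a, θ 0 a = 0 := fun a => by
    have := hθadd 0 0 a
    rwa [add_zero, left_eq_add] at this
  have he : ∀ z (a : L), e z a = f1.symm (θ z a) := by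
    intro z a
    apply f1.injective
    rw [AddEquiv.apply_symm_apply]
    by_cases hz : z = 0
    · subst hz
      rw [hθ0]
      have h1 := (hrel 1 one_ne_zero).2 0 (f1.symm a)
      have h0 : f (-(1 ^ 2 * 0)) (f1.symm a) = 0 := by rw [mul_zero, neg_zero]; exact hθ0 a
      rw [h0, eq_comm, neg_eq_zero] at h1
      rw [show f 1 (f1.symm a) = a from hθ1 a] at h1
      exact h1
    · have h1 := (hrel 1 one_ne_zero).2 z (f1.symm a)
      rw [one_pow, one_mul, hfneg, neg_inj, show f 1 (f1.symm a) = a from hθ1 a] at h1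
      exact h1.symm
  have hinv : ∀ x : F, x ≠ 0 → ∀ a, θ x (θ x⁻¹ a) = a := fun x hx a => by
    have := (hrel x hx).1 a
    rw [he] at this
    exact this
  have hjordan : ∀ x w : F, x ≠ 0 → ∀ a, θ (x ^ 2 * w) a = θ x (θ w (θ x a)) := fun x w hx a => by
    have := (hrel x hx).2 w (f1.symm a)
    rw [hfneg, neg_inj, he] at this
    exact this
  obtain ⟨γ, hγ⟩ : ∃ γ : Fˣ, ∀ u : Fˣ, ∃ k : ℕ, γ ^ k = u := by
    obtain ⟨γ, hγ⟩ := IsCyclic.exists_generator (α := Fˣ)
    exact ⟨γ, fun u => (Submonoid.mem_powers_iff _ _).1 (mem_powers_iff_mem_zpowers.2 (hγ u))⟩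
  have hpow : ∀ k a, θ ((γ : F) ^ k) a = ((θ (γ : F)) ^ k) a := by
    intro k
    induction k using Nat.strong_induction_on with
    | _ k ih =>
      match k with
      | 0 => intro a; rw [pow_zero, pow_zero]; exact hθ1 a
      | 1 => intro a; rw [pow_one, pow_one]
      | k + 2 =>
        intro a
        rw [show (γ : F) ^ (k + 2) = (γ : F) ^ 2 * (γ : F) ^ k by ring, hjordan _ _ γ.ne_zero,
          ih k (by omega), pow_succ' (θ (γ : F)) (k + 1), pow_succ (θ (γ : F)) k]
        rfl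
  have hθmul : ∀ x y a, θ (x * y) a = θ x (θ y a) := by
    intro x y a
    by_cases hx : x = 0
    · rw [hx, zero_mul, hθ0, hθ0]
    by_cases hy : y = 0
    · rw [hy, mul_zero, hθ0, map_zero]
    obtain ⟨i, hi⟩ := hγ (Units.mk0 x hx)
    obtain ⟨j, hj⟩ := hγ (Units.mk0 y hy)
    replace hi : (γ : F) ^ i = x := by rw [← Units.val_pow_eq_pow_val, hi]; rfl
    replace hj : (γ : F) ^ j = y := by rw [← Units.val_pow_eq_pow_val, hj]; rfl
    rw [← hi, ← hj, ← pow_add, hpow, hpow, hpow, pow_add]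
    rfl
  -- coordinates
  obtain ⟨l, hl, hl0⟩ := exists_ne H D
  set l₀ : L := ⟨l, hl⟩
  have hθinj : ∀ x, θ x l₀ = 0 → x = 0 := fun x hx => by
    by_contra hne
    apply hl0
    have := hθmul x⁻¹ x l₀
    rw [inv_mul_cancel₀ hne, hθ1, hx, map_zero] at this
    exact congrArg Subtype.val this
  let Φ : (Fin 2 → F) →+ A :=
    { toFun := fun v => (θ (v 0) l₀ : A) + (f1.symm (θ (v 1) l₀) : L')
      map_zero' := by simp [hθ0]
      map_add' := fun v w => by
        simp only [Pi.add_apply, hθadd, map_add, AddSubgroup.coe_add]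
        abel }
  have hΦinj : Function.Injective Φ := (injective_iff_map_eq_zero Φ).2 fun v hv => by
    replace hv : (θ (v 0) l₀ : A) + (f1.symm (θ (v 1) l₀) : L') = 0 := hv
    have h0 : (θ (v 0) l₀ : A) = 0 := hdisj _ (θ (v 0) l₀).2 (by
      rw [eq_neg_of_add_eq_zero_left hv]; exact neg_mem (f1.symm (θ (v 1) l₀)).2)
    rw [h0, zero_add] at hv
    have h1 : θ (v 1) l₀ = 0 := f1.symm.injective (by rw [map_zero]; exact Subtype.ext hv)
    ext i
    fin_cases i
    · exact hθinj _ (Subtype.ext h0)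
    · exact hθinj _ h1
  have hΦbij : Function.Bijective Φ := (Nat.bijective_iff_injective_and_card _).2 ⟨hΦinj, by
    rw [D.cardA, Nat.card_fun, Nat.card_fin, Nat.card_eq_fintype_card, H.card, sq]⟩
  let ψ : A ≃+ (Fin 2 → F) := (AddEquiv.ofBijective Φ hΦbij).symm
  have hψ : ∀ v, ψ (Φ v) = v := fun v => (AddEquiv.ofBijective Φ hΦbij).symm_apply_apply v
  let G' : Subgroup G :=
    { carrier := {g | ∃ m : SL(2, F), pr m = φ g ∧ ∀ v, σ g (Φ v) = Φ (m.1 *ᵥ v)}
      one_mem' := ⟨1, by simp, fun v => by rw [act_one]; simp⟩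
      mul_mem' := fun {g h} ⟨m, hm, hmv⟩ ⟨m', hm', hmv'⟩ => ⟨m * m', by rw [map_mul, map_mul, hm, hm'],
        fun v => by rw [act_mul, hmv', hmv, Matrix.SpecialLinearGroup.coe_mul, Matrix.mulVec_mulVec]⟩
      inv_mem' := fun {g} ⟨m, hm, hmv⟩ => ⟨m⁻¹, by rw [map_inv, map_inv, hm], fun v => by
        apply act_injective σ g
        rw [act_inv', hmv, Matrix.mulVec_mulVec, ← Matrix.SpecialLinearGroup.coe_mul, mul_inv_cancel,
          Matrix.SpecialLinearGroup.coe_one, Matrix.one_mulVec]⟩ }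
  have hup : ∀ s ∈ S, ∀ x, φ s = pr (up x) → ∀ v, σ s (Φ v) = Φ ((up x).1 *ᵥ v) := by
    intro s hs x hx v
    rw [eq_of_map H D (hsU s hs) (hsxS x) (hx.trans (hsx x).symm)]
    show σ (sx x) ((θ (v 0) l₀ : A) + (f1.symm (θ (v 1) l₀) : L')) = _
    rw [map_add, hsfix x _ (θ (v 0) l₀).2, hf_apply]
    show _ = (θ (((up x).1 *ᵥ v) 0) l₀ : A) + (f1.symm (θ (((up x).1 *ᵥ v) 1) l₀) : L')
    rw [show ((up x).1 *ᵥ v) 0 = v 0 + x * v 1 by simp [up_val, Matrix.mulVec, dotProduct, Fin.sum_univ_two],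
      show ((up x).1 *ᵥ v) 1 = v 1 by simp [up_val, Matrix.mulVec, dotProduct, Fin.sum_univ_two], hθadd,
      hθmul, AddSubgroup.coe_add]
    show _ + (_ + (θ x (θ (v 1) l₀) : A)) = _
    abel
  have hlow : ∀ z v, σ (vz z) (Φ v) = Φ ((low z).1 *ᵥ v) := by
    intro z v
    show σ (vz z) ((θ (v 0) l₀ : A) + (f1.symm (θ (v 1) l₀) : L')) = _
    rw [map_add, hvfix z _ (f1.symm _).2, he_apply, he]
    show _ = (θ (((low z).1 *ᵥ v) 0) l₀ : A) + (f1.symm (θ (((low z).1 *ᵥ v) 1) l₀) : L')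
    rw [show ((low z).1 *ᵥ v) 0 = v 0 by simp [low_val, Matrix.mulVec, dotProduct, Fin.sum_univ_two],
      show ((low z).1 *ᵥ v) 1 = z * v 0 + v 1 by simp [low_val, Matrix.mulVec, dotProduct, Fin.sum_univ_two],
      hθadd, hθmul, map_add, AddSubgroup.coe_add]
    abel
  have hG' : ∀ g, g ∈ G' := by
    have hle : S ⊔ S.map (MulAut.conj g₀).toMonoidHom ≤ G' := by
      refine sup_le (fun s hs => ?_) ?_
      · obtain ⟨x, hx⟩ := H.exists_param hs
        exact ⟨up x, hx.symm, hup s hs x hx⟩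
      · rintro _ ⟨s, hs, rfl⟩
        obtain ⟨x, hx⟩ := H.exists_param hs
        refine ⟨low (-x), ?_, fun v => ?_⟩
        · show _ = φ (g₀ * s * g₀⁻¹)
          rw [map_mul, map_mul, map_inv, hg₀, hx, SL2Natural.low_eq, neg_neg, map_mul, map_mul, map_inv]
        · show σ (g₀ * s * g₀⁻¹) (Φ v) = _
          rw [← hlow]
          simp only [vz, neg_neg]
          congr 1
          rw [map_mul, map_mul, map_mul, map_mul, eq_of_map H D (hsU s hs) (hsxS x) (hx.trans (hsx x).symm)]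
    exact fun g => hle (hgen ▸ Subgroup.mem_top g)
  have huniq : ∀ {m m' : SL(2, F)}, (∀ v, Φ (m.1 *ᵥ v) = Φ (m'.1 *ᵥ v)) → m = m' := fun {m m'} h => by
    refine inv_mul_eq_one.1 (BaumannModule.eq_one_of_fix fun v => ?_)
    rw [Matrix.SpecialLinearGroup.coe_mul, ← Matrix.mulVec_mulVec, ← hΦinj (h v), Matrix.mulVec_mulVec,
      ← Matrix.SpecialLinearGroup.coe_mul, inv_mul_cancel, Matrix.SpecialLinearGroup.coe_one, Matrix.one_mulVec]
  choose m hm hmv using hG'
  let ρ : G →* SL(2, F) :=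
    { toFun := m
      map_one' := huniq fun v => by rw [← hmv, act_one]; simp
      map_mul' := fun g h => huniq fun v => by
        rw [← hmv, act_mul, hmv h, hmv g, Matrix.SpecialLinearGroup.coe_mul, Matrix.mulVec_mulVec] }
  have hρS : ∀ s ∈ S, ∃ x, ρ s = up x := fun s hs => by
    obtain ⟨x, hx⟩ := H.exists_param hs
    exact ⟨x, huniq fun v => (hmv s v).symm.trans (hup s hs x hx v)⟩
  refine ⟨ρ, ψ, fun y => ?_, hm, fun g a => ?_, fun a => ?_, hρS⟩
  · refine SL2Natural.sl_induction (P := fun y => ∃ g, ρ g = y) ⟨1, map_one ρ⟩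
      (fun a b ⟨g, hg⟩ ⟨h, hh⟩ => ⟨g * h, by rw [map_mul, hg, hh]⟩) (fun x => ?_) (fun z => ?_) y
    · exact ⟨sx x, huniq fun v => (hmv _ v).symm.trans (hup _ (hsxS x) x (hsx x) v)⟩
    · exact ⟨vz z, huniq fun v => (hmv _ v).symm.trans (hlow z v)⟩
  · obtain ⟨v, rfl⟩ := hΦbij.2 a
    rw [hmv, hψ, hψ]
    rfl
  · obtain ⟨v, rfl⟩ := hΦbij.2 a
    rw [hψ]
    show (θ (v 0) l₀ : A) + (f1.symm (θ (v 1) l₀) : L') ∈ L ↔ _
    rw [AddSubgroup.add_mem_cancel_left _ (θ (v 0) l₀).2]
    constructor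
    · intro h
      refine hθinj _ (f1.symm.injective ?_)
      rw [map_zero]
      exact Subtype.ext (hdisj _ h (f1.symm (θ (v 1) l₀)).2)
    · intro h
      rw [h, hθ0, map_zero]
      exact zero_mem _

end LineModule

end CfsgLib.PushingUpRankOne
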