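/-
Sections of a group that are natural `SL₂(q)`-modules.
-/
import Cfsg.Agent.Lib.PushingUpRankOne.Coordinates

set_option autoImplicit false
set_option linter.unusedSectionVars false
set_option linter.style.haveILetI false

open Matrix CfsgLib.Perm.SL2Unipotent
open scoped MatrixGroups

namespace CfsgLib.PushingUpRankOne

open CfsgLib.LocalEvenB.PushingUp CfsgLib.LocalEvenB

variable {G : Type*} [Group G] [Finite G] {p : ℕ} [Fact p.Prime] {F : Type*} [Field F] [Fintype F]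

/-- A section `N / N'` of order `q²` with a line `L / N'` for the Sylow subgroup `S`. -/
structure LineSection (p n : ℕ) (S Q N L N' : Subgroup G) : Prop where
  normal : N.Normal
  normal' : N'.Normal
  le_line : N' ≤ L
  line_le : L ≤ N
  comm : ∀ x ∈ N, ∀ y ∈ N, x * y * x⁻¹ * y⁻¹ ∈ N'
  pow : ∀ x ∈ N, x ^ p ∈ N'
  triv : ∀ q ∈ Q, ∀ x ∈ N, q * x * q⁻¹ * x⁻¹ ∈ N'
  fixed : ∀ s ∈ S, ∀ l ∈ L, s * l * s⁻¹ * l⁻¹ ∈ N'
  into : ∀ s ∈ S, ∀ x ∈ N, s * x * s⁻¹ * x⁻¹ ∈ L
  card_line : N'.relIndex L = p ^ n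
  card_top : L.relIndex N = p ^ n
  noFix : ∀ x ∈ N, (∀ g : G, g * x * g⁻¹ * x⁻¹ ∈ N') → x ∈ N'

/-- `ψ` presents `N` as the natural module of `ρ` with kernel `N'` and line `L`. -/
structure NaturalMap (S : Subgroup G) (φ : G →* PSL2 F) (ρ : G →* SL(2, F)) (N L N' : Subgroup G)
    (ψ : G → Fin 2 → F) : Prop where
  surj_rho : Function.Surjective ρ
  compat : ∀ g, pr (ρ g) = φ g
  upper : ∀ s ∈ S, ∃ x, ρ s = up x
  map_mul : ∀ x ∈ N, ∀ y ∈ N, ψ (x * y) = ψ x + ψ y
  surj : ∀ v, ∃ x ∈ N, ψ x = v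
  ker : ∀ x ∈ N, ψ x = 0 ↔ x ∈ N'
  line : ∀ x ∈ N, x ∈ L ↔ ψ x 1 = 0
  act : ∀ g : G, ∀ x ∈ N, ψ (g * x * g⁻¹) = (ρ g).1 *ᵥ ψ x

namespace LineSection

variable {S Q M N L N' : Subgroup G} {n : ℕ} {φ : G →* PSL2 F}

theorem natural (H : Hyp p S Q M n φ) (D : LineSection p n S Q N L N') :
    ∃ (ρ : G →* SL(2, F)) (ψ : G → Fin 2 → F), NaturalMap S φ ρ N L N' ψ := by
  classical
  haveI := D.normal
  haveI := D.normal'
  set K := N'.subgroupOf N with hK
  haveI : K.Normal := inferInstance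
  let W := N ⧸ K
  letI : CommGroup W :=
    { (inferInstance : Group W) with
      mul_comm := by
        intro a b
        obtain ⟨x, rfl⟩ := QuotientGroup.mk'_surjective K a
        obtain ⟨y, rfl⟩ := QuotientGroup.mk'_surjective K b
        rw [← map_mul, ← map_mul]
        refine (QuotientGroup.eq).2 ?_
        show (x * y)⁻¹ * (y * x) ∈ K
        have h := D.comm _ (inv_mem y.2) _ (inv_mem x.2)
        rw [Subgroup.mem_subgroupOf]
        simpa [mul_assoc] using h }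
  let cA : G → W →* W := fun g => QuotientGroup.map K K (MulAut.conjNormal g : N ≃* N).toMonoidHom
    (fun x hx => by
      rw [Subgroup.mem_comap, Subgroup.mem_subgroupOf]
      show ((MulAut.conjNormal g x : N) : G) ∈ N'
      rw [MulAut.conjNormal_apply]
      exact D.normal'.conj_mem _ hx g)
  have hcA : ∀ g (x : N), cA g (QuotientGroup.mk x) = QuotientGroup.mk (MulAut.conjNormal g x) := fun _ _ => rfl
  let σ : G →* AddMonoid.End (Additive W) :=
    { toFun := fun g => (MonoidHom.toAdditive (cA g) : Additive W →+ Additive W)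
      map_one' := AddMonoidHom.ext fun a => by
        obtain ⟨x, rfl⟩ := QuotientGroup.mk'_surjective K (Additive.toMul a)
        show Additive.ofMul (cA 1 (QuotientGroup.mk x)) = _
        rw [hcA, map_one]
        rfl
      map_mul' := fun g h => AddMonoidHom.ext fun a => by
        obtain ⟨x, hx⟩ := QuotientGroup.mk'_surjective K (Additive.toMul a)
        have ha : a = Additive.ofMul (QuotientGroup.mk x) := congrArg Additive.ofMul hx.symm
        subst ha
        show Additive.ofMul (cA (g * h) (QuotientGroup.mk x)) =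
          Additive.ofMul (cA g (cA h (QuotientGroup.mk x)))
        rw [hcA, hcA, hcA, map_mul]
        rfl }
  let mkA : N → Additive W := fun x => Additive.ofMul (QuotientGroup.mk x)
  have hsurjA : Function.Surjective mkA := fun a => by
    obtain ⟨x, hx⟩ := QuotientGroup.mk'_surjective K (Additive.toMul a)
    exact ⟨x, by show Additive.ofMul _ = _; exact congrArg Additive.ofMul hx⟩
  have hmkA_add : ∀ x y : N, mkA (x * y) = mkA x + mkA y := fun x y => rfl
  have hmkA0 : ∀ x : N, mkA x = 0 ↔ (x : G) ∈ N' := fun x => by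
    show (QuotientGroup.mk x : W) = 1 ↔ _
    rw [QuotientGroup.eq_one_iff]
    rfl
  have hσmk : ∀ g (x : N), σ g (mkA x) = mkA (MulAut.conjNormal g x) := fun g x => rfl
  have hdiff : ∀ g (x : N), σ g (mkA x) - mkA x = mkA (MulAut.conjNormal g x * x⁻¹) := fun g x => by
    rw [hσmk, hmkA_add, sub_eq_add_neg]
    rfl
  have hcoe : ∀ g (x : N), ((MulAut.conjNormal g x * x⁻¹ : N) : G) = g * x * g⁻¹ * (x : G)⁻¹ := fun g x => by
    simp
  let LA : AddSubgroup (Additive W) := Subgroup.toAddSubgroup ((L.subgroupOf N).map (QuotientGroup.mk' K))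
  have hLA : ∀ x : N, mkA x ∈ LA ↔ (x : G) ∈ L := fun x => by
    constructor
    · rintro ⟨y, hy, hyx⟩
      have h1 : (y : N)⁻¹ * x ∈ K := QuotientGroup.eq.1 hyx
      have h2 := mul_mem (show (y : G) ∈ L from hy) (D.le_line (show ((y⁻¹ * x : N) : G) ∈ N' from h1))
      simpa using h2
    · intro hx
      exact ⟨x, hx, rfl⟩
  have hcardK : Nat.card (Additive W) = p ^ n * p ^ n := by
    rw [← D.card_line]
    show Nat.card W = _
    rw [show Nat.card W = N'.relIndex N from rfl, ← Subgroup.relIndex_mul_relIndex N' L N D.le_line D.line_le,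
      D.card_top, D.card_line]
  have hcardL : Nat.card LA = p ^ n := by
    rw [← D.card_line]
    show Nat.card ↥((L.subgroupOf N).map (QuotientGroup.mk' K)) = _
    rw [← Subgroup.relIndex_ker, QuotientGroup.ker_mk', Subgroup.relIndex_subgroupOf D.line_le]
  have DM : LineModule p n S Q σ LA := by
    refine ⟨fun q hq => AddMonoidHom.ext fun a => ?_, fun s hs a ha => ?_, fun s hs a => ?_, hcardL, hcardK,
      fun a => ?_, fun a ha => ?_⟩
    · obtain ⟨x, rfl⟩ := hsurjA a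
      show σ q (mkA x) = mkA x
      rw [← sub_eq_zero, hdiff, hmkA0, hcoe]
      exact D.triv q hq x x.2
    · obtain ⟨x, rfl⟩ := hsurjA a
      rw [← sub_eq_zero, hdiff, hmkA0, hcoe]
      exact D.fixed s hs x ((hLA x).1 ha)
    · obtain ⟨x, rfl⟩ := hsurjA a
      rw [hdiff, hLA, hcoe]
      exact D.into s hs x x.2
    · obtain ⟨x, rfl⟩ := hsurjA a
      show p • Additive.ofMul (QuotientGroup.mk x : W) = 0
      rw [← ofMul_pow, ← QuotientGroup.mk_pow]
      exact (hmkA0 (x ^ p)).2 (by simpa using D.pow x x.2)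
    · obtain ⟨x, rfl⟩ := hsurjA a
      refine (hmkA0 x).2 (D.noFix x x.2 fun g => ?_)
      rw [← hcoe, ← hmkA0, ← hdiff, ha g, sub_self]
  obtain ⟨ρ, θ, h1, h2, h3, h4, h5⟩ := DM.natural H
  let ψ : G → Fin 2 → F := fun g => if hg : g ∈ N then θ (mkA ⟨g, hg⟩) else 0
  have hψ : ∀ x : N, ψ x = θ (mkA x) := fun x => dif_pos x.2
  refine ⟨ρ, ψ, h1, h2, h5, fun x hx y hy => ?_, fun v => ?_, fun x hx => ?_, fun x hx => ?_, fun g x hx => ?_⟩
  · have e := hψ (⟨x, hx⟩ * ⟨y, hy⟩)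
    rw [hmkA_add, map_add, ← hψ, ← hψ] at e
    exact e
  · obtain ⟨x, hx⟩ := hsurjA (θ.symm v)
    exact ⟨x, x.2, by rw [hψ, hx, AddEquiv.apply_symm_apply]⟩
  · rw [hψ ⟨x, hx⟩, θ.map_eq_zero_iff, hmkA0]
  · rw [← hLA ⟨x, hx⟩, h4, ← hψ]
  · have e := hψ (MulAut.conjNormal g ⟨x, hx⟩)
    rw [MulAut.conjNormal_apply] at e
    rw [e, ← hσmk, h3, ← hψ]

end LineSection

namespace NaturalMap

variable {S Q M N L N' : Subgroup G} {n : ℕ} {φ : G →* PSL2 F} {ρ : G →* SL(2, F)} {ψ : G → Fin 2 → F}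
  (D : NaturalMap S φ ρ N L N' ψ) (hN : N.Normal)
include D hN

/-- An element fixing a vector off the line modulo `N'` acts trivially. -/
theorem mem_line {s : G} (hs : s ∈ S) (hρ : ρ s ≠ 1) {x : G} (hx : x ∈ N)
    (h : s * x * s⁻¹ * x⁻¹ ∈ N') : x ∈ L := by
  have hm : s * x * s⁻¹ * x⁻¹ ∈ N := mul_mem (hN.conj_mem x hx s) (inv_mem hx)
  have h1 := D.map_mul _ hm _ hx
  rw [inv_mul_cancel_right, (D.ker _ hm).2 h, zero_add, D.act s x hx] at h1
  obtain ⟨t, ht⟩ := D.upper s hs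
  have h2 := congrFun h1 0
  rw [ht] at h2
  simp [up_val, Matrix.mulVec, dotProduct, Fin.sum_univ_two] at h2
  rcases h2 with h2 | h2
  · exact absurd (by rw [ht, h2, up_zero]) hρ
  · exact (D.line x hx).2 h2

/-- The elements acting trivially. -/
theorem ker_iff (g : G) : ρ g = 1 ↔ ∀ x ∈ N, g * x * g⁻¹ * x⁻¹ ∈ N' := by
  constructor
  · intro h x hx
    have hm : g * x * g⁻¹ * x⁻¹ ∈ N := mul_mem (hN.conj_mem x hx g) (inv_mem hx)
    have h1 := D.map_mul _ hm _ hx
    rw [inv_mul_cancel_right, D.act g x hx, h, Matrix.SpecialLinearGroup.coe_one, Matrix.one_mulVec,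
      right_eq_add] at h1
    exact (D.ker _ hm).1 h1
  · intro h
    refine BaumannModule.eq_one_of_fix fun v => ?_
    obtain ⟨x, hx, rfl⟩ := D.surj v
    have hm : g * x * g⁻¹ * x⁻¹ ∈ N := mul_mem (hN.conj_mem x hx g) (inv_mem hx)
    have h1 := D.map_mul _ hm _ hx
    rw [inv_mul_cancel_right, D.act g x hx, (D.ker _ hm).2 (h x hx), zero_add] at h1
    exact h1

/-- The section is irreducible. -/
theorem irreducible (hle : N' ≤ N) (U : Subgroup G) (hU : U.Normal) (h1 : N' ≤ U) (h2 : U ≤ N) :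
    U = N' ∨ U = N := by
  classical
  by_cases h : U ≤ N'
  · exact Or.inl (le_antisymm h h1)
  right
  refine le_antisymm h2 fun y hy => ?_
  obtain ⟨x, hxU, hxN'⟩ := SetLike.not_le_iff_exists.1 h
  have hx0 : ψ x ≠ 0 := fun e => hxN' ((D.ker x (h2 hxU)).1 e)
  have key : ∀ z ∈ N, (∃ u ∈ U, ψ u = ψ z) → z ∈ U := by
    rintro z hz ⟨u, hu, he⟩
    have hm : z * u⁻¹ ∈ N := mul_mem hz (inv_mem (h2 hu))
    have h3 := D.map_mul _ hm _ (h2 hu)
    rw [inv_mul_cancel_right, he, right_eq_add] at h3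
    have := mul_mem (h1 ((D.ker _ hm).1 h3)) hu
    rwa [inv_mul_cancel_right] at this
  refine key y hy ?_
  let X : AddSubgroup (Fin 2 → F) :=
    { carrier := {v | ∃ u ∈ U, ψ u = v}
      zero_mem' := ⟨1, one_mem _, (D.ker 1 (one_mem _)).2 (one_mem _)⟩
      add_mem' := fun {v w} ⟨u, hu, hv⟩ ⟨u', hu', hw⟩ => ⟨u * u', mul_mem hu hu',
        by rw [D.map_mul _ (h2 hu) _ (h2 hu'), hv, hw]⟩
      neg_mem' := fun {v} ⟨u, hu, hv⟩ => ⟨u⁻¹, inv_mem hu, by
        have h4 := D.map_mul _ (inv_mem (h2 hu)) _ (h2 hu)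
        rw [inv_mul_cancel, (D.ker 1 (one_mem _)).2 (one_mem _), hv] at h4
        exact eq_neg_of_add_eq_zero_left h4.symm⟩ }
  have hinv : ∀ m : SL(2, F), ∀ v ∈ X, m.1 *ᵥ v ∈ X := by
    rintro m v ⟨u, hu, rfl⟩
    obtain ⟨g, rfl⟩ := D.surj_rho m
    exact ⟨g * u * g⁻¹, hU.conj_mem u hu g, D.act g u (h2 hu)⟩
  -- a vector outside the axis
  obtain ⟨v, hv, hv1⟩ : ∃ v ∈ X, v 1 ≠ 0 := by
    by_cases hc : ψ x 1 = 0
    · refine ⟨_, hinv (low 1) (ψ x) ⟨x, hxU, rfl⟩, ?_⟩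
      have hx00 : ψ x 0 ≠ 0 := fun e => hx0 (by ext i; fin_cases i <;> assumption)
      simp [low_val, Matrix.mulVec, dotProduct, Fin.sum_univ_two, hc, hx00]
    · exact ⟨ψ x, ⟨x, hxU, rfl⟩, hc⟩
  have hax : ∀ a : F, (![a, 0] : Fin 2 → F) ∈ X := by
    intro a
    have h3 := X.sub_mem (hinv (up (a / v 1)) v hv) hv
    convert h3 using 1
    ext i
    fin_cases i <;> simp [up_val, Matrix.mulVec, dotProduct, Fin.sum_univ_two, hv1]
  have hay : ∀ a : F, (![0, a] : Fin 2 → F) ∈ X := by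
    intro a
    have h3 := X.sub_mem (hinv (low a) _ (hax 1)) (hax 1)
    convert h3 using 1
    ext i
    fin_cases i <;> simp [low_val, Matrix.mulVec, dotProduct, Fin.sum_univ_two]
  show ψ y ∈ X
  convert X.add_mem (hax (ψ y 0)) (hay (ψ y 1)) using 1
  ext i
  fin_cases i <;> simp

end NaturalMap

end CfsgLib.PushingUpRankOne
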