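/-
The module generated by the conjugates of `Ω₁(Z(S))` in a pushing-up situation.
-/
import Cfsg.Agent.Lib.PushingUpRankOne.Factor

set_option autoImplicit false
set_option linter.unusedSectionVars false
set_option linter.style.haveILetI false

open Matrix CfsgLib.Perm.SL2Unipotent
open scoped MatrixGroups commutatorElement

namespace CfsgLib.PushingUpRankOne

open CfsgLib.LocalEvenB.PushingUp CfsgLib.LocalEvenB CfsgLib.LocalEven.PushingUpClosure

variable {G : Type*} [Group G] [Finite G] {p : ℕ} [Fact p.Prime] {F : Type*} [Field F] [Fintype F]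

local notation "ℭ" X:max => Subgroup.centralizer (SetLike.coe X)

/-- `Ω₁(Z(S))` inside the ambient group. -/
def omegaZ (p : ℕ) (S : Subgroup G) : Subgroup G where
  carrier := {y | y ∈ S ∧ y ∈ ℭ S ∧ y ^ p = 1}
  one_mem' := ⟨one_mem _, one_mem _, one_pow _⟩
  mul_mem' := fun {a b} ⟨ha, ha', hap⟩ ⟨hb, hb', hbp⟩ => ⟨mul_mem ha hb, mul_mem ha' hb', by
    rw [(show Commute a b from (ha' b hb).symm).mul_pow, hap, hbp, one_mul]⟩
  inv_mem' := fun {a} ⟨ha, ha', hap⟩ => ⟨inv_mem ha, inv_mem ha', by rw [inv_pow, hap, inv_one]⟩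

/-- The normal closure of `Ω₁(Z(S))`. -/
def baseV (p : ℕ) (S : Subgroup G) : Subgroup G := Subgroup.normalClosure (omegaZ p S : Set G)

instance baseV_normal (p : ℕ) (S : Subgroup G) : (baseV p S).Normal := Subgroup.normalClosure_normal

/-- The fixed points on the module. -/
def baseC (p : ℕ) (S : Subgroup G) : Subgroup G := baseV p S ⊓ Subgroup.center G

instance baseC_normal (p : ℕ) (S : Subgroup G) : (baseC p S).Normal := Subgroup.normal_inf_normal _ _

omit [Finite G] [Fact p.Prime] in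
theorem omegaZ_le_baseV {S : Subgroup G} : omegaZ p S ≤ baseV p S := fun _ h => Subgroup.subset_normalClosure h

/-- A characteristic subgroup given inside the ambient group. -/
theorem characteristic_of_forall {S : Subgroup G} {T : Subgroup ↥S}
    (h : ∀ e : ↥S ≃* ↥S, ∀ x ∈ T, e x ∈ T) : T.Characteristic := by
  rw [Subgroup.characteristic_iff_map_le]
  rintro e _ ⟨x, hx, rfl⟩
  exact h e x hx

/-- The abelian version of the Thompson subgroup is characteristic. -/
theorem thompsonA_characteristic (P : Type*) [Group P] : (Cfsg.thompsonSubgroupA P).Characteristic := by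
  rw [Subgroup.characteristic_iff_map_le]
  intro e
  rw [Cfsg.thompsonSubgroupA, sSup_eq_iSup, Subgroup.map_iSup]
  refine iSup_le fun A => ?_
  rw [Subgroup.map_iSup]
  refine iSup_le fun hA => le_iSup₂_of_le (A.map e.toMonoidHom) ⟨?_, fun B hB => ?_⟩ le_rfl
  · haveI := hA.1
    exact ⟨⟨by
      rintro ⟨_, a, ha, rfl⟩ ⟨_, b, hb, rfl⟩
      apply Subtype.ext
      show e a * e b = e b * e a
      rw [← map_mul, ← map_mul, show a * b = b * a from
        congrArg Subtype.val (mul_comm' (⟨a, ha⟩ : A) ⟨b, hb⟩)]⟩⟩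
  · rw [Subgroup.card_map_of_injective e.injective]
    exact hA.2 B hB

namespace Hyp

variable {S Q M : Subgroup G} {n : ℕ} {φ : G →* PSL2 F} (X : Hyp p S Q M n φ)
include X

theorem exists_notQ : ∃ s ∈ S, s ∉ Q := by
  by_contra! hh
  have := X.relIndex
  rw [Subgroup.relIndex_eq_one.2 hh] at this
  exact (Nat.one_lt_pow (by have := X.one_le; omega) (Fact.out : p.Prime).one_lt).ne this

theorem omegaZ_char : ((omegaZ p S).subgroupOf S).Characteristic := by
  refine characteristic_of_forall fun e x hx => ?_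
  obtain ⟨-, hx2, hx3⟩ := hx
  refine Subgroup.mem_subgroupOf.2 ⟨(e x).2, fun s hs => ?_, ?_⟩
  · have h1 : (e.symm ⟨s, hs⟩) * x = x * e.symm ⟨s, hs⟩ := Subtype.ext (hx2 _ (e.symm ⟨s, hs⟩).2)
    have h2 := congrArg e h1
    rw [map_mul, map_mul, MulEquiv.apply_symm_apply] at h2
    exact congrArg Subtype.val h2
  · have h1 : x ^ p = 1 := Subtype.ext (by simpa using hx3)
    have h2 := congrArg e h1
    rw [map_pow, map_one] at h2
    simpa using congrArg Subtype.val h2

theorem omegaZ_le : omegaZ p S ≤ S := fun _ h => h.1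

theorem omegaZ_ne_bot : omegaZ p S ≠ ⊥ := by
  intro h
  obtain ⟨s, hs, hsQ⟩ := X.exists_notQ
  haveI : Nontrivial ↥S := ⟨⟨⟨s, hs⟩, 1, fun e => hsQ (by
    rw [show s = 1 from congrArg Subtype.val e]; exact one_mem _)⟩⟩
  haveI := X.setup.isPGroup.center_nontrivial
  obtain ⟨k, hk⟩ := IsPGroup.iff_card.1 (X.setup.isPGroup.to_subgroup (Subgroup.center ↥S))
  have hk0 : k ≠ 0 := by
    rintro rfl
    rw [pow_zero] at hk
    exact (Finite.one_lt_card (α := ↥(Subgroup.center ↥S))).ne' hk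
  obtain ⟨⟨⟨z, hzS⟩, hzc⟩, hz⟩ := exists_prime_orderOf_dvd_card' (G := ↥(Subgroup.center ↥S)) p
    (hk ▸ dvd_pow_self p hk0)
  have hz1 : z ∈ omegaZ p S := ⟨hzS, fun y hy => congrArg Subtype.val (Subgroup.mem_center_iff.1 hzc ⟨y, hy⟩), by
    rw [← hz]
    simpa using congrArg (fun t : ↥(Subgroup.center ↥S) => ((t : ↥S) : G)) (pow_orderOf_eq_one
      (⟨⟨z, hzS⟩, hzc⟩ : ↥(Subgroup.center ↥S)))⟩
  rw [h, Subgroup.mem_bot] at hz1
  subst hz1
  rw [show (⟨⟨1, hzS⟩, hzc⟩ : ↥(Subgroup.center ↥S)) = 1 from rfl, orderOf_one] at hz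
  exact (Fact.out : p.Prime).one_lt.ne hz

end Hyp

/-- What the arguments in a single group need: the line is not central and an offender exists. -/
structure Pre (p : ℕ) (S Q M : Subgroup G) (n : ℕ) (φ : G →* PSL2 F) : Prop
    extends hyp : Hyp p S Q M n φ where
  not_central : ¬ omegaZ p S ≤ Subgroup.center G
  exists_offender : ∃ A, IsMaxAb S A ∧ ¬ A ≤ Q

/-- A pushing-up situation: no nontrivial characteristic subgroup of `S` is normal. -/
structure Ctx (p : ℕ) (S Q M : Subgroup G) (n : ℕ) (φ : G →* PSL2 F) : Prop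
    extends pre : Pre p S Q M n φ where
  noChar : ∀ T : Subgroup ↥S, T ≠ ⊥ → T.Characteristic → ¬ (T.map S.subtype).Normal

/-- Without a nontrivial normal characteristic subgroup, the line is not central and an offender exists. -/
theorem Ctx.of_hyp {S Q M : Subgroup G} {n : ℕ} {φ : G →* PSL2 F} (X : Hyp p S Q M n φ)
    (hd : ∀ T : Subgroup ↥S, T ≠ ⊥ → T.Characteristic → ¬ (T.map S.subtype).Normal) : Ctx p S Q M n φ := by
  refine ⟨⟨X, ?_, ?_⟩, hd⟩
  · intro hc
    refine hd ((omegaZ p S).subgroupOf S) (fun h => X.omegaZ_ne_bot ?_) X.omegaZ_char ?_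
    · rwa [Subgroup.subgroupOf_eq_bot, disjoint_iff, inf_eq_left.2 X.omegaZ_le] at h
    · rw [Subgroup.map_subgroupOf_eq_of_le X.omegaZ_le]
      exact ⟨fun x hx g => by rw [Subgroup.mem_center_iff.1 (hc hx) g, mul_inv_cancel_right]; exact hx⟩
  · by_contra! hall
    haveI := X.setup.normal
    refine hd (Cfsg.thompsonSubgroupA ↥S) ?_ (thompsonA_characteristic ↥S) ?_
    · intro h
      obtain ⟨A, hA⟩ := exists_maxAb S
      obtain ⟨z, hz, hz1⟩ := (Subgroup.bot_or_exists_ne_one (omegaZ p S)).resolve_left X.omegaZ_ne_bot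
      have hzA := hA.mem hz.1 fun a ha => hz.2.1 a (hA.1 ha)
      have := le_thompson hA hzA
      rw [Cfsg.thompsonSubgroupAOf, h, Subgroup.map_bot, Subgroup.mem_bot] at this
      exact hz1 this
    · show (Cfsg.thompsonSubgroupAOf S).Normal
      refine normal_of_map_le fun g => ?_
      rw [Subgroup.map_le_iff_le_comap, thompson_le_iff]
      intro A hA
      rw [← Subgroup.map_le_iff_le_comap]
      exact le_thompson (hA.map (hall A hA) X.setup.le g).1

namespace Pre

variable {S Q M : Subgroup G} {n : ℕ} {φ : G →* PSL2 F} (X : Pre p S Q M n φ)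
include X

theorem omegaZ_le_Q : omegaZ p S ≤ Q := fun _ hy =>
  X.hyp.setup.cent (Subgroup.centralizer_le X.hyp.setup.le hy.2.1)

theorem baseV_le_cent : baseV p S ≤ ℭ Q := by
  haveI := normal_centralizer X.hyp.setup.normal
  exact Subgroup.normalClosure_le_normal fun _ hy => Subgroup.centralizer_le X.hyp.setup.le hy.2.1

theorem baseV_le_Q : baseV p S ≤ Q := X.baseV_le_cent.trans X.hyp.setup.cent

theorem baseV_le : baseV p S ≤ S := X.baseV_le_Q.trans X.hyp.setup.le

theorem Q_comm {q v : G} (hq : q ∈ Q) (hv : v ∈ baseV p S) : q * v = v * q := X.baseV_le_cent hv q hq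

theorem baseV_comm {u v : G} (hu : u ∈ baseV p S) (hv : v ∈ baseV p S) : u * v = v * u :=
  X.Q_comm (X.baseV_le_Q hu) hv

theorem baseV_isComm : IsMulCommutative (baseV p S) :=
  ⟨⟨fun a b => Subtype.ext (X.baseV_comm a.2 b.2)⟩⟩

theorem baseV_pow {v : G} (hv : v ∈ baseV p S) : v ^ p = 1 := by
  suffices h : baseV p S ≤
      { carrier := {v | v ∈ baseV p S ∧ v ^ p = 1}
        one_mem' := ⟨one_mem _, one_pow _⟩
        mul_mem' := fun {a b} ⟨ha, hap⟩ ⟨hb, hbp⟩ => ⟨mul_mem ha hb, by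
          rw [(show Commute a b from X.baseV_comm ha hb).mul_pow, hap, hbp, one_mul]⟩
        inv_mem' := fun {a} ⟨ha, hap⟩ => ⟨inv_mem ha, by rw [inv_pow, hap, inv_one]⟩ : Subgroup G } from (h hv).2
  refine (Subgroup.closure_le _).2 ?_
  intro x hx
  obtain ⟨z, hz, hzx⟩ := Group.mem_conjugatesOfSet_iff.1 hx
  obtain ⟨g, rfl⟩ := isConj_iff.1 hzx
  exact ⟨Subgroup.normalClosure_normal.conj_mem _ (Subgroup.subset_normalClosure hz) g,
    by rw [conj_pow, hz.2.2, mul_one, mul_inv_cancel]⟩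

theorem nontriv : Nontriv p (baseV p S) := by
  by_contra hnt
  refine X.not_central fun y hy => mem_center_of_fixed X.hyp.setup hy.2.1 fun x hx => ?_
  by_contra hne
  exact hnt ⟨x, hx, y, omegaZ_le_baseV hy, hne⟩

theorem inf_cent : S ⊓ ℭ (baseV p S) ≤ Q := by
  by_contra hc
  obtain ⟨x, hx, u, hu, hne⟩ := X.nontriv
  haveI : (ℭ (baseV p S)).Normal := normal_centralizer inferInstance
  exact hne (mem_of_coprime X.hyp.setup (ℭ (baseV p S)) hc hx u hu).symm

theorem bounds {a : G} (ha : a ∈ S) (haQ : a ∉ Q) :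
    p ^ n ≤ (baseV p S ⊓ Subgroup.centralizer ({a} : Set G)).relIndex (baseV p S) ∧
      (p ^ n) ^ 2 ≤ (baseV p S ⊓ ℭ (⊤ : Subgroup G)).relIndex (baseV p S) :=
  module_bounds X.hyp.setup X.hyp.one_le X.hyp.card φ X.hyp.surj (baseV p S) X.baseV_isComm
    (fun _ hv => X.baseV_pow hv) X.nontriv X.inf_cent ha haQ

theorem inf_centralizer_S : baseV p S ⊓ ℭ S = omegaZ p S :=
  le_antisymm (fun _ hv => ⟨X.baseV_le hv.1, hv.2, X.baseV_pow hv.1⟩)
    (fun _ hz => ⟨omegaZ_le_baseV hz, hz.2.1⟩)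

theorem card_top : (omegaZ p S).relIndex (baseV p S) = p ^ n := by
  obtain ⟨A, hA, hAQ⟩ := X.exists_offender
  obtain ⟨a, haA, haQ⟩ := SetLike.not_le_iff_exists.1 hAQ
  haveI := X.hyp.setup.normal
  have haS := hA.1 haA
  set V := baseV p S with hV
  have hZa : omegaZ p S ≤ V ⊓ Subgroup.centralizer ({a} : Set G) := fun z hz =>
    ⟨omegaZ_le_baseV hz, Subgroup.mem_centralizer_singleton_iff.2 (hz.2.1 a haS).symm⟩
  refine le_antisymm ?_ ((X.bounds haS haQ).1.trans
    (Nat.le_of_dvd (Nat.pos_of_ne_zero Subgroup.index_ne_zero_of_finite) (Subgroup.relIndex_dvd_of_le_left V hZa)))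
  set r := Q.relIndex A with hr
  have hcA : Nat.card A = r * Nat.card ↥(A ⊓ Q) := by
    have := Subgroup.relIndex_mul_relIndex ⊥ (A ⊓ Q) A bot_le inf_le_left
    rw [Subgroup.relIndex_bot_left, Subgroup.relIndex_bot_left, Subgroup.inf_relIndex_left] at this
    rw [hr, ← this, mul_comm]
  have hr2 : r * (A ⊔ Q).relIndex S = p ^ n := by
    rw [hr, ← Subgroup.relIndex_sup_right A Q, ← X.hyp.relIndex]
    exact Subgroup.relIndex_mul_relIndex Q (A ⊔ Q) S le_sup_right (sup_le hA.1 X.hyp.setup.le)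
  have hrle : r ≤ p ^ n := hr2 ▸ Nat.le_mul_of_pos_right _ (Nat.pos_of_ne_zero Subgroup.index_ne_zero_of_finite)
  set A' := (A ⊓ Q) ⊔ V
  have hnA : V ≤ Subgroup.normalizer ((A ⊓ Q : Subgroup G) : Set G) := fun v hv =>
    Subgroup.centralizer_le_normalizer _ fun x hx => X.Q_comm hx.2 hv
  have hle := hA.2.2 A' (sup_le (inf_le_left.trans hA.1) X.baseV_le)
    (abelian_sup ((inf_le_left.trans hA.2.1).trans (Subgroup.centralizer_le inf_le_left))
      (fun v hv u hu => X.baseV_comm hu hv) (fun x hx v hv => (X.Q_comm hx.2 hv).symm))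
  have hc := CfsgLib.Fusion.Thompson.card_sup_mul_card_inf hnA
  have e : A ⊓ Q ⊓ V ≤ V ⊓ ℭ A := fun x hx => ⟨hx.2, fun u hu => hA.2.1 hx.1.1 u hu⟩
  have h1 : Nat.card ↥A' * Nat.card ↥(A ⊓ Q ⊓ V) ≤ r * Nat.card ↥(A ⊓ Q) * Nat.card ↥(V ⊓ ℭ A) :=
    Nat.mul_le_mul (hcA ▸ hle) (Subgroup.card_le_of_le e)
  rw [hc] at h1
  have h2 : Nat.card V = (V ⊓ ℭ A).relIndex V * Nat.card ↥(V ⊓ ℭ A) := by
    have := Subgroup.relIndex_mul_relIndex ⊥ (V ⊓ ℭ A) V bot_le inf_le_left
    rw [Subgroup.relIndex_bot_left, Subgroup.relIndex_bot_left] at this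
    rw [← this, mul_comm]
  rw [h2] at h1
  have hq : (V ⊓ ℭ A).relIndex V ≤ r := by
    refine Nat.le_of_mul_le_mul_right ?_ (Nat.mul_pos (Nat.card_pos (α := ↥(A ⊓ Q)))
      (Nat.card_pos (α := ↥(V ⊓ ℭ A))))
    calc (V ⊓ ℭ A).relIndex V * (Nat.card ↥(A ⊓ Q) * Nat.card ↥(V ⊓ ℭ A))
        = Nat.card ↥(A ⊓ Q) * ((V ⊓ ℭ A).relIndex V * Nat.card ↥(V ⊓ ℭ A)) := by ring
      _ ≤ _ := h1
      _ = _ := by ring
  have hge : p ^ n ≤ (V ⊓ ℭ A).relIndex V := (X.bounds haS haQ).1.trans
    (Nat.le_of_dvd (Nat.pos_of_ne_zero Subgroup.index_ne_zero_of_finite) (Subgroup.relIndex_dvd_of_le_left V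
      (inf_le_inf_left _ (Subgroup.centralizer_le (Set.singleton_subset_iff.2 haA)))))
  have hAS : S ≤ A ⊔ Q := by
    refine Subgroup.relIndex_eq_one.1 ?_
    have h3 : r * (A ⊔ Q).relIndex S ≤ r * 1 := by rw [mul_one, hr2]; exact hge.trans hq
    have h4 : (A ⊔ Q).relIndex S ≠ 0 := Subgroup.index_ne_zero_of_finite
    have h5 := Nat.le_of_mul_le_mul_left h3 (Nat.pos_of_ne_zero (fun h0 => by
      rw [h0, zero_mul] at hr2; exact (pow_pos (Fact.out : p.Prime).pos n).ne hr2))
    omega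
  have hVA : V ⊓ ℭ A ≤ omegaZ p S := by
    rw [← X.inf_centralizer_S]
    rintro v ⟨hv, hvA⟩
    refine ⟨hv, fun s hs => Subgroup.mem_centralizer_singleton_iff.1
      ((sup_le ?_ ?_ : A ⊔ Q ≤ Subgroup.centralizer {v}) (hAS hs))⟩
    · exact fun u hu => Subgroup.mem_centralizer_singleton_iff.2 (hvA u hu)
    · exact fun u hu => Subgroup.mem_centralizer_singleton_iff.2 (X.Q_comm hu hv)
  exact (Nat.le_of_dvd (Nat.pos_of_ne_zero Subgroup.index_ne_zero_of_finite)
    (Subgroup.relIndex_dvd_of_le_left V hVA)).trans (hq.trans hrle)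

theorem fixed_eq {a v : G} (ha : a ∈ S) (haQ : a ∉ Q) (hv : v ∈ baseV p S) (h : a * v = v * a) :
    v ∈ omegaZ p S := by
  set C := baseV p S ⊓ Subgroup.centralizer ({a} : Set G)
  have hZC : omegaZ p S ≤ C := fun z hz =>
    ⟨omegaZ_le_baseV hz, Subgroup.mem_centralizer_singleton_iff.2 (hz.2.1 a ha).symm⟩
  have h1 := Subgroup.relIndex_mul_relIndex (omegaZ p S) C (baseV p S) hZC inf_le_left
  rw [X.card_top] at h1
  have h2 := Nat.mul_le_mul_left ((omegaZ p S).relIndex C) (X.bounds ha haQ).1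
  rw [h1] at h2
  have h3 : (omegaZ p S).relIndex C = 1 := by
    have h4 : (omegaZ p S).relIndex C ≠ 0 := Subgroup.index_ne_zero_of_finite
    have h5 : (omegaZ p S).relIndex C * p ^ n ≤ 1 * p ^ n := by rw [one_mul]; exact h2
    have := Nat.le_of_mul_le_mul_right h5 (pow_pos (Fact.out : p.Prime).pos n)
    omega
  exact Subgroup.relIndex_eq_one.1 h3 ⟨hv, Subgroup.mem_centralizer_singleton_iff.2 h.symm⟩

/-- `S` moves the module into the line it fixes. -/
theorem into {s v : G} (hs : s ∈ S) (hv : v ∈ baseV p S) : s * v * s⁻¹ * v⁻¹ ∈ omegaZ p S := by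
  classical
  set V := baseV p S with hV
  set Z := omegaZ p S with hZ
  set W := Z ⊔ ⁅V, S⁆ with hW
  have hnorm : S ≤ Subgroup.normalizer (Z : Set G) := fun x hx =>
    Subgroup.centralizer_le_normalizer _ fun z hz => (hz.2.1 x hx).symm
  have hVS : ⁅V, S⁆ ≤ V := Subgroup.commutator_le_left V S
  have hWV : W ≤ V := sup_le omegaZ_le_baseV hVS
  have hWlt : W < V := lt_of_le_of_ne hWV fun e => by
    -- otherwise `V` is killed by repeated commutation with `S`
    haveI : Group.IsNilpotent ↥S := X.hyp.setup.isPGroup.isNilpotent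
    obtain ⟨k, hk⟩ := (Subgroup.nilpotent_iff_lowerCentralSeries (G := ↥S)).1 inferInstance
    have key : ∀ i : ℕ, V ≤ Z ⊔ ((⊤ : Subgroup ↥S).lowerCentralSeries i).map S.subtype := by
      intro i
      induction i with
      | zero => exact le_sup_of_le_right (by
          rw [Subgroup.lowerCentralSeries_zero, ← MonoidHom.range_eq_map, Subgroup.range_subtype]; exact X.baseV_le)
      | succ i ih =>
        conv_lhs => rw [← e]
        refine sup_le le_sup_left (Subgroup.commutator_le.2 fun v hv x hx => ?_)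
        obtain ⟨z, hz, w, hw, rfl⟩ : ∃ z ∈ Z, ∃ w ∈ ((⊤ : Subgroup ↥S).lowerCentralSeries i).map S.subtype,
            z * w = v := by
          have h1 := ih hv
          rw [← SetLike.mem_coe, Subgroup.coe_mul_of_left_le_normalizer_right _ _ (fun z hz => by
            refine Subgroup.centralizer_le_normalizer _ fun u hu => ?_
            exact hz.2.1 u (Subgroup.map_subtype_le _ hu))] at h1
          exact h1
        have e1 : ⁅z * w, x⁆ = ⁅w, x⁆ := by
          have hzwx : ⁅w, x⁆ * z = z * ⁅w, x⁆ := hz.2.1 _ (by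
            rw [commutatorElement_def]
            exact S.mul_mem (S.mul_mem (S.mul_mem (Subgroup.map_subtype_le _ hw) hx)
              (inv_mem (Subgroup.map_subtype_le _ hw))) (inv_mem hx))
          rw [commutatorElement_def, commutatorElement_def] at *
          calc z * w * x * (z * w)⁻¹ * x⁻¹ = z * (w * x * w⁻¹) * z⁻¹ * x⁻¹ := by group
            _ = z * (w * x * w⁻¹ * x⁻¹) * (x * z⁻¹ * x⁻¹) := by group
            _ = z * (w * x * w⁻¹ * x⁻¹) * z⁻¹ := by
              rw [(show Commute x z from hz.2.1 x hx).inv_right.eq, mul_inv_cancel_right]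
            _ = _ := by rw [← hzwx, mul_inv_cancel_right]
        rw [e1]
        refine Subgroup.mem_sup_right ?_
        obtain ⟨w', hw', rfl⟩ := hw
        refine ⟨⁅w', ⟨x, hx⟩⁆, Subgroup.commutator_mem_commutator hw' (Subgroup.mem_top _), ?_⟩
        simp [commutatorElement_def]
    have h1 : V ≤ Z := by
      have := key k
      rwa [hk, Subgroup.map_bot, sup_bot_eq] at this
    have h2 := X.card_top
    rw [Subgroup.relIndex_eq_one.2 h1] at h2
    exact (Nat.one_lt_pow (by have := X.hyp.one_le; omega) (Fact.out : p.Prime).one_lt).ne h2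
  -- two cosets of `Q` move `v` alike modulo `Z`
  let Zs := Z.subgroupOf V
  let Qs := Q.subgroupOf S
  haveI : IsMulCommutative V := X.baseV_isComm
  have hcs : ∀ {c : G}, c ∈ S → c * v * c⁻¹ * v⁻¹ ∈ V := fun {c} hc =>
    mul_mem ((baseV_normal p S).conj_mem v hv c) (inv_mem hv)
  let f : (↥S ⧸ Qs) → (↥V ⧸ Zs) := fun c => QuotientGroup.mk ⟨(c.out : G) * v * (c.out : G)⁻¹ * v⁻¹, hcs c.out.2⟩
  have hnot : ¬ Function.Injective f := by
    intro hinj
    let g : (↥S ⧸ Qs) → ↥((W.subgroupOf V).map (QuotientGroup.mk' Zs)) := fun c =>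
      ⟨f c, ⟨_, (by
        show (c.out : G) * v * (c.out : G)⁻¹ * v⁻¹ ∈ W
        refine Subgroup.mem_sup_right ?_
        rw [Subgroup.commutator_comm]
        exact Subgroup.commutator_mem_commutator c.out.2 hv), rfl⟩⟩
    have h1 := Nat.card_le_card_of_injective g fun a b h => hinj (congrArg Subtype.val h)
    rw [show Nat.card (↥S ⧸ Qs) = p ^ n from X.hyp.relIndex, ← Subgroup.relIndex_ker, QuotientGroup.ker_mk',
      Subgroup.relIndex_subgroupOf hWV] at h1
    have h2 := Subgroup.relIndex_mul_relIndex Z W V le_sup_left hWV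
    rw [X.card_top] at h2
    have h3 : 2 ≤ W.relIndex V := by
      have h4 : W.relIndex V ≠ 1 := fun h => hWlt.not_ge (Subgroup.relIndex_eq_one.1 h)
      have h5 : W.relIndex V ≠ 0 := Subgroup.index_ne_zero_of_finite
      omega
    have h6 : p ^ n * 2 ≤ Z.relIndex W * W.relIndex V := Nat.mul_le_mul h1 h3
    rw [h2] at h6
    have := pow_pos (Fact.out : p.Prime).pos n
    omega
  rw [Function.Injective] at hnot
  push Not at hnot
  obtain ⟨c, c', hcc, hne⟩ := hnot
  set d := (c.out : G)⁻¹ * (c'.out : G)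
  have hdS : d ∈ S := mul_mem (inv_mem c.out.2) c'.out.2
  have hdQ : d ∉ Q := fun h => hne (by
    rw [← QuotientGroup.out_eq' c, ← QuotientGroup.out_eq' c', QuotientGroup.eq]
    exact h)
  have hd : d * v * d⁻¹ * v⁻¹ ∈ Z := by
    have h1 : ((c.out : G) * v * (c.out : G)⁻¹ * v⁻¹)⁻¹ * ((c'.out : G) * v * (c'.out : G)⁻¹ * v⁻¹) ∈ Z :=
      (QuotientGroup.eq (s := Zs)).1 hcc
    set a := (c.out : G)
    set b := (c'.out : G)
    have hcomm : (a * v * a⁻¹ * v⁻¹)⁻¹ * (b * v * b⁻¹ * v⁻¹) = a * (d * v * d⁻¹ * v⁻¹) * a⁻¹ := by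
      have hx : ∀ {x y : G}, x ∈ V → y ∈ V → x * y = y * x := fun hx hy => X.baseV_comm hx hy
      have ha : a * v * a⁻¹ ∈ V := (baseV_normal p S).conj_mem v hv a
      have hb : b * v * b⁻¹ ∈ V := (baseV_normal p S).conj_mem v hv b
      calc (a * v * a⁻¹ * v⁻¹)⁻¹ * (b * v * b⁻¹ * v⁻¹) = v * ((a * v * a⁻¹)⁻¹ * (b * v * b⁻¹)) * v⁻¹ := by group
        _ = (a * v * a⁻¹)⁻¹ * (b * v * b⁻¹) := by
          rw [hx hv (mul_mem (inv_mem ha) hb), mul_inv_cancel_right]
        _ = (b * v * b⁻¹) * (a * v * a⁻¹)⁻¹ := hx (inv_mem ha) hb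
        _ = _ := by simp only [d, a, b]; group
    rw [hcomm] at h1
    have := (Subgroup.mem_normalizer_iff.1 (hnorm c.out.2) _).2 h1
    exact this
  refine X.fixed_eq hdS hdQ (mul_mem ((baseV_normal p S).conj_mem v hv s) (inv_mem hv)) ?_
  have hq : d * s * d⁻¹ * s⁻¹ ∈ Q := X.hyp.commutator_mem hdS hs
  have h1 : d * (s * v * s⁻¹) * d⁻¹ = (d * s * d⁻¹ * s⁻¹) * (s * (d * v * d⁻¹) * s⁻¹) * (d * s * d⁻¹ * s⁻¹)⁻¹ := by
    group
  rw [X.Q_comm hq ((baseV_normal p S).conj_mem _ ((baseV_normal p S).conj_mem v hv d) s), mul_inv_cancel_right] at h1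
  set z := d * v * d⁻¹ * v⁻¹
  have h2 : s * (d * v * d⁻¹) * s⁻¹ = z * (s * v * s⁻¹) := by
    calc s * (d * v * d⁻¹) * s⁻¹ = (s * z) * v * s⁻¹ := by simp only [z]; group
      _ = (z * s) * v * s⁻¹ := by rw [hd.2.1 s hs]
      _ = _ := by group
  rw [h2] at h1
  have h3 : d * (s * v * s⁻¹ * v⁻¹) * d⁻¹ = z * (s * v * s⁻¹ * v⁻¹) * z⁻¹ := by
    calc d * (s * v * s⁻¹ * v⁻¹) * d⁻¹ = (d * (s * v * s⁻¹) * d⁻¹) * (d * v * d⁻¹)⁻¹ := by group
      _ = _ := by rw [h1]; simp only [z]; group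
  rw [X.baseV_comm (omegaZ_le_baseV hd) (mul_mem ((baseV_normal p S).conj_mem v hv s) (inv_mem hv)),
    mul_inv_cancel_right] at h3
  exact mul_inv_eq_iff_eq_mul.1 h3

theorem center_baseV : baseV p S ⊓ ℭ (⊤ : Subgroup G) = baseC p S := by
  rw [baseC, Subgroup.coe_top, Subgroup.centralizer_univ]

theorem inf_opposite {g : G} (hg : S ⊔ S.map (MulAut.conj g).toMonoidHom = ⊤) :
    omegaZ p S ⊓ (omegaZ p S).map (MulAut.conj g).toMonoidHom ≤ baseC p S := by
  rintro z ⟨hz, w, hw, hwz⟩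
  refine ⟨omegaZ_le_baseV hz, Subgroup.mem_center_iff.2 fun x => Subgroup.mem_centralizer_singleton_iff.1
    ((sup_le ?_ ?_ : S ⊔ S.map (MulAut.conj g).toMonoidHom ≤ Subgroup.centralizer {z}) (hg ▸ Subgroup.mem_top x))⟩
  · exact fun s hs => Subgroup.mem_centralizer_singleton_iff.2 (hz.2.1 s hs)
  · rintro _ ⟨s, hs, rfl⟩
    rw [Subgroup.mem_centralizer_singleton_iff, ← hwz]
    exact (show Commute s w from hw.2.1 s hs).map (MulAut.conj g).toMonoidHom

theorem baseC_le : baseC p S ≤ omegaZ p S := fun c hc =>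
  ⟨X.baseV_le hc.1, fun s _ => Subgroup.mem_center_iff.1 hc.2 s, X.baseV_pow hc.1⟩

theorem card_line : (baseC p S).relIndex (omegaZ p S) = p ^ n := by
  obtain ⟨s, hs, hsQ⟩ := X.exists_notQ
  obtain ⟨g, -, hgt⟩ := X.hyp.exists_opposite
  have hC : baseC p S ≤ omegaZ p S := X.baseC_le
  have h0 := Subgroup.relIndex_mul_relIndex (baseC p S) (omegaZ p S) (baseV p S) hC omegaZ_le_baseV
  rw [X.card_top] at h0
  have hle : p ^ n ≤ (baseC p S).relIndex (omegaZ p S) := by
    have h2 := (X.bounds hs hsQ).2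
    rw [X.center_baseV, ← h0, sq] at h2
    exact Nat.le_of_mul_le_mul_right h2 (pow_pos (Fact.out : p.Prime).pos n)
  refine le_antisymm ?_ hle
  set Z := omegaZ p S
  set Z' := Z.map (MulAut.conj g).toMonoidHom
  have hV : (baseV p S).map (MulAut.conj g).toMonoidHom = baseV p S := Subgroup.mem_normalizer_iff_map_conj_eq.1 (by
    rw [Subgroup.normalizer_eq_top_iff.2 (baseV_normal p S)]; trivial)
  have h4 : Z'.relIndex (baseV p S) = p ^ n := by
    rw [← hV, Subgroup.relIndex_map_map_of_injective _ _ (MulAut.conj g).injective, X.card_top]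
  calc (baseC p S).relIndex Z ≤ Z'.relIndex Z := by
        rw [← Subgroup.inf_relIndex_left Z Z']
        exact Nat.le_of_dvd (Nat.pos_of_ne_zero Subgroup.index_ne_zero_of_finite)
          (Subgroup.relIndex_dvd_of_le_left Z (X.inf_opposite hgt))
    _ ≤ Z'.relIndex (baseV p S) :=
        Subgroup.relIndex_le_of_le_right omegaZ_le_baseV Subgroup.index_ne_zero_of_finite
    _ = _ := h4

theorem lineSection : LineSection p n S Q (baseV p S) (omegaZ p S) (baseC p S) where
  normal := inferInstance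
  normal' := inferInstance
  le_line := X.baseC_le
  line_le := omegaZ_le_baseV
  comm x hx y hy := by rw [X.baseV_comm hx hy, mul_inv_cancel_right, mul_inv_cancel]; exact one_mem _
  pow x hx := by rw [X.baseV_pow hx]; exact one_mem _
  triv q hq x hx := by rw [X.Q_comm hq hx, mul_inv_cancel_right, mul_inv_cancel]; exact one_mem _
  fixed s hs l hl := by rw [hl.2.1 s hs, mul_inv_cancel_right, mul_inv_cancel]; exact one_mem _
  into := fun _ hs _ hx => X.into hs hx
  card_line := X.card_line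
  card_top := X.card_top
  noFix x hx hfix := by
    -- the elements of order prime to `p` centralise `x`
    have hcop : ∀ y : G, (orderOf y).Coprime p → y * x = x * y := fun y hy => by
      have hcC := hfix y
      obtain ⟨c, hc⟩ : ∃ c, c = y * x * y⁻¹ * x⁻¹ := ⟨_, rfl⟩
      rw [← hc] at hcC
      have h1 : c = 1 := fixed_of_step (u := x) (c := c) (x := y) (by rw [hc]; group)
        (Subgroup.mem_center_iff.1 hcC.2 y) hy ⟨1, by rw [pow_one]; exact X.baseV_pow hcC.1⟩
      rw [hc, mul_inv_eq_one, mul_inv_eq_iff_eq_mul] at h1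
      exact h1
    by_contra hxC
    have hxZ : x ∉ omegaZ p S := fun hxZ => hxC ⟨omegaZ_le_baseV hxZ, Subgroup.mem_center_iff.2 fun y =>
      Subgroup.mem_center_iff.1 (mem_center_of_fixed X.hyp.setup hxZ.2.1 hcop) y⟩
    rcases Nat.lt_or_ge n 2 with hn | hn
    · -- for `n = 1` everything would be centralised modulo the fixed points
      obtain rfl : n = 1 := by have := X.hyp.one_le; omega
      haveI := baseC_normal p S
      let Fx : Subgroup G :=
        { carrier := {v | v ∈ baseV p S ∧ ∀ g : G, g * v * g⁻¹ * v⁻¹ ∈ baseC p S}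
          one_mem' := ⟨one_mem _, fun g => by simp⟩
          mul_mem' := fun {u v} ⟨hu, hu'⟩ ⟨hv, hv'⟩ => ⟨mul_mem hu hv, fun g => by
            rw [show g * (u * v) * g⁻¹ * (u * v)⁻¹ =
              (g * u * g⁻¹ * u⁻¹) * (u * (g * v * g⁻¹ * v⁻¹) * u⁻¹) by group]
            exact mul_mem (hu' g) ((baseC_normal p S).conj_mem _ (hv' g) u)⟩
          inv_mem' := fun {u} ⟨hu, hu'⟩ => ⟨inv_mem hu, fun g => by
            rw [show g * u⁻¹ * g⁻¹ * u⁻¹⁻¹ = u⁻¹ * (g * u * g⁻¹ * u⁻¹)⁻¹ * u⁻¹⁻¹ by group]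
            exact (baseC_normal p S).conj_mem _ (inv_mem (hu' g)) u⁻¹⟩ }
      have hFxn : Fx.Normal := ⟨fun v hv h => ⟨(baseV_normal p S).conj_mem v hv.1 h, fun g => by
        rw [show g * (h * v * h⁻¹) * g⁻¹ * (h * v * h⁻¹)⁻¹ =
          ((g * h) * v * (g * h)⁻¹ * v⁻¹) * (h * v * h⁻¹ * v⁻¹)⁻¹ by group]
        exact mul_mem (hv.2 _) (inv_mem (hv.2 _))⟩⟩
      -- the elements of the line are fixed modulo the fixed points
      obtain ⟨s, hs, hsQ⟩ := X.exists_notQ
      have hC : baseC p S ≤ omegaZ p S := X.baseC_le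
      set Xx := baseC p S ⊔ Subgroup.zpowers x
      have hXF : Xx ≤ Fx := sup_le (fun c hc => ⟨hc.1, fun g => by
        rw [Subgroup.mem_center_iff.1 hc.2 g, mul_inv_cancel_right, mul_inv_cancel]; exact one_mem _⟩)
        (Subgroup.zpowers_le.2 ⟨hx, hfix⟩)
      have hVF : baseV p S ≤ omegaZ p S ⊔ Fx := by
        set Y := omegaZ p S ⊔ Subgroup.zpowers x
        have hYV : Y ≤ baseV p S := sup_le omegaZ_le_baseV (Subgroup.zpowers_le.2 hx)
        have h1 := Subgroup.relIndex_mul_relIndex (omegaZ p S) Y (baseV p S) le_sup_left hYV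
        rw [X.card_top, pow_one] at h1
        rcases (Nat.dvd_prime (Fact.out : p.Prime)).1 (Dvd.intro _ h1) with e | e
        · exact absurd (Subgroup.relIndex_eq_one.1 e (Subgroup.mem_sup_right (Subgroup.mem_zpowers x))) hxZ
        · rw [e] at h1
          have h2 : Y.relIndex (baseV p S) = 1 := by
            have := (Fact.out : p.Prime).pos
            nlinarith
          exact (Subgroup.relIndex_eq_one.1 h2).trans (sup_le_sup_left (Subgroup.zpowers_le.2 (show x ∈ Fx from ⟨hx, hfix⟩)) _)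
      -- so `S` centralises the module modulo the fixed points
      let D : Subgroup G :=
        { carrier := {g | ∀ v ∈ baseV p S, g * v * g⁻¹ * v⁻¹ ∈ baseC p S}
          one_mem' := fun v _ => by simp
          mul_mem' := fun {g h} hg hh v hv => by
            rw [show g * h * v * (g * h)⁻¹ * v⁻¹ =
              (g * (h * v * h⁻¹ * v⁻¹) * g⁻¹) * (g * v * g⁻¹ * v⁻¹) by group]
            exact mul_mem ((baseC_normal p S).conj_mem _ (hh v hv) g) (hg v hv)
          inv_mem' := fun {g} hg v hv => by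
            have h1 := (baseC_normal p S).conj_mem _ (inv_mem (hg v hv)) g⁻¹
            rwa [show g⁻¹ * (g * v * g⁻¹ * v⁻¹)⁻¹ * g⁻¹⁻¹ = g⁻¹ * v * g⁻¹⁻¹ * v⁻¹ by group] at h1 }
      haveI hDn : D.Normal := ⟨fun c hc g v hv => by
        have h1 := (baseC_normal p S).conj_mem _ (hc _ ((baseV_normal p S).conj_mem v hv g⁻¹)) g
        rwa [show g * (c * (g⁻¹ * v * g⁻¹⁻¹) * c⁻¹ * (g⁻¹ * v * g⁻¹⁻¹)⁻¹) * g⁻¹ =
          g * c * g⁻¹ * v * (g * c * g⁻¹)⁻¹ * v⁻¹ by group] at h1⟩
      have hSD : S ≤ D := by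
        intro t ht v hv
        haveI := hFxn
        obtain ⟨z, hz, w, hw, rfl⟩ := Subgroup.mem_sup_of_normal_right.1 (hVF hv)
        have h1 : t * z * t⁻¹ * z⁻¹ = 1 := by rw [hz.2.1 t ht, mul_inv_cancel_right, mul_inv_cancel]
        rw [show t * (z * w) * t⁻¹ * (z * w)⁻¹ =
          (t * z * t⁻¹ * z⁻¹) * (z * (t * w * t⁻¹ * w⁻¹) * z⁻¹) by group, h1, one_mul]
        exact (baseC_normal p S).conj_mem _ (hw.2 t) z
      obtain ⟨y, hy, u, hu, hne⟩ := X.nontriv
      apply hne
      have hyD : y ∈ D := mem_of_coprime X.hyp.setup D (fun h => hsQ (h ⟨hs, hSD hs⟩)) hy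
      have hcC := hyD u hu
      obtain ⟨c, hc⟩ : ∃ c, c = y * u * y⁻¹ * u⁻¹ := ⟨_, rfl⟩
      rw [← hc] at hcC
      have h1 : c = 1 := fixed_of_step (u := u) (c := c) (x := y) (by rw [hc]; group)
        (Subgroup.mem_center_iff.1 hcC.2 y) hy ⟨1, by rw [pow_one]; exact X.baseV_pow hcC.1⟩
      rw [hc, mul_inv_eq_one, mul_inv_eq_iff_eq_mul] at h1
      exact h1
    · -- for `n ≥ 2` some element of `S` outside `Q` is a product of elements of order prime to `p`
      set R := Subgroup.closure {y : G | (orderOf y).Coprime p}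
      haveI hRn : R.Normal := ⟨fun r hr g => by
        induction hr using Subgroup.closure_induction with
        | mem y hy =>
          refine Subgroup.subset_closure ?_
          show (orderOf (g * y * g⁻¹)).Coprime p
          rwa [show g * y * g⁻¹ = MulAut.conj g y from rfl, MulEquiv.orderOf_eq]
        | one => simp
        | mul a b _ _ ha hb =>
          rw [show g * (a * b) * g⁻¹ = (g * a * g⁻¹) * (g * b * g⁻¹) by group]; exact mul_mem ha hb
        | inv a _ ha => rw [show g * a⁻¹ * g⁻¹ = (g * a * g⁻¹)⁻¹ by group]; exact inv_mem ha⟩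
      have hRx : R ≤ Subgroup.centralizer {x} := (Subgroup.closure_le _).2 fun y hy =>
        Subgroup.mem_centralizer_singleton_iff.2 (hcop y hy)
      by_cases hle : S ⊓ R ≤ Q
      · refine X.hyp.setup.proper (eq_top_iff.2 ?_)
        have hRM : R ≤ M :=
          ((CfsgLib.LocalEven.PushingUpClosure.kernel_facts X.hyp.setup X.hyp.one_le X.hyp.card φ
            X.hyp.surj).2.2 R hRn hle hn).trans X.hyp.ker_le
        have htop : M = ⊤ := by
          apply Solvable.Cores.eq_top_of_sylow_le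
          intro q hq
          by_cases hqp : q = p
          · subst hqp
            obtain ⟨P, hP⟩ := X.hyp.setup.sylow
            exact ⟨P, hP.le.trans X.hyp.setup.sleM⟩
          · haveI := Fact.mk hq
            obtain ⟨P⟩ : Nonempty (Sylow q G) := inferInstance
            refine ⟨P, fun s hsP => hRM (Subgroup.subset_closure ?_)⟩
            obtain ⟨a, ha⟩ := P.isPGroup' ⟨s, hsP⟩
            exact Nat.Coprime.coprime_dvd_left
              (orderOf_dvd_of_pow_eq_one (by simpa using congrArg Subtype.val ha))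
              (Nat.Coprime.pow_left a ((Nat.coprime_primes hq Fact.out).2 hqp))
        rw [htop]
      · obtain ⟨a, ⟨haS, haR⟩, haQ⟩ := SetLike.not_le_iff_exists.1 hle
        exact hxZ (X.fixed_eq haS haQ hx (Subgroup.mem_centralizer_singleton_iff.1 (hRx haR)))

end Pre

end CfsgLib.PushingUpRankOne
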