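/-
Consequences inside the group itself, and the structure at critical distance one.
-/
import Cfsg.Agent.Lib.PushingUpRankOne.Module

set_option autoImplicit false
set_option linter.unusedSectionVars false
set_option linter.style.haveILetI false

open Matrix CfsgLib.Perm.SL2Unipotent
open scoped MatrixGroups commutatorElement

namespace CfsgLib.PushingUpRankOne

open CfsgLib.LocalEvenB.PushingUp CfsgLib.LocalEvenB

variable {G : Type*} [Group G] [Finite G] {p : ℕ} [Fact p.Prime] {F : Type*} [Field F] [Fintype F]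

local notation "ℭ" X:max => Subgroup.centralizer (SetLike.coe X)

/-- The elements of order prime to `p` centralise `R` modulo `R'`. -/
def Fixes (p : ℕ) (R' R : Subgroup G) : Prop :=
  ∀ x : G, (orderOf x).Coprime p → ∀ r ∈ R, x * r * x⁻¹ * r⁻¹ ∈ R'

/-- The elements fixing `R` modulo a normal subgroup. -/
def fixer (R' R : Subgroup G) [R'.Normal] : Subgroup G where
  carrier := {g | g ∈ Subgroup.normalizer (R : Set G) ∧ ∀ r ∈ R, g * r * g⁻¹ * r⁻¹ ∈ R'}
  one_mem' := ⟨one_mem _, fun r _ => by simp⟩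
  mul_mem' := fun {g h} hg hh => ⟨mul_mem hg.1 hh.1, fun r hr => by
    rw [show g * h * r * (g * h)⁻¹ * r⁻¹ = (g * (h * r * h⁻¹ * r⁻¹) * g⁻¹) * (g * r * g⁻¹ * r⁻¹) by group]
    exact mul_mem (‹R'.Normal›.conj_mem _ (hh.2 r hr) g) (hg.2 r hr)⟩
  inv_mem' := fun {g} hg => ⟨inv_mem hg.1, fun r hr => by
    have h1 := ‹R'.Normal›.conj_mem _ (inv_mem (hg.2 r hr)) g⁻¹
    rwa [show g⁻¹ * (g * r * g⁻¹ * r⁻¹)⁻¹ * g⁻¹⁻¹ = g⁻¹ * r * g⁻¹⁻¹ * r⁻¹ by group] at h1⟩

omit [Finite G] in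
theorem fixer_normal (R' R : Subgroup G) [R'.Normal] (hR : R.Normal) : (fixer R' R).Normal := by
  refine ⟨fun c hc g => ⟨by rw [Subgroup.normalizer_eq_top_iff.2 hR]; trivial, fun r hr => ?_⟩⟩
  have h1 := ‹R'.Normal›.conj_mem _ (hc.2 _ (hR.conj_mem r hr g⁻¹)) g
  rwa [show g * (c * (g⁻¹ * r * g⁻¹⁻¹) * c⁻¹ * (g⁻¹ * r * g⁻¹⁻¹)⁻¹) * g⁻¹ =
    g * c * g⁻¹ * r * (g * c * g⁻¹)⁻¹ * r⁻¹ by group] at h1

namespace Pre

variable {S Q M : Subgroup G} {n : ℕ} {φ : G →* PSL2 F} (X : Pre p S Q M n φ)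
include X

theorem isPGroup_Q : IsPGroup p Q := X.hyp.setup.isPGroup.to_le X.hyp.setup.le

/-- A subgroup of `S` outside `Q` fixing a section pulls all elements of order prime to `p` with it. -/
theorem fixes_of {R' R : Subgroup G} (hR' : R'.Normal) (hR : R.Normal) {U : Subgroup G} (hUS : U ≤ S)
    (hUQ : ¬ U ≤ Q) (h : ∀ u ∈ U, ∀ r ∈ R, u * r * u⁻¹ * r⁻¹ ∈ R') : Fixes p R' R := by
  haveI := hR'
  haveI := fixer_normal R' R hR
  intro x hx r hr
  refine (mem_of_coprime X.hyp.setup (fixer R' R) (fun hle => hUQ fun u hu => hle ⟨hUS hu, ?_⟩) hx).2 r hr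
  exact ⟨by rw [Subgroup.normalizer_eq_top_iff.2 hR]; trivial, h u hu⟩

/-- Coprime action: a fixed commutator is trivial. -/
theorem coprime_step {R : Subgroup G} (hR : R.Normal) {x u : G} (hx : (orderOf x).Coprime p) (hu : u ∈ Q)
    (h : x * (x * u * x⁻¹ * u⁻¹) * x⁻¹ * (x * u * x⁻¹ * u⁻¹)⁻¹ ∈ R) : x * u * x⁻¹ * u⁻¹ ∈ R := by
  haveI := hR
  obtain ⟨c, hc⟩ : ∃ c, c = x * u * x⁻¹ * u⁻¹ := ⟨_, rfl⟩
  rw [← hc] at h ⊢
  have hcQ : c ∈ Q := hc ▸ mul_mem (X.hyp.setup.normal.conj_mem u hu x) (inv_mem hu)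
  obtain ⟨k, hk⟩ := X.isPGroup_Q ⟨c, hcQ⟩
  refine (QuotientGroup.eq_one_iff (N := R) c).1 (fixed_of_step (p := p) (x := QuotientGroup.mk' R x)
    (u := QuotientGroup.mk' R u) (c := QuotientGroup.mk' R c) ?_ ?_
    (Nat.Coprime.coprime_dvd_left (orderOf_map_dvd _ _) hx) ⟨k, ?_⟩)
  · rw [← map_inv, ← map_mul, ← map_mul, ← map_mul, hc]
    congr 1
    group
  · have h1 : QuotientGroup.mk' R (x * c * x⁻¹ * c⁻¹) = 1 := (QuotientGroup.eq_one_iff _).2 h
    rw [map_mul, map_mul, map_mul, map_inv, map_inv, mul_inv_eq_one, mul_inv_eq_iff_eq_mul] at h1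
    exact h1
  · rw [← map_pow, show c ^ p ^ k = 1 by simpa using congrArg Subtype.val hk, map_one]

/-- Elements of order prime to `p` fixing two successive sections fix their join. -/
theorem fixes_trans {R₂ R₁ R : Subgroup G} (h₂ : R₂.Normal) (hR : R ≤ Q) (h : Fixes p R₁ R)
    (h' : Fixes p R₂ R₁) : Fixes p R₂ R := fun x hx r hr =>
  X.coprime_step h₂ hx (hR hr) (h' x hx _ (h x hx r hr))

theorem fixes_baseC {R : Subgroup G} (hR : R ≤ Q) (h : Fixes p (baseC p S) R) :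
    ∀ x : G, (orderOf x).Coprime p → ∀ r ∈ R, x * r = r * x := by
  intro x hx r hr
  have h' : Fixes p (⊥ : Subgroup G) (baseC p S) := fun y _ c hc => by
    rw [Subgroup.mem_bot, Subgroup.mem_center_iff.1 hc.2 y, mul_inv_cancel_right, mul_inv_cancel]
  have h1 := Subgroup.mem_bot.1 (X.fixes_trans inferInstance hR h h' x hx r hr)
  rw [mul_inv_eq_one, mul_inv_eq_iff_eq_mul] at h1
  exact h1

theorem rho_Q {ρ : G →* SL(2, F)} (hc : ∀ g, pr (ρ g) = φ g) (hu : ∀ s ∈ S, ∃ x, ρ s = up x) {q : G}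
    (hq : q ∈ Q) : ρ q = 1 := by
  obtain ⟨x, hx⟩ := hu q (X.hyp.setup.le hq)
  have h1 := hc q
  rw [hx, X.hyp.map_Q q hq, ← map_one pr, ← up_zero] at h1
  rw [hx, pr_up_inj h1, up_zero]

/-- If the kernel's elements of order prime to `p` centralise `Q`, the kernel is `Q`. -/
theorem rho_ker {ρ : G →* SL(2, F)} (hc : ∀ g, pr (ρ g) = φ g) (hu : ∀ s ∈ S, ∃ x, ρ s = up x)
    (h : ∀ x : G, (orderOf x).Coprime p → ρ x = 1 → ∀ r ∈ Q, x * r = r * x) (g : G) : ρ g = 1 ↔ g ∈ Q := by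
  refine ⟨fun hg => ?_, X.rho_Q hc hu⟩
  obtain ⟨a, m, hm, e⟩ := Nat.exists_eq_pow_mul_and_not_dvd (orderOf_pos g).ne' p (Fact.out : p.Prime).ne_one
  have hgm : g ^ m ∈ Q := by
    refine X.hyp.mem_Q_of_ker ?_ ?_
    · rw [← hc, map_pow ρ, hg, one_pow, map_one]
    · have h1 : (g ^ m) ^ p ^ a = 1 := by rw [← pow_mul, mul_comm, ← e, pow_orderOf_eq_one]
      obtain ⟨i, -, hi⟩ := (Nat.dvd_prime_pow (Fact.out : p.Prime)).1 (orderOf_dvd_of_pow_eq_one h1)
      exact IsPGroup.of_card (n := i) (by rw [Nat.card_zpowers, hi])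
  have hgp : g ^ p ^ a = 1 := by
    have hcop : (orderOf (g ^ p ^ a)).Coprime p := by
      refine Nat.Coprime.coprime_dvd_left (orderOf_dvd_of_pow_eq_one ?_)
        (((Fact.out : p.Prime).coprime_iff_not_dvd.2 hm).symm)
      rw [← pow_mul, ← e, pow_orderOf_eq_one]
    have hQ : g ^ p ^ a ∈ Q := X.hyp.setup.cent fun r hr =>
      (h _ hcop (by rw [map_pow, hg, one_pow]) r hr).symm
    obtain ⟨k, hk⟩ := X.isPGroup_Q ⟨_, hQ⟩
    exact orderOf_eq_one_iff.1 (Nat.eq_one_of_dvd_coprimes (hcop.pow_right k) dvd_rfl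
      (orderOf_dvd_of_pow_eq_one (by simpa using congrArg Subtype.val hk)))
  have hcop : m.Coprime (p ^ a) := Nat.Coprime.pow_right a ((Fact.out : p.Prime).coprime_iff_not_dvd.2 hm).symm
  have h2 := Nat.gcd_eq_gcd_ab m (p ^ a)
  rw [hcop] at h2
  have h3 : g = (g ^ m) ^ (m.gcdA (p ^ a)) * (g ^ p ^ a) ^ (m.gcdB (p ^ a)) := by
    rw [← zpow_natCast, ← zpow_natCast g (p ^ a), ← _root_.zpow_mul, ← _root_.zpow_mul, ← _root_.zpow_add, ← h2,
      Nat.cast_one, zpow_one]
  rw [h3, hgp, _root_.one_zpow, mul_one]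
  exact zpow_mem hgm _

theorem phi_normal : (HSubgroup.phi Q).Normal := by
  refine Subgroup.normalizer_eq_top_iff.1 (eq_top_iff.2 ?_)
  calc (⊤ : Subgroup G) = Subgroup.normalizer (Q : Set G) :=
        (Subgroup.normalizer_eq_top_iff.2 X.hyp.setup.normal).symm
    _ ≤ _ := HSubgroup.normalizer_phi Q

end Pre

namespace Ctx

variable {S Q M : Subgroup G} {n : ℕ} {φ : G →* PSL2 F} (X : Ctx p S Q M n φ)
include X

/-- A characteristic subgroup of `S` inside a subgroup centralised by the elements of order prime to `p`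
is trivial. -/
theorem eq_bot_of_char {T : Subgroup ↥S} (hT : T.Characteristic) {R : Subgroup G} (hle : T.map S.subtype ≤ R)
    (hR : ∀ x : G, (orderOf x).Coprime p → ∀ r ∈ R, x * r = r * x) : T = ⊥ := by
  by_contra hne
  refine X.noChar T hne hT (Subgroup.normalizer_eq_top_iff.1 ?_)
  apply Solvable.Cores.eq_top_of_sylow_le
  intro q hq
  by_cases hqp : q = p
  · subst hqp
    obtain ⟨P, hP⟩ := X.hyp.setup.sylow
    refine ⟨P, ?_⟩
    rw [hP]
    haveI := hT
    refine fun s hs => ?_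
    rw [Subgroup.mem_normalizer_iff]
    intro u
    constructor
    · rintro ⟨t, ht, rfl⟩
      exact ⟨⟨s, hs⟩ * t * ⟨s, hs⟩⁻¹, Subgroup.Normal.conj_mem inferInstance t ht _, rfl⟩
    · rintro ⟨t, ht, hte⟩
      refine ⟨⟨s, hs⟩⁻¹ * t * ⟨s, hs⟩⁻¹⁻¹, Subgroup.Normal.conj_mem inferInstance t ht _, ?_⟩
      replace hte : (t : G) = s * u * s⁻¹ := hte
      show s⁻¹ * (t : G) * s⁻¹⁻¹ = u
      rw [hte]
      group
  · haveI := Fact.mk hq
    obtain ⟨P⟩ : Nonempty (Sylow q G) := inferInstance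
    refine ⟨P, fun x hxP => Subgroup.centralizer_le_normalizer _ ?_⟩
    obtain ⟨a, ha⟩ := P.isPGroup' ⟨x, hxP⟩
    intro u hu
    exact (hR x (Nat.Coprime.coprime_dvd_left (orderOf_dvd_of_pow_eq_one (by simpa using congrArg Subtype.val ha))
      (Nat.Coprime.pow_left a ((Nat.coprime_primes hq Fact.out).2 hqp))) u (hle hu)).symm

end Ctx

/-- The data at critical distance one. -/
structure OneData (p : ℕ) (S Q : Subgroup G) (U : Subgroup G) : Prop where
  le : U ≤ S
  norm : S ≤ Subgroup.normalizer (U : Set G)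
  comm : ∀ u ∈ U, ∀ u' ∈ U, u * u' = u' * u
  pow : ∀ u ∈ U, u ^ p = 1
  gen : ∀ s ∈ S, ∃ u ∈ U, ∃ q ∈ Q, s = u * q
  inf : ∀ u ∈ U, u ∈ Q → u ∈ omegaZ p S
  cover : ∀ q ∈ Q, ∃ v ∈ baseV p S, ∃ d ∈ Q, (∀ u ∈ U, u * d = d * u) ∧ q = v * d
  noncomm : ∃ u ∈ U, ∃ v ∈ baseV p S, u * v ≠ v * u

namespace OneData

variable {S Q M : Subgroup G} {n : ℕ} {φ : G →* PSL2 F} {U : Subgroup G} (X : Pre p S Q M n φ)
  (D : OneData p S Q U)
include X D

theorem not_le : ¬ U ≤ Q := fun h => by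
  obtain ⟨u, hu, v, hv, hne⟩ := D.noncomm
  exact hne (X.Q_comm (h hu) hv)

theorem comm_Q {u q : G} (hu : u ∈ U) (hq : q ∈ Q) : u * q * u⁻¹ * q⁻¹ ∈ omegaZ p S := by
  have h1 : u * q * u⁻¹ * q⁻¹ ∈ U := by
    rw [show u * q * u⁻¹ * q⁻¹ = u * (q * u⁻¹ * q⁻¹) by group]
    exact mul_mem hu ((Subgroup.mem_normalizer_iff.1 (D.norm (X.hyp.setup.le hq)) _).1 (inv_mem hu))
  exact D.inf _ h1 (mul_mem (X.hyp.setup.normal.conj_mem q hq u) (inv_mem hq))

theorem fixesQ : Fixes p (baseV p S) Q :=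
  X.fixes_of inferInstance X.hyp.setup.normal D.le (not_le X D) fun _ hu _ hq =>
    omegaZ_le_baseV (comm_Q X D hu hq)

theorem phi_cent {u r : G} (hu : u ∈ U) (hr : r ∈ HSubgroup.phi Q) : u * r = r * u := by
  have hp := X.isPGroup_Q
  refine Subgroup.mem_centralizer_iff.1 ((phi_le_of (N := ℭ U) hp (fun q hq => ?_) fun q hq q' hq' => ?_) hr) u hu
  · obtain ⟨v, hv, d, hd, hdu, rfl⟩ := D.cover q hq
    intro w hw
    rw [(show Commute v d from (X.Q_comm hd hv).symm).mul_pow, X.baseV_pow hv, one_mul]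
    exact (show Commute w d from hdu w hw).pow_right p
  · obtain ⟨v, hv, d, hd, hdu, rfl⟩ := D.cover q hq
    obtain ⟨v', hv', d', hd', hdu', rfl⟩ := D.cover q' hq'
    intro w hw
    have e : ⁅v * d, v' * d'⁆ = ⁅d, d'⁆ := by
      have c1 : Commute d v' := X.Q_comm hd hv'
      have c2 : Commute d' v := X.Q_comm hd' hv
      have c3 : Commute v v' := X.baseV_comm hv hv'
      rw [commutatorElement_def, commutatorElement_def]
      calc v * d * (v' * d') * (v * d)⁻¹ * (v' * d')⁻¹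
          = v * (d * v') * d' * d⁻¹ * v⁻¹ * d'⁻¹ * v'⁻¹ := by group
        _ = (v * v') * d * d' * d⁻¹ * (v⁻¹ * d'⁻¹) * v'⁻¹ := by rw [c1.eq]; group
        _ = (v' * v) * d * d' * d⁻¹ * (d'⁻¹ * v⁻¹) * v'⁻¹ := by rw [c3.eq, c2.inv_inv.symm.eq]
        _ = (v' * v) * (d * d' * d⁻¹ * d'⁻¹) * (v' * v)⁻¹ := by group
        _ = _ := by
          have hvv : v' * v ∈ baseV p S := mul_mem hv' hv
          have hdd : d * d' * d⁻¹ * d'⁻¹ ∈ Q := mul_mem (mul_mem (mul_mem hd hd') (inv_mem hd)) (inv_mem hd')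
          rw [← X.Q_comm hdd hvv, mul_inv_cancel_right]
    rw [e, commutatorElement_def]
    exact (((show Commute w d from hdu w hw).mul_right (hdu' w hw)).mul_right
      (show Commute w d from hdu w hw).inv_right).mul_right (show Commute w d' from hdu' w hw).inv_right

theorem phi_fixed (x : G) (hx : (orderOf x).Coprime p) : ∀ r ∈ HSubgroup.phi Q, x * r = r * x := by
  intro r hr
  have h := X.fixes_of (R' := ⊥) inferInstance X.phi_normal D.le (not_le X D) (fun u hu r hr => by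
    rw [Subgroup.mem_bot, phi_cent X D hu hr, mul_inv_cancel_right, mul_inv_cancel]) x hx r hr
  rw [Subgroup.mem_bot, mul_inv_eq_one, mul_inv_eq_iff_eq_mul] at h
  exact h

theorem comm_S {s t : G} (hs : s ∈ S) (ht : t ∈ S) : ⁅s, t⁆ ∈ omegaZ p S ⊔ HSubgroup.phi Q := by
  haveI := X.phi_normal
  set π := QuotientGroup.mk' (HSubgroup.phi Q)
  obtain ⟨u, hu, q, hq, rfl⟩ := D.gen s hs
  obtain ⟨u', hu', q', hq', rfl⟩ := D.gen t ht
  have hqq : Commute (π q) (π q') := by
    have : π ⁅q, q'⁆ = 1 := (QuotientGroup.eq_one_iff _).2 (HSubgroup.comm_mem_phi X.isPGroup_Q hq hq')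
    rw [map_commutatorElement] at this
    exact commutatorElement_eq_one_iff_commute.1 this
  have huu : Commute u u' := D.comm u hu u' hu'
  have hc1 := comm_Q X D hu hq'
  have hc2 := comm_Q X D hu' hq
  set c1 := u * q' * u⁻¹ * q'⁻¹ with hc1d
  set c2 := u' * q * u'⁻¹ * q⁻¹ with hc2d
  have hcomm : ∀ {z w : G}, z ∈ omegaZ p S → w ∈ S → Commute w z := fun hz hw => hz.2.1 _ hw
  have hπ : π ⁅u * q, u' * q'⁆ = π (c1 * c2⁻¹) := by
    rw [commutatorElement_def]
    calc π (u * q * (u' * q') * (u * q)⁻¹ * (u' * q')⁻¹)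
        = π u * π q * (π u' * π q') * (π q)⁻¹ * (π u)⁻¹ * (π q')⁻¹ * (π u')⁻¹ := by
          simp only [map_mul, map_inv]; group
      _ = π u * (π q * π u') * (π q' * (π q)⁻¹) * (π u)⁻¹ * (π q')⁻¹ * (π u')⁻¹ := by group
      _ = π u * (π c2⁻¹ * π u' * π q) * ((π q)⁻¹ * π q') * (π u)⁻¹ * (π q')⁻¹ * (π u')⁻¹ := by
          rw [hqq.inv_left.symm.eq]
          congr 5
          rw [hc2d]; simp only [map_mul, map_inv]; group
      _ = π (u * c2⁻¹ * u') * (π q' * (π u)⁻¹ * (π q')⁻¹) * (π u')⁻¹ := by simp only [map_mul, map_inv]; group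
      _ = π (u * c2⁻¹ * u') * π (u⁻¹ * c1) * (π u')⁻¹ := by
          congr 2
          rw [hc1d]; simp only [map_mul, map_inv]; group
      _ = π (u * c2⁻¹ * u' * (u⁻¹ * c1) * u'⁻¹) := by simp only [map_mul, map_inv]
      _ = _ := by
          congr 1
          have hS2 := (hcomm (inv_mem hc2) (D.le hu))
          calc u * c2⁻¹ * u' * (u⁻¹ * c1) * u'⁻¹ = c2⁻¹ * (u * u') * u⁻¹ * c1 * u'⁻¹ := by rw [hS2.eq]; group
            _ = c2⁻¹ * (u' * c1 * u'⁻¹) := by rw [huu.eq]; group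
            _ = c2⁻¹ * c1 := by rw [(hcomm hc1 (D.le hu')).eq, mul_inv_cancel_right]
            _ = _ := (hcomm (inv_mem hc2) (hc1.1)).eq.symm
  have h1 : (c1 * c2⁻¹)⁻¹ * ⁅u * q, u' * q'⁆ ∈ HSubgroup.phi Q := QuotientGroup.eq.1 hπ.symm
  have := mul_mem (Subgroup.mem_sup_left (mul_mem hc1 (inv_mem hc2)) :
    c1 * c2⁻¹ ∈ omegaZ p S ⊔ HSubgroup.phi Q) (Subgroup.mem_sup_right h1)
  rwa [mul_inv_cancel_left] at this

/-- The powers of the Sylow subgroup modulo the Frattini subgroup of `Q`. -/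
theorem pow_mem_phi {s : G} (hs : s ∈ S) : s ^ (if p = 2 then 4 else p) ∈ HSubgroup.phi Q := by
  haveI := X.phi_normal
  set e := if p = 2 then 4 else p
  set π := QuotientGroup.mk' (HSubgroup.phi Q)
  obtain ⟨u, hu, q, hq, rfl⟩ := D.gen s hs
  rw [← QuotientGroup.eq_one_iff]
  show π ((u * q) ^ e) = 1
  have hc := comm_Q X D hu hq
  set c := u * q * u⁻¹ * q⁻¹ with hcd
  have hcu : Commute (π u) (π c) := (show Commute u c from hc.2.1 u (D.le hu)).map π
  have hcq : Commute (π q) (π c) := (show Commute q c from hc.2.1 q (X.hyp.setup.le hq)).map π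
  have hqu : π q * π u = (π c)⁻¹ * (π u * π q) := by rw [hcd]; simp only [map_mul, map_inv]; group
  -- powers of a product in a class two group
  have hpow : ∀ k : ℕ, (π u * π q) ^ k = π u ^ k * π q ^ k * (π c)⁻¹ ^ (k * (k - 1) / 2) := by
    intro k
    induction k with
    | zero => simp
    | succ k ih =>
      have hqk : π q ^ k * π u = π u * π q ^ k * (π c)⁻¹ ^ k := by
        clear ih
        induction k with
        | zero => simp
        | succ k ihk =>
          have hcu' : Commute (π u) (π c)⁻¹ := hcu.inv_right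
          have hcq' : Commute (π q) (π c)⁻¹ := hcq.inv_right
          calc π q ^ (k + 1) * π u = π q * (π q ^ k * π u) := by rw [pow_succ']; group
            _ = (π q * π u) * π q ^ k * (π c)⁻¹ ^ k := by rw [ihk]; group
            _ = (π c)⁻¹ * (π u * π q ^ (k + 1)) * (π c)⁻¹ ^ k := by rw [hqu, pow_succ']; group
            _ = π u * π q ^ (k + 1) * ((π c)⁻¹ * (π c)⁻¹ ^ k) := by
              rw [← ((hcu'.mul_left (hcq'.pow_left _))).eq]; group
            _ = _ := by rw [← pow_succ']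
      have hcu' : Commute (π u) (π c)⁻¹ := hcu.inv_right
      have hcq' : Commute (π q) (π c)⁻¹ := hcq.inv_right
      rw [pow_succ, ih]
      set d := (π c)⁻¹
      calc π u ^ k * π q ^ k * d ^ (k * (k - 1) / 2) * (π u * π q)
          = π u ^ k * π q ^ k * (π u * π q) * d ^ (k * (k - 1) / 2) := by
            rw [mul_assoc (π u ^ k * π q ^ k), ← ((hcu'.mul_left hcq').pow_right _).eq]; group
        _ = π u ^ k * (π u * π q ^ k * d ^ k) * π q * d ^ (k * (k - 1) / 2) := by rw [← hqk]; group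
        _ = π u ^ k * π u * π q ^ k * π q * (d ^ k * d ^ (k * (k - 1) / 2)) := by
            rw [mul_assoc (π u) (π q ^ k)]
            calc _ = π u ^ k * π u * π q ^ k * (d ^ k * π q) * d ^ (k * (k - 1) / 2) := by group
              _ = _ := by rw [← (hcq'.pow_right k).eq]; group
        _ = _ := by
            rw [← pow_succ, mul_assoc (π u ^ (k + 1)), ← pow_succ, ← pow_add]
            congr 2
            rcases k with _ | k
            · rfl
            · simp only [Nat.add_sub_cancel]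
              rw [show (k + 1 + 1) * (k + 1) = (k + 1) * k + (k + 1) * 2 by ring,
                Nat.add_mul_div_right _ _ two_pos]
              omega
  have hu1 : π u ^ p = 1 := by rw [← map_pow, D.pow u hu, map_one]
  have hq1 : π q ^ p = 1 := by
    rw [← map_pow]
    exact (QuotientGroup.eq_one_iff _).2 (HSubgroup.pow_mem_phi X.isPGroup_Q hq)
  have hd1 : (π c)⁻¹ ^ p = 1 := by rw [inv_pow, ← map_pow, hc.2.2, map_one, inv_one]
  rw [map_pow, map_mul, hpow]
  by_cases hp2 : p = 2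
  · simp only [e, if_pos hp2]
    rw [show (4 : ℕ) = p * 2 by omega, pow_mul, pow_mul, hu1, hq1, one_pow, one_mul, one_mul,
      show (p * 2) * (p * 2 - 1) / 2 = p * 3 by subst hp2; rfl, pow_mul, hd1, one_pow]
  · simp only [e, if_neg hp2]
    rw [hu1, hq1, one_mul, one_mul]
    have hodd : Odd p := (Fact.out : p.Prime).odd_of_ne_two hp2
    obtain ⟨j, hj⟩ := hodd
    have e2 : p * (p - 1) / 2 = p * j := by
      rw [show p - 1 = j * 2 by omega, ← mul_assoc, Nat.mul_div_cancel _ two_pos]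
    rw [e2, pow_mul, hd1, one_pow]

end OneData

namespace OneData

variable {S Q M : Subgroup G} {n : ℕ} {φ : G →* PSL2 F} {U : Subgroup G} (X : Ctx p S Q M n φ)
  (D : OneData p S Q U)
include X D

theorem class_two : (⊤ : Subgroup ↥S).lowerCentralSeries 2 = ⊥ ∧ S.lowerCentralSeries 2 = ⊥ ∧
    S.lowerCentralSeries 1 ≠ ⊥ := by
  haveI := X.phi_normal
  have h1 : S.lowerCentralSeries 1 ≤ omegaZ p S ⊔ HSubgroup.phi Q := by
    rw [Subgroup.lowerCentralSeries_succ, Subgroup.lowerCentralSeries_zero]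
    exact Subgroup.commutator_le.2 fun s hs t ht => comm_S X.pre D hs ht
  have h2 : S.lowerCentralSeries 2 ≤ HSubgroup.phi Q := by
    rw [Subgroup.lowerCentralSeries_succ]
    refine (Subgroup.commutator_mono h1 le_rfl).trans (Subgroup.commutator_le.2 fun a ha t ht => ?_)
    obtain ⟨z, hz, r, hr, rfl⟩ := Subgroup.mem_sup_of_normal_right.1 ha
    have htz : Commute t z := hz.2.1 t ht
    rw [commutatorElement_def, show z * r * t * (z * r)⁻¹ * t⁻¹ = z * (r * t * r⁻¹) * (z⁻¹ * t⁻¹) by group,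
      htz.inv_inv.symm.eq, show z * (r * t * r⁻¹) * (t⁻¹ * z⁻¹) = z * (r * (t * r⁻¹ * t⁻¹)) * z⁻¹ by group]
    exact X.phi_normal.conj_mem _ (mul_mem hr (X.phi_normal.conj_mem _ (inv_mem hr) t)) z
  have h3 : (⊤ : Subgroup ↥S).lowerCentralSeries 2 = ⊥ := by
    refine X.eq_bot_of_char inferInstance ?_ (phi_fixed X.pre D)
    rwa [Subgroup.map_lowerCentralSeries, ← MonoidHom.range_eq_map, Subgroup.range_subtype]
  refine ⟨h3, ?_, ?_⟩
  · have := congrArg (Subgroup.map S.subtype) h3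
    rwa [Subgroup.map_lowerCentralSeries, ← MonoidHom.range_eq_map, Subgroup.range_subtype, Subgroup.map_bot] at this
  · intro h
    obtain ⟨u, hu, v, hv, hne⟩ := D.noncomm
    have : ⁅u, v⁆ ∈ S.lowerCentralSeries 1 := by
      rw [Subgroup.lowerCentralSeries_succ, Subgroup.lowerCentralSeries_zero]
      exact Subgroup.commutator_mem_commutator (D.le hu) (X.baseV_le hv)
    rw [h, Subgroup.mem_bot] at this
    exact hne (commutatorElement_eq_one_iff_commute.1 this)

theorem exponent_dvd : Monoid.exponent ↥S ∣ if p = 2 then 4 else p := by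
  haveI := X.phi_normal
  set e := if p = 2 then 4 else p
  let T : Subgroup ↥S := Subgroup.closure (Set.range fun s : ↥S => s ^ e)
  haveI : T.Characteristic := characteristic_of_forall fun f x hx => by
    induction hx using Subgroup.closure_induction with
    | mem y hy =>
      obtain ⟨s, rfl⟩ := hy
      rw [map_pow]
      exact Subgroup.subset_closure ⟨f s, rfl⟩
    | one => rw [map_one]; exact one_mem _
    | mul a b _ _ ha hb => rw [map_mul]; exact mul_mem ha hb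
    | inv a _ ha => rw [map_inv]; exact inv_mem ha
  suffices hle : T.map S.subtype ≤ HSubgroup.phi Q by
    have hT := X.eq_bot_of_char (T := T) inferInstance hle (phi_fixed X.pre D)
    refine Monoid.exponent_dvd_of_forall_pow_eq_one fun s => ?_
    have : s ^ e ∈ T := Subgroup.subset_closure ⟨s, rfl⟩
    rwa [hT, Subgroup.mem_bot] at this
  rw [Subgroup.map_le_iff_le_comap, Subgroup.closure_le]
  rintro _ ⟨⟨s, hs⟩, rfl⟩
  show s ^ e ∈ HSubgroup.phi Q
  exact pow_mem_phi X.pre D hs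

theorem exponent_eq : Monoid.exponent ↥S = if p = 2 then 4 else p := by
  have hd := exponent_dvd X D
  obtain ⟨-, -, hne⟩ := class_two X D
  have hp : p.Prime := Fact.out
  have h1 : Monoid.exponent ↥S ≠ 1 := fun h => hne (by
    haveI : Subsingleton ↥S := Monoid.exp_eq_one_iff.1 h
    have : S = ⊥ := Subgroup.eq_bot_of_subsingleton S
    rw [Subgroup.lowerCentralSeries_succ, Subgroup.lowerCentralSeries_zero, this, Subgroup.commutator_bot_left])
  split_ifs at hd with hp2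
  · rw [if_pos hp2]
    obtain ⟨k, hk, e⟩ := (Nat.dvd_prime_pow Nat.prime_two).1 (show Monoid.exponent ↥S ∣ 2 ^ 2 by simpa using hd)
    rcases (by omega : k = 0 ∨ k = 1 ∨ k = 2) with rfl | rfl | rfl
    · exact absurd (by simpa using e) h1
    · refine absurd ?_ hne
      rw [Subgroup.lowerCentralSeries_succ, Subgroup.lowerCentralSeries_zero, eq_bot_iff, Subgroup.commutator_le]
      intro a ha c hc
      have hsq : ∀ x : ↥S, x * x = 1 := fun x => by
        rw [← pow_two, ← Monoid.pow_exponent_eq_one x, e, pow_one]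
      rw [Subgroup.mem_bot, commutatorElement_eq_one_iff_commute]
      have h2 : (⟨a, ha⟩ : ↥S) * ⟨c, hc⟩ = ⟨c, hc⟩ * ⟨a, ha⟩ := by
        have hinv : ∀ x : ↥S, x⁻¹ = x := fun x => inv_eq_of_mul_eq_one_right (hsq x)
        rw [← hinv ((⟨a, ha⟩ : ↥S) * ⟨c, hc⟩), _root_.mul_inv_rev, hinv, hinv]
      exact congrArg Subtype.val h2
    · simpa using e
  · rw [if_neg hp2]
    exact ((Nat.dvd_prime hp).1 hd).resolve_left h1

end OneData

end CfsgLib.PushingUpRankOne
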