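/-
The group in which the automorphisms of the Sylow subgroup and the group itself act together, and the
elementary properties of the conjugates of the module there.
-/
import Cfsg.Agent.Lib.PushingUpRankOne.Module

set_option autoImplicit false
set_option linter.unusedSectionVars false
set_option linter.style.haveILetI false

open Matrix CfsgLib.Perm.SL2Unipotent
open scoped MatrixGroups Pointwise commutatorElement

namespace CfsgLib.PushingUpRankOne

open CfsgLib.LocalEvenB.PushingUp CfsgLib.LocalEvenB CfsgLib.LocalEven.PushingUpClosure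

variable {G : Type*} [Group G] [Finite G] {p : ℕ} [Fact p.Prime] {F : Type*} [Field F] [Fintype F]
  {Γ : Type*} [Group Γ] [Finite Γ]

/-- Conjugate of a subgroup. -/
def cj (x : Γ) (R : Subgroup Γ) : Subgroup Γ := R.map (MulAut.conj x).toMonoidHom

theorem mem_cj {x y : Γ} {R : Subgroup Γ} : y ∈ cj x R ↔ x⁻¹ * y * x ∈ R := by
  constructor
  · rintro ⟨r, hr, rfl⟩
    simpa [mul_assoc] using hr
  · intro h
    exact ⟨_, h, by simp [mul_assoc]⟩

theorem conj_mem_cj {x y : Γ} {R : Subgroup Γ} (h : y ∈ R) : x * y * x⁻¹ ∈ cj x R := ⟨y, h, rfl⟩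

theorem cj_mul (x y : Γ) (R : Subgroup Γ) : cj (x * y) R = cj x (cj y R) := by
  ext u; simp [mem_cj, mul_assoc]

theorem cj_one (R : Subgroup Γ) : cj 1 R = R := by ext u; simp [mem_cj]

theorem cj_mono (x : Γ) {R R' : Subgroup Γ} (h : R ≤ R') : cj x R ≤ cj x R' := Subgroup.map_mono h

theorem cj_eq_of_mem {x : Γ} {R : Subgroup Γ} (h : x ∈ Subgroup.normalizer (R : Set Γ)) : cj x R = R :=
  Subgroup.mem_normalizer_iff_map_conj_eq.1 h

theorem cj_sup (x : Γ) (R R' : Subgroup Γ) : cj x (R ⊔ R') = cj x R ⊔ cj x R' := Subgroup.map_sup _ _ _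

theorem cj_inf (x : Γ) (R R' : Subgroup Γ) : cj x (R ⊓ R') = cj x R ⊓ cj x R' :=
  Subgroup.map_inf _ _ _ (MulAut.conj x).injective

theorem cj_relIndex (x : Γ) (R R' : Subgroup Γ) : (cj x R).relIndex (cj x R') = R.relIndex R' :=
  Subgroup.relIndex_map_map_of_injective _ _ (MulAut.conj x).injective

theorem eq_of_cj_inv {x : Γ} {R R' : Subgroup Γ} (h : cj x⁻¹ R = R') : R = cj x R' := by
  rw [← h, ← cj_mul, mul_inv_cancel, cj_one]

/-- The group inside `Γ`. -/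
structure Emb (p : ℕ) (S Q M : Subgroup G) (n : ℕ) (φ : G →* PSL2 F) (ι : G →* Γ) : Prop
    extends ctx : Pre p S Q M n φ where
  inj : Function.Injective ι

/-- The data of the amalgam: `X` is the given group inside `Γ`, and no nontrivial subgroup of `S` is
normalised both by `X` and by the normaliser of `S`. -/
structure Amalgam (p : ℕ) (S Q M : Subgroup G) (n : ℕ) (φ : G →* PSL2 F) (ι : G →* Γ) : Prop
    extends emb : Emb p S Q M n φ ι where
  faithful : ∀ T : Subgroup Γ, T ≤ S.map ι → ι.range ≤ Subgroup.normalizer (T : Set Γ) →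
    Subgroup.normalizer ((S.map ι : Subgroup Γ) : Set Γ) ≤ Subgroup.normalizer (T : Set Γ) → T = ⊥

namespace Emb

variable {S Q M : Subgroup G} {n : ℕ} {φ : G →* PSL2 F} {ι : G →* Γ}

/-- Images in the amalgam. -/
def X (_ : Emb p S Q M n φ ι) : Subgroup Γ := ι.range
/-- The Sylow subgroup. -/
def S₁ (_ : Emb p S Q M n φ ι) : Subgroup Γ := S.map ι
/-- The largest normal `p`-subgroup. -/
def Q₁ (_ : Emb p S Q M n φ ι) : Subgroup Γ := Q.map ι
/-- The module. -/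
def V (_ : Emb p S Q M n φ ι) : Subgroup Γ := (baseV p S).map ι
/-- The line. -/
def Z (_ : Emb p S Q M n φ ι) : Subgroup Γ := (omegaZ p S).map ι
/-- The fixed points. -/
def C (_ : Emb p S Q M n φ ι) : Subgroup Γ := (baseC p S).map ι
/-- The normaliser of the Sylow subgroup. -/
def N (_ : Emb p S Q M n φ ι) : Subgroup Γ := Subgroup.normalizer ((S.map ι : Subgroup Γ) : Set Γ)

variable (A : Emb p S Q M n φ ι)

theorem map_normal {R : Subgroup G} (hR : R.Normal) {g : Γ} (hg : g ∈ A.X) : cj g (R.map ι) = R.map ι := by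
  obtain ⟨x, rfl⟩ := hg
  ext u
  rw [mem_cj]
  constructor
  · rintro ⟨r, hr, he⟩
    refine ⟨x * r * x⁻¹, hR.conj_mem r hr x, ?_⟩
    rw [map_mul, map_mul, map_inv, he]
    group
  · rintro ⟨r, hr, rfl⟩
    exact ⟨x⁻¹ * r * x, by simpa using hR.conj_mem r hr x⁻¹, by simp [mul_assoc]⟩

theorem cj_Q {g : Γ} (hg : g ∈ A.X) : cj g A.Q₁ = A.Q₁ := A.map_normal A.ctx.hyp.setup.normal hg
theorem cj_V {g : Γ} (hg : g ∈ A.X) : cj g A.V = A.V := A.map_normal inferInstance hg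
theorem cj_X {g : Γ} (hg : g ∈ A.X) : cj g A.X = A.X := cj_eq_of_mem (Subgroup.le_normalizer hg)
theorem cj_S {h : Γ} (hh : h ∈ A.N) : cj h A.S₁ = A.S₁ := cj_eq_of_mem hh

theorem S_le : A.S₁ ≤ A.X := Subgroup.map_le_range _ _
theorem Q_le : A.Q₁ ≤ A.S₁ := Subgroup.map_mono A.ctx.hyp.setup.le
theorem V_le : A.V ≤ A.Q₁ := Subgroup.map_mono A.ctx.baseV_le_Q
theorem Z_le : A.Z ≤ A.V := Subgroup.map_mono omegaZ_le_baseV
theorem C_le : A.C ≤ A.Z := Subgroup.map_mono A.ctx.baseC_le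

theorem Z_eq : A.Z = omegaZ p A.S₁ := by
  ext u
  constructor
  · rintro ⟨z, ⟨h1, h2, h3⟩, rfl⟩
    refine ⟨⟨z, h1, rfl⟩, ?_, by rw [← map_pow, h3, map_one]⟩
    rintro _ ⟨s, hs, rfl⟩
    rw [← map_mul, ← map_mul, h2 s hs]
  · rintro ⟨⟨z, hz, rfl⟩, h2, h3⟩
    refine ⟨z, ⟨hz, fun s hs => A.inj ?_, A.inj (by rw [map_pow, h3, map_one])⟩, rfl⟩
    rw [map_mul, map_mul, h2 _ ⟨s, hs, rfl⟩]

theorem cj_Z {h : Γ} (hh : h ∈ A.N) : cj h A.Z = A.Z := by
  rw [A.Z_eq]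
  have key : ∀ h ∈ A.N, cj h (omegaZ p A.S₁) ≤ omegaZ p A.S₁ := by
    rintro h hh _ ⟨z, ⟨h1, h2, h3⟩, rfl⟩
    have hS := A.cj_S hh
    refine ⟨hS.le (conj_mem_cj h1), fun s hs => ?_, ?_⟩
    · rw [← hS] at hs
      obtain ⟨t, ht, rfl⟩ := hs
      exact (show Commute t z from h2 t ht).map (MulAut.conj h).toMonoidHom
    · show (h * z * h⁻¹) ^ p = 1
      rw [conj_pow, h3, mul_one, mul_inv_cancel]
  refine le_antisymm (key h hh) fun u hu => ?_
  have h1 := key h⁻¹ (inv_mem hh) (conj_mem_cj hu)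
  rw [inv_inv] at h1
  exact mem_cj.2 h1

theorem Z_cent {z s : Γ} (hz : z ∈ A.Z) (hs : s ∈ A.S₁) : s * z = z * s := (A.Z_eq ▸ hz : z ∈ omegaZ p A.S₁).2.1 s hs

theorem C_cent {c x : Γ} (hc : c ∈ A.C) (hx : x ∈ A.X) : x * c = c * x := by
  obtain ⟨c, hc, rfl⟩ := hc
  obtain ⟨x, rfl⟩ := hx
  rw [← map_mul, ← map_mul, Subgroup.mem_center_iff.1 hc.2 x]

theorem QV_comm {q v : Γ} (hq : q ∈ A.Q₁) (hv : v ∈ A.V) : q * v = v * q := by
  obtain ⟨q, hq, rfl⟩ := hq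
  obtain ⟨v, hv, rfl⟩ := hv
  rw [← map_mul, ← map_mul, A.ctx.Q_comm hq hv]

theorem V_pow {v : Γ} (hv : v ∈ A.V) : v ^ p = 1 := by
  obtain ⟨v, hv, rfl⟩ := hv
  rw [← map_pow, A.ctx.baseV_pow hv, map_one]

theorem isPGroup_S : IsPGroup p A.S₁ := A.ctx.hyp.setup.isPGroup.map ι

theorem zpowers_pgroup {x g : Γ} (hx : x ∈ cj g A.S₁) : IsPGroup p (Subgroup.zpowers x) :=
  (A.isPGroup_S.map _).to_le (Subgroup.zpowers_le.2 hx)

/-- A `p`-element centralising the module lies in the largest normal `p`-subgroup. -/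
theorem mem_Q {x : Γ} (hx : x ∈ A.X) (hp : IsPGroup p (Subgroup.zpowers x)) (hc : ∀ v ∈ A.V, x * v = v * x) :
    x ∈ A.Q₁ := by
  obtain ⟨x, rfl⟩ := hx
  have hp' : IsPGroup p (Subgroup.zpowers x) := by
    have := hp.comap_of_injective ι A.inj
    exact this.to_le (Subgroup.zpowers_le.2 ⟨1, by simp⟩)
  obtain ⟨P, hP⟩ := A.ctx.hyp.setup.sylow
  obtain ⟨R, hR⟩ := hp'.exists_le_sylow
  obtain ⟨g, hg⟩ := MulAction.exists_smul_eq G R P
  have hmem : g * x * g⁻¹ ∈ S := by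
    rw [← hP, ← hg]
    exact ⟨x, hR (Subgroup.mem_zpowers x), rfl⟩
  have hcent : ∀ v ∈ baseV p S, (g * x * g⁻¹) * v = v * (g * x * g⁻¹) := by
    intro v hv
    have hv' : g⁻¹ * v * g ∈ baseV p S := by simpa using (baseV_normal p S).conj_mem v hv g⁻¹
    have h1 := A.inj ((map_mul ι x _).trans ((hc _ ⟨_, hv', rfl⟩).trans (map_mul ι _ x).symm))
    calc g * x * g⁻¹ * v = g * (x * (g⁻¹ * v * g)) * g⁻¹ := by group
      _ = g * ((g⁻¹ * v * g) * x) * g⁻¹ := by rw [h1]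
      _ = _ := by group
  have hQ := A.ctx.inf_cent ⟨hmem, fun v hv => (hcent v hv).symm⟩
  refine ⟨x, ?_, rfl⟩
  simpa [mul_assoc] using A.ctx.hyp.setup.normal.conj_mem _ hQ g⁻¹

theorem fixed_eq {s v : Γ} (hs : s ∈ A.S₁) (hsQ : s ∉ A.Q₁) (hv : v ∈ A.V) (h : s * v = v * s) : v ∈ A.Z := by
  obtain ⟨s, hs, rfl⟩ := hs
  obtain ⟨v, hv, rfl⟩ := hv
  exact ⟨v, A.ctx.fixed_eq hs (fun h' => hsQ ⟨s, h', rfl⟩) hv (A.inj (by rw [map_mul, map_mul, h])), rfl⟩

theorem into {s v : Γ} (hs : s ∈ A.S₁) (hv : v ∈ A.V) : s * v * s⁻¹ * v⁻¹ ∈ A.Z := by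
  obtain ⟨s, hs, rfl⟩ := hs
  obtain ⟨v, hv, rfl⟩ := hv
  exact ⟨_, A.ctx.into hs hv, by simp⟩

/-- A `p`-element moving an element of the module into the fixed points fixes it. -/
theorem fpf {x v : Γ} (hx : x ∈ A.X) (hp : IsPGroup p (Subgroup.zpowers x)) (hv : v ∈ A.V)
    (h : x * v * x⁻¹ * v⁻¹ ∈ A.C) : x * v = v * x := by
  obtain ⟨x, rfl⟩ := hx
  obtain ⟨v, hv, rfl⟩ := hv
  have hp' : IsPGroup p (Subgroup.zpowers x) := by
    have := hp.comap_of_injective ι A.inj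
    exact this.to_le (Subgroup.zpowers_le.2 ⟨1, by simp⟩)
  obtain ⟨c, hc, hce⟩ := h
  have hc' : x * v * x⁻¹ * v⁻¹ ∈ baseC p S := by
    have h' : c = x * v * x⁻¹ * v⁻¹ := A.inj (by rw [hce]; simp)
    exact h' ▸ hc
  obtain ⟨P, hP⟩ := A.ctx.hyp.setup.sylow
  obtain ⟨R, hR⟩ := hp'.exists_le_sylow
  obtain ⟨g, hg⟩ := MulAction.exists_smul_eq G R P
  have hmem : g * x * g⁻¹ ∈ S := by
    rw [← hP, ← hg]
    exact ⟨x, hR (Subgroup.mem_zpowers x), rfl⟩
  have hgv : g * v * g⁻¹ ∈ baseV p S := (baseV_normal p S).conj_mem v hv g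
  suffices hcomm : (g * x * g⁻¹) * (g * v * g⁻¹) = (g * v * g⁻¹) * (g * x * g⁻¹) by
    rw [← map_mul, ← map_mul]
    congr 1
    calc x * v = g⁻¹ * ((g * x * g⁻¹) * (g * v * g⁻¹)) * g := by group
      _ = _ := by rw [hcomm]; group
  by_cases hQ : g * x * g⁻¹ ∈ Q
  · exact A.ctx.Q_comm hQ hgv
  · obtain ⟨ρ, ψ, D⟩ := A.ctx.lineSection.natural A.ctx.hyp
    have hgc : (g * x * g⁻¹) * (g * v * g⁻¹) * (g * x * g⁻¹)⁻¹ * (g * v * g⁻¹)⁻¹ ∈ baseC p S := by
      have h1 := (baseC_normal p S).conj_mem _ hc' g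
      convert h1 using 1
      group
    have hρ : ρ (g * x * g⁻¹) ≠ 1 := fun h1 => hQ (A.ctx.hyp.mem_Q_of_map hmem (by
      rw [← D.compat, h1, map_one]))
    exact (D.mem_line inferInstance hmem hρ hgv hgc).2.1 _ hmem

theorem relIndex_S : A.Q₁.relIndex A.S₁ = p ^ n :=
  (Subgroup.relIndex_map_map_of_injective _ _ A.inj).trans A.ctx.hyp.relIndex

theorem relIndex_V : A.Z.relIndex A.V = p ^ n :=
  (Subgroup.relIndex_map_map_of_injective _ _ A.inj).trans A.ctx.card_top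

theorem exists_good : ∃ g ∈ A.X, A.S₁ ⊔ cj g A.S₁ = A.X := by
  obtain ⟨g, -, hg⟩ := A.ctx.hyp.exists_opposite
  refine ⟨ι g, ⟨g, rfl⟩, ?_⟩
  have h1 : cj (ι g) A.S₁ = (S.map (MulAut.conj g).toMonoidHom).map ι := by
    show (S.map ι).map _ = _
    rw [Subgroup.map_map, Subgroup.map_map]
    congr 1
    ext x
    simp
  rw [h1]
  show S.map ι ⊔ _ = ι.range
  rw [← Subgroup.map_sup, hg, MonoidHom.range_eq_map]

theorem good_inf {g : Γ} (hg : g ∈ A.X) (h : A.S₁ ⊔ cj g A.S₁ = A.X) {u : Γ} (hu : u ∈ A.Z)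
    (hu' : u ∈ cj g A.Z) : u ∈ A.C := by
  obtain ⟨z, hz, rfl⟩ := hu
  refine ⟨z, ⟨omegaZ_le_baseV hz, Subgroup.mem_center_iff.2 fun x => A.inj ?_⟩, rfl⟩
  rw [map_mul, map_mul]
  have hle : A.X ≤ Subgroup.centralizer {ι z} := by
    rw [← h]
    refine sup_le (fun s hs => Subgroup.mem_centralizer_singleton_iff.2 (A.Z_cent ⟨z, hz, rfl⟩ hs)) ?_
    rintro _ ⟨s, hs, rfl⟩
    rw [Subgroup.mem_centralizer_singleton_iff]
    obtain ⟨w, hw, hwe⟩ := hu'
    rw [← hwe]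
    exact (show Commute s w from A.Z_cent hw hs).map (MulAut.conj g).toMonoidHom
  exact Subgroup.mem_centralizer_singleton_iff.1 (hle ⟨x, rfl⟩)

/-- A subgroup of the Sylow subgroup covering it modulo `Q₁`. -/
theorem sup_eq {R : Subgroup Γ} {g : Γ} (hg : g ∈ A.X) (hR : R ≤ cj g A.S₁)
    (h : A.Q₁.relIndex R = p ^ n) : R ⊔ A.Q₁ = cj g A.S₁ := by
  have hQ : A.Q₁ ≤ cj g A.S₁ := by
    have := cj_mono g A.Q_le
    rwa [A.cj_Q hg] at this
  have hn : R ≤ Subgroup.normalizer (A.Q₁ : Set Γ) := fun r hr =>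
    Subgroup.mem_normalizer_iff_map_conj_eq.2 (A.cj_Q ((hR.trans ((cj_mono g A.S_le).trans (A.cj_X hg).le)) hr))
  have h1 : A.Q₁.relIndex (R ⊔ A.Q₁) = p ^ n := by
    have hc := CfsgLib.Fusion.Thompson.card_sup_mul_card_inf hn
    have e1 := Subgroup.relIndex_mul_relIndex ⊥ A.Q₁ (R ⊔ A.Q₁) bot_le le_sup_right
    have e2 := Subgroup.relIndex_mul_relIndex ⊥ (A.Q₁ ⊓ R) R bot_le inf_le_right
    rw [Subgroup.relIndex_bot_left, Subgroup.relIndex_bot_left] at e1 e2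
    rw [Subgroup.inf_relIndex_right, h] at e2
    rw [inf_comm] at e2
    rw [sup_comm A.Q₁ R, inf_comm] at hc
    rw [← e1, ← e2] at hc
    refine Nat.eq_of_mul_eq_mul_left (Nat.mul_pos (Nat.card_pos (α := ↥A.Q₁)) (Nat.card_pos (α := ↥(R ⊓ A.Q₁)))) ?_
    linarith [hc]
  have h2 : A.Q₁.relIndex (cj g A.S₁) = p ^ n := by
    conv_lhs => rw [← A.cj_Q hg]
    rw [cj_relIndex, A.relIndex_S]
  have h3 := Subgroup.relIndex_mul_relIndex A.Q₁ (R ⊔ A.Q₁) (cj g A.S₁) le_sup_right (sup_le hR hQ)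
  rw [h1, h2] at h3
  refine le_antisymm (sup_le hR hQ) (Subgroup.relIndex_eq_one.1 ?_)
  exact Nat.eq_of_mul_eq_mul_left (pow_pos (Fact.out : p.Prime).pos n) (h3.trans (mul_one _).symm)

end Emb

/-- Every pushing-up situation sits in such a group. -/
theorem exists_amalgam {S Q M : Subgroup G} {n : ℕ} {φ : G →* PSL2 F} (X : Ctx p S Q M n φ) :
    ∃ ι : G →* Equiv.Perm G, Amalgam p S Q M n φ ι := by
  classical
  refine ⟨MulAction.toPermHom G G, ⟨X.pre, MulAction.toPerm_injective⟩, fun T hT hTX hTN => ?_⟩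
  set ι := MulAction.toPermHom G G
  have hι : ∀ a b : G, ι a b = a * b := fun _ _ => rfl
  set T₀ : Subgroup ↥S := (T.comap ι).subgroupOf S
  by_contra hne
  refine X.noChar T₀ (fun h => hne ?_) (characteristic_of_forall fun e x hx => ?_) ?_
  · rw [eq_bot_iff]
    intro t ht
    obtain ⟨s, hs, rfl⟩ := hT ht
    have : (⟨s, hs⟩ : ↥S) ∈ T₀ := ht
    rw [h, Subgroup.mem_bot] at this
    rw [show s = 1 from congrArg Subtype.val this, map_one]
    exact one_mem _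
  · -- the automorphism is induced by a permutation
    let R := QuotientGroup.rightRel S
    let rep : G → G := fun b => (Quotient.mk R b).out
    have hrep : ∀ b : G, b * (rep b)⁻¹ ∈ S := fun b => by
      have h : R (rep b) b := Quotient.exact (Quotient.mk R b).out_eq
      exact QuotientGroup.rightRel_apply.1 h
    have hrepmul : ∀ (s : ↥S) (b : G), rep ((s : G) * b) = rep b := fun s b => by
      show (Quotient.mk R _).out = (Quotient.mk R _).out
      congr 1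
      refine Quotient.sound (QuotientGroup.rightRel_apply.2 ?_)
      simp
    let f : (↥S ≃* ↥S) → G → G := fun e b => (e ⟨_, hrep b⟩ : G) * rep b
    have hfrep : ∀ e b, rep (f e b) = rep b := fun e b => by
      show rep ((e ⟨_, hrep b⟩ : G) * rep b) = rep b
      rw [hrepmul, ← hrepmul ⟨_, hrep b⟩ (rep b), inv_mul_cancel_right]
    have hff : ∀ e e' : ↥S ≃* ↥S, (∀ s, e (e' s) = s) → ∀ b, f e (f e' b) = b := by
      intro e e' h b
      have h1 : (⟨_, hrep (f e' b)⟩ : ↥S) = e' ⟨_, hrep b⟩ := by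
        apply Subtype.ext
        show f e' b * (rep (f e' b))⁻¹ = _
        rw [hfrep]
        simp [f]
      show (e ⟨_, hrep (f e' b)⟩ : G) * rep (f e' b) = b
      rw [h1, h, hfrep]
      simp
    let π : Equiv.Perm G := ⟨f e, f e.symm, hff _ _ (fun s => e.symm_apply_apply s), hff _ _ (fun s => e.apply_symm_apply s)⟩
    have hkey : ∀ s : ↥S, π * ι (s : G) * π⁻¹ = ι (e s : G) := by
      intro s
      rw [mul_inv_eq_iff_eq_mul]
      ext b
      show f e ((s : G) * b) = (e s : G) * f e b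
      have h1 : (⟨_, hrep ((s : G) * b)⟩ : ↥S) = s * ⟨_, hrep b⟩ := by
        apply Subtype.ext
        show (s : G) * b * (rep ((s : G) * b))⁻¹ = _
        rw [hrepmul]
        simp [mul_assoc]
      show (e ⟨_, hrep ((s : G) * b)⟩ : G) * rep ((s : G) * b) = _
      rw [h1, map_mul, hrepmul]
      simp [f, mul_assoc]
    have hπ : π ∈ Subgroup.normalizer ((S.map ι : Subgroup (Equiv.Perm G)) : Set (Equiv.Perm G)) := by
      rw [Subgroup.mem_normalizer_iff]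
      intro u
      constructor
      · rintro ⟨s, hs, rfl⟩
        exact ⟨(e ⟨s, hs⟩ : G), (e ⟨s, hs⟩).2, (hkey ⟨s, hs⟩).symm⟩
      · rintro ⟨s, hs, hse⟩
        refine ⟨(e.symm ⟨s, hs⟩ : G), (e.symm ⟨s, hs⟩).2, ?_⟩
        have h1 := hkey (e.symm ⟨s, hs⟩)
        rw [MulEquiv.apply_symm_apply] at h1
        exact mul_left_cancel (mul_right_cancel (h1.trans hse))
    have hxT : ι (x : G) ∈ T := hx
    show ι (e x : G) ∈ T
    rw [← hkey x]
    exact (Subgroup.mem_normalizer_iff.1 (hTN hπ) _).1 hxT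
  · refine ⟨?_⟩
    rintro _ ⟨⟨x, hxS⟩, hx, rfl⟩ g
    have h1 : ι (g * x * g⁻¹) ∈ T := by
      rw [map_mul, map_mul, map_inv]
      exact (Subgroup.mem_normalizer_iff.1 (hTX ⟨g, rfl⟩) _).1 hx
    obtain ⟨y, hy, hye⟩ := hT h1
    have hyx := MulAction.toPerm_injective hye
    exact ⟨⟨y, hy⟩, show ι y ∈ T by rw [hye]; exact h1, hyx⟩

end CfsgLib.PushingUpRankOne
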