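/-
Distances between conjugates of the module, and the proof that two conjugates at distance at least three
never fail to commute.
-/
import Cfsg.Agent.Lib.PushingUpRankOne.Ambient

set_option autoImplicit false
set_option linter.unusedSectionVars false
set_option linter.style.haveILetI false

open Matrix CfsgLib.Perm.SL2Unipotent
open scoped MatrixGroups Pointwise commutatorElement

namespace CfsgLib.PushingUpRankOne

variable {G : Type*} [Group G] [Finite G] {p : ℕ} [Fact p.Prime] {F : Type*} [Field F] [Fintype F]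
  {Γ : Type*} [Group Γ] [Finite Γ]

theorem mem_normalizer_of_map_le {x : Γ} {R : Subgroup Γ} (h : R.map (MulAut.conj x).toMonoidHom ≤ R) :
    x ∈ Subgroup.normalizer (R : Set Γ) :=
  Subgroup.mem_normalizer_iff_map_conj_eq.2 (Subgroup.eq_of_le_of_card_ge h
    (le_of_eq (Subgroup.card_map_of_injective (MulAut.conj x).injective).symm))

namespace Amalgam

variable {S Q M : Subgroup G} {n : ℕ} {φ : G →* PSL2 F} {ι : G →* Γ} (A : Amalgam p S Q M n φ ι)

/-- Translation of an element of a conjugate back to the base. -/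
theorem back {c u : Γ} {R : Subgroup Γ} (h : u ∈ cj c R) : c⁻¹ * u * c ∈ R := mem_cj.1 h

omit A in
theorem zpowers_conj {x c : Γ} (h : IsPGroup p (Subgroup.zpowers x)) :
    IsPGroup p (Subgroup.zpowers (c⁻¹ * x * c)) := by
  have := h.map (MulAut.conj c⁻¹).toMonoidHom
  rwa [MonoidHom.map_zpowers, show (MulAut.conj c⁻¹).toMonoidHom x = c⁻¹ * x * c by simp] at this

theorem mem_Q' {c x : Γ} (hx : x ∈ cj c A.X) (hp : IsPGroup p (Subgroup.zpowers x))
    (hc : ∀ v ∈ cj c A.V, x * v = v * x) : x ∈ cj c A.Q₁ := by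
  refine mem_cj.2 (A.mem_Q (back hx) (zpowers_conj hp) fun v hv => ?_)
  have h := hc _ (conj_mem_cj hv)
  calc c⁻¹ * x * c * v = c⁻¹ * (x * (c * v * c⁻¹)) * c := by group
    _ = _ := by rw [h]; group

theorem fpf' {c x v : Γ} (hx : x ∈ cj c A.X) (hp : IsPGroup p (Subgroup.zpowers x)) (hv : v ∈ cj c A.V)
    (h : x * v * x⁻¹ * v⁻¹ ∈ cj c A.C) : x * v = v * x := by
  have h1 := A.fpf (back hx) (zpowers_conj hp) (back hv) (by
    convert back h using 1
    group)
  calc x * v = c * ((c⁻¹ * x * c) * (c⁻¹ * v * c)) * c⁻¹ := by group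
    _ = _ := by rw [h1]; group

theorem good_inf' {c g u : Γ} (hg : g ∈ A.X) (h : A.S₁ ⊔ cj g A.S₁ = A.X) (hu : u ∈ cj c A.Z)
    (hu' : u ∈ cj (c * g) A.Z) : u ∈ cj c A.C := by
  refine mem_cj.2 (A.good_inf hg h (back hu) (mem_cj.2 ?_))
  convert back hu' using 1
  group

theorem into' {c s v : Γ} (hs : s ∈ cj c A.S₁) (hv : v ∈ cj c A.V) : s * v * s⁻¹ * v⁻¹ ∈ cj c A.Z := by
  refine mem_cj.2 ?_
  convert A.into (back hs) (back hv) using 1
  group

theorem cj_mulX (c : Γ) {g : Γ} (hg : g ∈ A.X) :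
    cj (c * g) A.V = cj c A.V ∧ cj (c * g) A.Q₁ = cj c A.Q₁ ∧ cj (c * g) A.X = cj c A.X := by
  refine ⟨?_, ?_, ?_⟩ <;> rw [cj_mul]
  · rw [A.cj_V hg]
  · rw [A.cj_Q hg]
  · rw [A.cj_X hg]

theorem cj_mulN (c : Γ) {h : Γ} (hh : h ∈ A.N) :
    cj (c * h) A.S₁ = cj c A.S₁ ∧ cj (c * h) A.Z = cj c A.Z := by
  refine ⟨?_, ?_⟩ <;> rw [cj_mul]
  · rw [A.cj_S hh]
  · rw [A.cj_Z hh]

theorem cjQ_le_cjS {c g : Γ} (hg : g ∈ A.X) : cj c A.Q₁ ≤ cj (c * g) A.S₁ := by
  rw [← (A.cj_mulX c hg).2.1]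
  exact cj_mono _ A.Q_le

theorem cjS_le_cjX {c g : Γ} (hg : g ∈ A.X) : cj (c * g) A.S₁ ≤ cj c A.X := by
  rw [← (A.cj_mulX c hg).2.2]
  exact cj_mono _ A.S_le

theorem cjV_normal {c x v : Γ} (hx : x ∈ cj c A.X) (hv : v ∈ cj c A.V) : x * v * x⁻¹ ∈ cj c A.V := by
  have h1 := conj_mem_cj (x := c⁻¹ * x * c) (back hv)
  rw [A.cj_V (back hx)] at h1
  refine mem_cj.2 ?_
  convert h1 using 1
  group

/-- Two conjugates of the module commute. -/
def Comm (a c : Γ) : Prop := ∀ u ∈ cj a A.V, ∀ v ∈ cj c A.V, u * v = v * u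

theorem Comm.symm {a c : Γ} (h : A.Comm a c) : A.Comm c a := fun u hu v hv => (h v hv u hu).symm

theorem comm_mulX {a c g : Γ} (hg : g ∈ A.X) : A.Comm (a * g) c ↔ A.Comm a c := by
  simp only [Comm, (A.cj_mulX a hg).1]

theorem comm_translate {a c d : Γ} : A.Comm (d * a) (d * c) ↔ A.Comm a c := by
  constructor
  · intro h u hu v hv
    have h1 := h (d * u * d⁻¹) (by rw [cj_mul]; exact conj_mem_cj hu) (d * v * d⁻¹)
      (by rw [cj_mul]; exact conj_mem_cj hv)
    calc u * v = d⁻¹ * ((d * u * d⁻¹) * (d * v * d⁻¹)) * d := by group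
      _ = _ := by rw [h1]; group
  · intro h u hu v hv
    rw [cj_mul] at hu hv
    obtain ⟨u, hu, rfl⟩ := hu
    obtain ⟨v, hv, rfl⟩ := hv
    exact (show Commute u v from h u hu v hv).map (MulAut.conj d).toMonoidHom

/-- The elements moving the base vertex to distance at most `k`. -/
def D : ℕ → Set Γ
  | 0 => {z | z ∈ A.X}
  | k + 1 => {z | ∃ g ∈ A.X, ∃ h ∈ A.N, ∃ z' ∈ D k, z = g * h * z'}

theorem mem_D_succ {k : ℕ} {z : Γ} : z ∈ A.D (k + 1) ↔ ∃ g ∈ A.X, ∃ h ∈ A.N, ∃ z' ∈ A.D k, z = g * h * z' :=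
  Iff.rfl

theorem D_mulX {k : ℕ} : ∀ {z g : Γ}, z ∈ A.D k → g ∈ A.X → z * g ∈ A.D k := by
  induction k with
  | zero => exact fun hz hg => mul_mem (show _ ∈ A.X from hz) hg
  | succ k ih =>
    rintro z g ⟨a, ha, h, hh, z', hz', rfl⟩ hg
    exact ⟨a, ha, h, hh, z' * g, ih hz' hg, by rw [mul_assoc]⟩

theorem X_mulD {k : ℕ} {z g : Γ} (hg : g ∈ A.X) (hz : z ∈ A.D k) : g * z ∈ A.D k := by
  cases k with
  | zero => exact mul_mem hg (show z ∈ A.X from hz)
  | succ k =>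
    obtain ⟨a, ha, h, hh, z', hz', rfl⟩ := hz
    exact ⟨g * a, mul_mem hg ha, h, hh, z', hz', by group⟩

theorem D_mul {a : ℕ} : ∀ {c : ℕ} {z z' : Γ}, z ∈ A.D a → z' ∈ A.D c → z * z' ∈ A.D (a + c) := by
  induction a with
  | zero => exact fun hz hz' => (Nat.zero_add _).symm ▸ A.X_mulD hz hz'
  | succ a ih =>
    rintro c z z' ⟨g, hg, h, hh, w, hw, rfl⟩ hz'
    rw [Nat.add_right_comm]
    exact ⟨g, hg, h, hh, w * z', ih hw hz', by group⟩

theorem one_mem_D (k : ℕ) : (1 : Γ) ∈ A.D k := by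
  induction k with
  | zero => exact one_mem A.X
  | succ k ih => exact ⟨1, one_mem _, 1, one_mem _, 1, ih, by group⟩

theorem D_mono {a c : ℕ} (h : a ≤ c) {z : Γ} (hz : z ∈ A.D a) : z ∈ A.D c := by
  obtain ⟨d, rfl⟩ := Nat.exists_eq_add_of_le h
  simpa using A.D_mul hz (A.one_mem_D d)

theorem N_mem_D {h : Γ} (hh : h ∈ A.N) : h ∈ A.D 1 := ⟨1, one_mem _, h, hh, 1, one_mem A.X, by group⟩

theorem XN_mem_D {g h : Γ} (hg : g ∈ A.X) (hh : h ∈ A.N) : g * h ∈ A.D 1 := ⟨g, hg, h, hh, 1, one_mem A.X, by group⟩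

theorem D_inv {k : ℕ} : ∀ {z : Γ}, z ∈ A.D k → z⁻¹ ∈ A.D k := by
  induction k with
  | zero => exact fun hz => inv_mem (show _ ∈ A.X from hz)
  | succ k ih =>
    rintro z ⟨g, hg, h, hh, w, hw, rfl⟩
    have h1 := A.D_mul (ih hw) (A.D_mulX (A.N_mem_D (inv_mem hh)) (inv_mem hg))
    rwa [show w⁻¹ * (h⁻¹ * g⁻¹) = (g * h * w)⁻¹ by group] at h1

theorem near_of_comm : ∀ {k : ℕ}, (∀ z ∈ A.D k, A.Comm 1 z) → ∀ z ∈ A.D k, cj z A.V ≤ A.Q₁ := by
  intro k
  induction k with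
  | zero => exact fun _ z hz => (A.cj_V hz).le.trans A.V_le
  | succ k ih =>
    intro hc z hz
    obtain ⟨g, hg, h, hh, z', hz', rfl⟩ := hz
    have h1 : cj z' A.V ≤ A.S₁ := (ih (fun w hw => hc w (A.D_mono (Nat.le_succ k) hw)) z' hz').trans A.Q_le
    have h2 : cj (g * h * z') A.V ≤ cj g A.S₁ := by
      rw [mul_assoc, cj_mul, cj_mul]
      exact cj_mono g ((cj_mono h h1).trans (A.cj_S hh).le)
    intro u hu
    have hc' := hc _ ⟨g, hg, h, hh, z', hz', rfl⟩
    refine A.mem_Q ((A.cj_X hg).le (cj_mono g A.S_le (h2 hu))) (A.zpowers_pgroup (h2 hu)) fun v hv =>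
      (hc' v (by rwa [cj_one]) u hu).symm

theorem V_ne_bot : A.V ≠ ⊥ := fun h => by
  have h1 := A.relIndex_V
  rw [h, Subgroup.relIndex_bot_right] at h1
  exact (Nat.one_lt_pow (by have := A.ctx.hyp.one_le; omega) (Fact.out : p.Prime).one_lt).ne h1

theorem exists_noncomm : ∃ k, ∃ z ∈ A.D k, ¬ A.Comm 1 z := by
  by_contra! hc
  set Y := ⨆ z : {z : Γ // ∃ k, z ∈ A.D k}, cj (z : Γ) A.V
  have hY : Y ≤ A.Q₁ := iSup_le fun ⟨z, k, hz⟩ => A.near_of_comm (fun w hw => hc k w hw) z hz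
  have hinv : ∀ x : Γ, (∀ z : Γ, ∀ k, z ∈ A.D k → ∃ k', x * z ∈ A.D k') → x ∈ Subgroup.normalizer (Y : Set Γ) := by
    intro x hx
    refine mem_normalizer_of_map_le ?_
    rw [Subgroup.map_iSup]
    refine iSup_le fun ⟨z, k, hz⟩ => ?_
    show cj x (cj z A.V) ≤ Y
    rw [← cj_mul]
    exact le_iSup (fun z : {z : Γ // ∃ k, z ∈ A.D k} => cj (z : Γ) A.V) ⟨x * z, hx z k hz⟩
  have hbot := A.faithful Y (hY.trans A.Q_le) (fun x hx => hinv x fun z k hz => ⟨k, A.X_mulD hx hz⟩)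
    (fun x hx => hinv x fun z k hz => ⟨1 + k, A.D_mul (A.N_mem_D hx) hz⟩)
  refine A.V_ne_bot (eq_bot_iff.2 (le_trans ?_ hbot.le))
  exact le_trans (cj_one A.V).ge (le_iSup (fun z : {z : Γ // ∃ k, z ∈ A.D k} => cj (z : Γ) A.V) ⟨1, 0, one_mem A.X⟩)

/-- `b` is the least distance of non-commuting conjugates of the module. -/
def IsCritical (b : ℕ) : Prop := (∃ z ∈ A.D b, ¬ A.Comm 1 z) ∧ ∀ k < b, ∀ z ∈ A.D k, A.Comm 1 z

theorem exists_critical : ∃ b, A.IsCritical b ∧ 1 ≤ b := by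
  classical
  refine ⟨Nat.find A.exists_noncomm, ⟨Nat.find_spec A.exists_noncomm, fun k hk z hz => ?_⟩, ?_⟩
  · by_contra h
    exact Nat.find_min A.exists_noncomm hk ⟨z, hz, h⟩
  · rw [Nat.one_le_iff_ne_zero]
    intro h0
    obtain ⟨z, hz, hne⟩ := Nat.find_spec A.exists_noncomm
    rw [h0] at hz
    refine hne fun u hu v hv => ?_
    rw [cj_one] at hu
    rw [A.cj_V hz] at hv
    exact A.QV_comm (A.V_le hu) hv

section Critical

variable {b : ℕ} (hb : A.IsCritical b)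
include hb

theorem near {k : ℕ} (hk : k < b) {a c : Γ} (h : a⁻¹ * c ∈ A.D k) : A.Comm a c ∧ cj c A.V ≤ cj a A.Q₁ := by
  have h1 := hb.2 k hk _ h
  refine ⟨?_, ?_⟩
  · have h2 := (A.comm_translate (d := a)).2 h1
    rwa [mul_one, mul_inv_cancel_left] at h2
  · have h2 := cj_mono a (A.near_of_comm (fun z hz => hb.2 k hk z hz) _ h)
    rwa [← cj_mul, mul_inv_cancel_left] at h2

theorem edge {k : ℕ} (hk : k < b) {a g h w : Γ} (hh : h ∈ A.N) (hw : w ∈ A.D k) :
    cj (a * g * h * w) A.V ≤ cj (a * g) A.S₁ := by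
  have h1 : cj w A.V ≤ A.S₁ := (A.near_of_comm (fun z hz => hb.2 k hk z hz) _ hw).trans A.Q_le
  rw [cj_mul (a * g * h), cj_mul (a * g) h]
  exact cj_mono _ ((cj_mono h h1).trans (A.cj_S hh).le)

theorem edge_le_X {a c : Γ} (h : a⁻¹ * c ∈ A.D b) :
    ∀ u ∈ cj c A.V, u ∈ cj a A.X ∧ IsPGroup p (Subgroup.zpowers u) := by
  obtain ⟨k, rfl⟩ | rfl : (∃ k, b = k + 1) ∨ b = 0 := by
    rcases b with _ | k
    · exact Or.inr rfl
    · exact Or.inl ⟨k, rfl⟩
  · obtain ⟨g, hg, h', hh', w, hw, he⟩ := h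
    intro u hu
    have h1 : u ∈ cj (a * g) A.S₁ := by
      apply A.edge hb (Nat.lt_succ_self k) (a := a) (g := g) hh' hw
      rwa [show a * g * h' * w = c by rw [mul_assoc, mul_assoc, ← mul_assoc g, ← he, mul_inv_cancel_left]]
    exact ⟨A.cjS_le_cjX hg h1, A.zpowers_pgroup h1⟩
  · intro u hu
    rw [show c = a * (a⁻¹ * c) by group, (A.cj_mulX a h).1] at hu
    exact ⟨cj_mono a (A.V_le.trans (A.Q_le.trans A.S_le)) hu, A.zpowers_pgroup (cj_mono a (A.V_le.trans A.Q_le) hu)⟩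

theorem pair_cent {a c g : Γ} (hne : ¬ A.Comm c a) (hg : g ∈ A.X) (hle : cj a A.V ≤ cj (c * g) A.S₁) {v : Γ}
    (hv : v ∈ cj c A.V) (hcom : ∀ w ∈ cj a A.V, w * v = v * w) : v ∈ cj (c * g) A.Z := by
  obtain ⟨u, hu, w, hw, hne'⟩ : ∃ u ∈ cj c A.V, ∃ w ∈ cj a A.V, u * w ≠ w * u := by
    simpa [Comm] using hne
  have hs := back (hle hw)
  rw [← (A.cj_mulX c hg).1] at hu hv
  refine mem_cj.2 (A.fixed_eq hs (fun hQ => hne' ?_) (back hv) ?_)
  · have h1 := A.QV_comm hQ (back hu)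
    calc u * w = (c * g) * (((c * g)⁻¹ * u * (c * g)) * ((c * g)⁻¹ * w * (c * g))) * (c * g)⁻¹ := by group
      _ = _ := by rw [← h1]; group
  · calc (c * g)⁻¹ * w * (c * g) * ((c * g)⁻¹ * v * (c * g)) = (c * g)⁻¹ * (w * v) * (c * g) := by group
      _ = _ := by rw [hcom w hw]; group

theorem pair_sup {a c g g' : Γ} (hne : ¬ A.Comm c a) (hg : g ∈ A.X) (hg' : g' ∈ A.X)
    (hle : cj a A.V ≤ cj (c * g) A.S₁) (hle' : cj c A.V ≤ cj (a * g') A.S₁) :
    cj a A.V ⊔ cj c A.Q₁ = cj (c * g) A.S₁ := by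
  have hinf : cj c A.Q₁ ⊓ cj a A.V = cj (a * g') A.Z := by
    refine le_antisymm ?_ ?_
    · rintro u ⟨hu, hu'⟩
      refine A.pair_cent hb (fun h => hne h.symm) hg' hle' hu' fun w hw => ?_
      have h1 := A.QV_comm (back hu) (back hw)
      calc w * u = c * ((c⁻¹ * w * c) * (c⁻¹ * u * c)) * c⁻¹ := by group
        _ = _ := by rw [← h1]; group
    · intro u hu
      have hu' : u ∈ cj a A.V := by
        rw [← (A.cj_mulX a hg').1]
        exact cj_mono _ A.Z_le hu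
      refine ⟨A.mem_Q' (A.cjS_le_cjX hg (hle hu')) (A.zpowers_pgroup (hle hu')) fun v hv => ?_, hu'⟩
      obtain ⟨z, hz, rfl⟩ := hu
      obtain ⟨s, hs, rfl⟩ := hle' hv
      exact ((show Commute s z from A.Z_cent hz hs).map (MulAut.conj (a * g')).toMonoidHom).symm
  have hrel : A.Q₁.relIndex (cj (c⁻¹ * a) A.V) = p ^ n := by
    rw [← cj_relIndex c, ← cj_mul, mul_inv_cancel_left, ← Subgroup.inf_relIndex_right, hinf,
      ← (A.cj_mulX a hg').1, cj_relIndex]
    exact A.relIndex_V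
  have hR : cj (c⁻¹ * a) A.V ≤ cj g A.S₁ := by
    have := cj_mono c⁻¹ hle
    rwa [← cj_mul, ← cj_mul, inv_mul_cancel_left] at this
  have h := congrArg (cj c) (A.sup_eq hg hR hrel)
  rwa [cj_sup, ← cj_mul, ← cj_mul, mul_inv_cancel_left] at h

/-- An element of `cj y Q₁` is moved into the line by the far end. -/
theorem comm_mem_line {c y z g : Γ} (hg : g ∈ A.X) (hne : ¬ A.Comm z c) (hcy : cj c A.V ≤ cj y A.Q₁)
    (hyz : cj y A.Q₁ ≤ cj z A.S₁) (hzc : cj z A.V ≤ cj (c * g) A.S₁) {u w : Γ} (hu : u ∈ cj y A.Q₁)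
    (hw : w ∈ cj z A.V) : w * u * w⁻¹ * u⁻¹ ∈ cj (c * g) A.Z := by
  have hsup := A.pair_sup hb (a := c) (c := z) (g := 1) hne (one_mem _) hg
    (by rw [mul_one]; exact hcy.trans hyz) hzc
  rw [mul_one] at hsup
  have hn : cj c A.V ≤ Subgroup.normalizer ((cj z A.Q₁ : Subgroup Γ) : Set Γ) := by
    intro v hv
    rw [Subgroup.mem_normalizer_iff_map_conj_eq]
    show cj v (cj z A.Q₁) = _
    have hv' := back (cj_mono z A.S_le (hyz (hcy hv)))
    rw [show v = z * (z⁻¹ * v * z) * z⁻¹ by group, ← cj_mul, inv_mul_cancel_right, cj_mul, A.cj_Q hv']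
  obtain ⟨v, hv, q, hq, rfl⟩ : ∃ v ∈ cj c A.V, ∃ q ∈ cj z A.Q₁, v * q = u := by
    have h1 : u ∈ cj c A.V ⊔ cj z A.Q₁ := hsup.symm ▸ hyz hu
    rwa [← SetLike.mem_coe, Subgroup.coe_mul_of_left_le_normalizer_right _ _ hn] at h1
  have hqw : w * q = q * w := by
    have h1 := A.QV_comm (back hq) (back hw)
    calc w * q = z * ((z⁻¹ * w * z) * (z⁻¹ * q * z)) * z⁻¹ := by group
      _ = _ := by rw [← h1]; group
  rw [show w * (v * q) * w⁻¹ * (v * q)⁻¹ = (w * v * w⁻¹) * ((w * q) * w⁻¹ * q⁻¹) * v⁻¹ by group, hqw,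
    mul_inv_cancel_right, mul_inv_cancel, mul_one]
  exact A.into' (hzc hw) ((A.cj_mulX c hg).1.symm ▸ hv)

theorem comm_mem {c y z g : Γ} (hg : g ∈ A.X) (hne : ¬ A.Comm z c) (hcy : cj c A.V ≤ cj y A.Q₁)
    (hyz : cj y A.Q₁ ≤ cj z A.S₁) (hzc : cj z A.V ≤ cj (c * g) A.S₁) {u w : Γ} (hu : u ∈ cj y A.Q₁)
    (hw : w ∈ cj z A.V) : w * u * w⁻¹ * u⁻¹ ∈ cj c A.V :=
  (A.cj_mulX c hg).1 ▸ cj_mono _ A.Z_le (A.comm_mem_line hb hg hne hcy hyz hzc hu hw)

/-- A path of overlapping critical pairs, turning at each inner vertex. -/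
structure Chain (m : ℕ) (x : ℕ → Γ) : Prop where
  step : ∀ i < m + b, ∃ g ∈ A.X, ∃ h ∈ A.N, x (i + 1) = x i * g * h
  window : ∀ i ≤ m, ¬ A.Comm (x i) (x (i + b))
  turn : ∀ i, 1 ≤ i → i ≤ m → cj (x i) A.S₁ ⊔ cj (x (i + 1)) A.S₁ = cj (x i) A.X

omit hb in
variable {A} in
theorem Chain.dist {m : ℕ} {x : ℕ → Γ} (h : A.Chain (b := b) m x) :
    ∀ k i : ℕ, i + k ≤ m + b → (x i)⁻¹ * x (i + k) ∈ A.D k := by
  intro k
  induction k with
  | zero => intro i _; rw [add_zero, inv_mul_cancel]; exact A.one_mem_D 0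
  | succ k ih =>
    intro i hi
    obtain ⟨g, hg, h', hh', he⟩ := h.step i (by omega)
    refine ⟨g, hg, h', hh', (x (i + 1))⁻¹ * x (i + 1 + k), ih (i + 1) (by omega), ?_⟩
    rw [he, show i + 1 + k = i + (k + 1) by ring]
    group

theorem exists_chain_zero : ∃ x, A.Chain (b := b) 0 x := by
  classical
  have key : ∀ k : ℕ, ∀ z ∈ A.D k, ∃ x : ℕ → Γ, x 0 = 1 ∧ (∀ i < k, ∃ g ∈ A.X, ∃ h ∈ A.N, x (i + 1) = x i * g * h) ∧
      (x k)⁻¹ * z ∈ A.X := by
    intro k
    induction k with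
    | zero => exact fun z hz => ⟨fun _ => 1, rfl, fun i hi => absurd hi (Nat.not_lt_zero i), by simpa using (show z ∈ A.X from hz)⟩
    | succ k ih =>
      rintro z ⟨g, hg, h, hh, z', hz', rfl⟩
      obtain ⟨x, hx0, hxs, hxk⟩ := ih z' hz'
      refine ⟨fun i => if i = 0 then 1 else g * h * x (i - 1), if_pos rfl, fun i hi => ?_, ?_⟩
      · rcases i with _ | i
        · exact ⟨g, hg, h, hh, by simp [hx0]⟩
        · obtain ⟨g', hg', h', hh', he⟩ := hxs i (by omega)
          exact ⟨g', hg', h', hh', by simp [he, mul_assoc]⟩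
      · simpa [mul_assoc] using hxk
  obtain ⟨z, hz, hne⟩ := hb.1
  obtain ⟨x, hx0, hxs, hxb⟩ := key b z hz
  refine ⟨x, fun i hi => hxs i (by omega), fun i hi => ?_, fun i h1 h2 => by omega⟩
  obtain rfl : i = 0 := by omega
  rw [Nat.zero_add, hx0]
  intro h
  apply hne
  have h1 := (A.comm_mulX (c := 1) hxb).2 h.symm
  rw [mul_inv_cancel_left] at h1
  exact h1.symm

/-- A chain extends to the left. -/
theorem exists_chain_succ (hb2 : 2 ≤ b) {m : ℕ} {x : ℕ → Γ} (hx : A.Chain (b := b) m x) :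
    ∃ x', A.Chain (b := b) (m + 1) x' := by
  classical
  obtain ⟨g₀, hg₀, hgood⟩ := A.exists_good
  obtain ⟨g1, hg1, h1, hh1, hx1⟩ := hx.step 0 (by omega)
  set c := x 0
  set y := x (b - 1)
  set z := x b
  obtain ⟨gy, hgy, hy, hhy, hyz0⟩ := hx.step (b - 1) (by omega)
  rw [Nat.sub_add_cancel (by omega : 1 ≤ b)] at hyz0
  have hcyD : c⁻¹ * y ∈ A.D (b - 1) := by simpa using hx.dist (b - 1) 0 (by omega)
  have hne : ¬ A.Comm z c := fun h => hx.window 0 (Nat.zero_le _) (by simpa using h.symm)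
  have hcy : cj c A.V ≤ cj y A.Q₁ := (A.near hb (k := b - 1) (by omega) (by
    have := A.D_inv hcyD
    rwa [_root_.mul_inv_rev, inv_inv] at this)).2
  have hyz : cj y A.Q₁ ≤ cj z A.S₁ := by
    show _ ≤ cj (x b) A.S₁
    rw [hyz0, (A.cj_mulN (y * gy) hhy).1]
    exact A.cjQ_le_cjS hgy
  have hzc : cj z A.V ≤ cj (c * g1) A.S₁ := by
    have h2 : (x 1)⁻¹ * z ∈ A.D (b - 1) := by
      have := hx.dist (b - 1) 1 (by omega)
      rwa [Nat.add_sub_cancel' (by omega : 1 ≤ b)] at this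
    have h3 := A.edge hb (show b - 1 < b by omega) (a := c) (g := g1) hh1 h2
    rwa [← hx1, mul_inv_cancel_left] at h3
  set g := g1 * g₀ with hgdef
  have hg : g ∈ A.X := mul_mem hg1 hg₀
  by_cases hall : ∀ h ∈ A.N, A.Comm (c * g * h) y
  · exfalso
    set W := ⨆ h : A.N, cj (h : Γ) A.V
    set R := cj (c * g) W
    have hVW : A.V ≤ W := le_trans (cj_one A.V).ge (le_iSup (fun h : A.N => cj (h : Γ) A.V) 1)
    have hR : R = ⨆ h : A.N, cj (c * g * (h : Γ)) A.V := by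
      show (⨆ h : A.N, cj (h : Γ) A.V).map _ = _
      rw [Subgroup.map_iSup]
      exact iSup_congr fun h => (cj_mul _ _ _).symm
    have hcR : cj c A.V ≤ R := by
      rw [← (A.cj_mulX c hg).1]
      exact cj_mono _ hVW
    have hWN : A.N ≤ Subgroup.normalizer (W : Set Γ) := fun h hh => by
      refine mem_normalizer_of_map_le ?_
      rw [Subgroup.map_iSup]
      refine iSup_le fun h' => ?_
      show cj h (cj (h' : Γ) A.V) ≤ _
      rw [← cj_mul]
      exact le_iSup (fun h : A.N => cj (h : Γ) A.V) (⟨h, hh⟩ * h')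
    have hsmall : ∀ h ∈ A.N, cj (c * g * h) A.V ≤ cj y A.Q₁ := by
      intro h hh u hu
      have hd : y⁻¹ * (c * g * h) ∈ A.D b := by
        have := A.D_mul (A.D_inv hcyD) (A.XN_mem_D hg hh)
        rw [Nat.sub_add_cancel (by omega : 1 ≤ b)] at this
        convert this using 1
        group
      obtain ⟨h1', h2'⟩ := A.edge_le_X hb hd u hu
      exact A.mem_Q' h1' h2' fun v hv => hall h hh u hu v hv
    have hn1 : cj z A.V ≤ Subgroup.normalizer (R : Set Γ) := by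
      intro w hw
      refine mem_normalizer_of_map_le ?_
      have : ∀ h : A.N, cj (c * g * (h : Γ)) A.V ≤ R.comap (MulAut.conj w).toMonoidHom := by
        intro h u hu
        have h1' := A.comm_mem hb hg1 hne hcy hyz hzc (hsmall h h.2 hu) hw
        have huR : u ∈ R := hR ▸ Subgroup.mem_iSup_of_mem h hu
        have := mul_mem (hcR h1') huR
        show w * u * w⁻¹ ∈ R
        rwa [inv_mul_cancel_right] at this
      rw [Subgroup.map_le_iff_le_comap]
      conv_lhs => rw [hR]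
      exact iSup_le this
    have hWS : A.S₁ ≤ Subgroup.normalizer (W : Set Γ) := fun s hs => hWN (Subgroup.le_normalizer hs)
    have hn2 : cj (c * g) A.S₁ ≤ Subgroup.normalizer (R : Set Γ) := by
      rintro _ ⟨s, hs, rfl⟩
      rw [Subgroup.mem_normalizer_iff_map_conj_eq]
      show cj ((c * g) * s * (c * g)⁻¹) (cj (c * g) W) = cj (c * g) W
      rw [← cj_mul, inv_mul_cancel_right, cj_mul, cj_eq_of_mem (hWS hs)]
    have hsup := A.pair_sup hb (a := z) (c := c) (g := g1) (g' := 1) (fun h => hne h.symm) hg1 (one_mem _) hzc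
      (by rw [mul_one]; exact hcy.trans hyz)
    have hn3 : cj (c * g1) A.S₁ ≤ Subgroup.normalizer (R : Set Γ) := by
      rw [← hsup]
      exact sup_le hn1 ((A.cjQ_le_cjS hg).trans hn2)
    have hn4 : cj c A.X ≤ Subgroup.normalizer (R : Set Γ) := by
      have h1' : cj (c * g1) A.S₁ ⊔ cj (c * g) A.S₁ = cj c A.X := by
        rw [hgdef, ← mul_assoc, cj_mul (c * g1) g₀, ← cj_sup, hgood, (A.cj_mulX c hg1).2.2]
      rw [← h1']
      exact sup_le hn3 hn2
    have hXW : A.X ≤ Subgroup.normalizer (W : Set Γ) := by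
      intro a ha
      rw [Subgroup.mem_normalizer_iff_map_conj_eq]
      show cj a W = W
      have ha' : (c * g) * a * (c * g)⁻¹ ∈ cj c A.X := by
        rw [← (A.cj_mulX c hg).2.2]; exact conj_mem_cj ha
      have h2 : cj ((c * g) * a * (c * g)⁻¹) R = R := cj_eq_of_mem (hn4 ha')
      rw [← cj_mul, inv_mul_cancel_right] at h2
      have h3 := congrArg (cj (c * g)⁻¹) h2
      rwa [← cj_mul, ← cj_mul, inv_mul_cancel, inv_mul_cancel_left, cj_one] at h3
    have hWle : W ≤ A.S₁ := iSup_le fun h => by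
      have := (A.near hb (show 1 < b by omega) (a := 1) (c := (h : Γ)) (by simpa using A.N_mem_D h.2)).2
      rw [cj_one] at this
      exact this.trans A.Q_le
    exact A.V_ne_bot (eq_bot_iff.2 (hVW.trans (A.faithful W hWle hXW hWN).le))
  push Not at hall
  obtain ⟨h, hh, hnew⟩ := hall
  refine ⟨fun i => if i = 0 then c * g * h else if i = 1 then c * g else x (i - 1), fun i hi => ?_, fun i hi => ?_,
    fun i h1' h2' => ?_⟩
  · rcases i with _ | _ | i
    · exact ⟨1, one_mem _, h⁻¹, inv_mem hh, by simp [mul_assoc]⟩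
    · refine ⟨g⁻¹ * g1, mul_mem (inv_mem hg) hg1, h1, hh1, ?_⟩
      simp only [zero_add, show (1 + 1 : ℕ) ≠ 0 by norm_num, show (1 + 1 : ℕ) ≠ 1 by norm_num, one_ne_zero,
        if_false, if_true]
      rw [show 1 + 1 - 1 = 0 + 1 from rfl, hx1]
      group
    · obtain ⟨a, ha, a', ha', he⟩ := hx.step (i + 1) (by omega)
      exact ⟨a, ha, a', ha', by simpa using he⟩
  · rcases i with _ | _ | i
    · simp only [if_true, Nat.zero_add, show b ≠ 0 by omega, show b ≠ 1 by omega, if_false]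
      exact hnew
    · simp only [zero_add, one_ne_zero, if_false, if_true, show 1 + b ≠ 0 by omega, show 1 + b ≠ 1 by omega,
        Nat.add_sub_cancel_left]
      rw [A.comm_mulX hg]
      exact fun h' => hne h'.symm
    · have := hx.window (i + 1) (by omega)
      simp only [show i + 1 + 1 ≠ 0 by omega, show i + 1 + 1 ≠ 1 by omega, show i + 1 + 1 + b ≠ 0 by omega,
        show i + 1 + 1 + b ≠ 1 by omega, if_false]
      rwa [show i + 1 + 1 - 1 = i + 1 by omega, show i + 1 + 1 + b - 1 = i + 1 + b by omega]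
  · rcases i with _ | _ | i
    · omega
    · simp only [zero_add, show (1 + 1 : ℕ) ≠ 0 by norm_num, show (1 + 1 : ℕ) ≠ 1 by norm_num, one_ne_zero,
        if_false, if_true]
      show cj (c * g) A.S₁ ⊔ cj (x (0 + 1)) A.S₁ = _
      rw [hx1, (A.cj_mulN (c * g1) hh1).1, (A.cj_mulX c hg).2.2, hgdef, ← mul_assoc, cj_mul (c * g1) g₀,
        ← cj_sup, sup_comm, hgood, (A.cj_mulX c hg1).2.2]
    · have := hx.turn (i + 1) (by omega) (by omega)
      simpa using this

theorem exists_chain (hb2 : 2 ≤ b) : ∀ m, ∃ x, A.Chain (b := b) m x := by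
  intro m
  induction m with
  | zero => exact A.exists_chain_zero hb
  | succ m ih =>
    obtain ⟨x, hx⟩ := ih
    exact A.exists_chain_succ hb hb2 hx

/-- The turned neighbour does not commute with the far end. -/
theorem turn_noncomm (hb2 : 2 ≤ b) {m j : ℕ} {x : ℕ → Γ} (hx : A.Chain (b := b) m x) (hj : b ≤ j + 1)
    (hjm : j + 1 ≤ m) {g1 h1 : Γ} (hg1 : g1 ∈ A.X) (hh1 : h1 ∈ A.N) (he : x (j + 1) = x j * g1 * h1) :
    ¬ A.Comm (x j * h1) (x (j + (b - 1))) := by
  intro hcom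
  set c := x j
  set y := x (j + (b - 1))
  set z := x (j + b)
  obtain ⟨gy, hgy, hy, hhy, hyz0⟩ := hx.step (j + (b - 1)) (by omega)
  rw [show j + (b - 1) + 1 = j + b by omega] at hyz0
  obtain ⟨gm, hgm, hm, hhm, hxm⟩ := hx.step (j - 1) (by omega)
  rw [show j - 1 + 1 = j by omega] at hxm
  have hcyD : c⁻¹ * y ∈ A.D (b - 1) := hx.dist (b - 1) j (by omega)
  have hcy : cj c A.V ≤ cj y A.Q₁ := (A.near hb (k := b - 1) (by omega) (by
    have := A.D_inv hcyD
    rwa [_root_.mul_inv_rev, inv_inv] at this)).2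
  have hyz : cj y A.Q₁ ≤ cj z A.S₁ := by
    show _ ≤ cj (x (j + b)) A.S₁
    rw [hyz0, (A.cj_mulN (y * gy) hhy).1]
    exact A.cjQ_le_cjS hgy
  have hzc : cj z A.V ≤ cj (c * g1) A.S₁ := by
    have h2 : (x (j + 1))⁻¹ * z ∈ A.D (b - 1) := by
      have := hx.dist (b - 1) (j + 1) (by omega)
      rwa [show j + 1 + (b - 1) = j + b by omega] at this
    have h3 := A.edge hb (show b - 1 < b by omega) (a := c) (g := g1) hh1 h2
    rwa [← he, mul_inv_cancel_left] at h3
  have hne : ¬ A.Comm z c := fun h => hx.window j (by omega) h.symm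
  have hsmall : cj (c * h1) A.V ≤ cj y A.Q₁ := by
    intro u hu
    have hd : y⁻¹ * (c * h1) ∈ A.D b := by
      have := A.D_mul (A.D_inv hcyD) (A.N_mem_D hh1)
      rw [Nat.sub_add_cancel (by omega : 1 ≤ b)] at this
      convert this using 1
      group
    obtain ⟨h1', h2'⟩ := A.edge_le_X hb hd u hu
    exact A.mem_Q' h1' h2' fun v hv => hcom u hu v hv
  set R := cj (c * h1) A.V ⊔ cj c A.V
  have hn2 : cj c A.S₁ ≤ Subgroup.normalizer (R : Set Γ) := by
    intro s hs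
    refine mem_normalizer_of_map_le ?_
    rw [Subgroup.map_sup]
    refine sup_le_sup ?_ ?_
    · rintro _ ⟨u, hu, rfl⟩
      exact A.cjV_normal (cj_mono _ A.S_le (((A.cj_mulN c hh1).1).symm ▸ hs)) hu
    · rintro _ ⟨u, hu, rfl⟩
      exact A.cjV_normal (cj_mono _ A.S_le hs) hu
  have hn1 : cj z A.V ≤ Subgroup.normalizer (R : Set Γ) := by
    intro w hw
    refine mem_normalizer_of_map_le ?_
    rw [Subgroup.map_le_iff_le_comap]
    refine sup_le (fun u hu => ?_) (fun u hu => ?_)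
    · have h1' := mul_mem (Subgroup.mem_sup_right (A.comm_mem hb hg1 hne hcy hyz hzc (hsmall hu) hw) :
        w * u * w⁻¹ * u⁻¹ ∈ R) (Subgroup.mem_sup_left hu)
      show w * u * w⁻¹ ∈ R
      rwa [inv_mul_cancel_right] at h1'
    · show w * u * w⁻¹ ∈ R
      exact Subgroup.mem_sup_right (A.cjV_normal (A.cjS_le_cjX hg1 (hzc hw)) hu)
  have hsup := A.pair_sup hb (a := z) (c := c) (g := g1) (g' := 1) (fun h => hne h.symm) hg1 (one_mem _) hzc
    (by rw [mul_one]; exact hcy.trans hyz)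
  have hn3 : cj c A.X ≤ Subgroup.normalizer (R : Set Γ) := by
    rw [← hx.turn j (by omega) (by omega), he, (A.cj_mulN (c * g1) hh1).1, ← hsup]
    exact sup_le hn2 (sup_le hn1 ((cj_mono c A.Q_le).trans hn2))
  have hsub : cj (x (j + 1)) A.V ≤ R := by
    rw [he, show c * g1 * h1 = (c * g1 * c⁻¹) * (c * h1) by group, cj_mul]
    refine le_trans (cj_mono _ le_sup_left) (cj_eq_of_mem (hn3 (conj_mem_cj hg1))).le
  refine hx.window (j + 1 - b) (by omega) ?_
  rw [show j + 1 - b + b = j + 1 by omega]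
  set κ := x (j + 1 - b)
  have hκc : A.Comm κ c := (A.near hb (show b - 1 < b by omega) (by
    have := hx.dist (b - 1) (j + 1 - b) (by omega)
    rwa [show j + 1 - b + (b - 1) = j by omega] at this)).1
  have hκh : A.Comm κ (c * h1) := by
    refine (A.near hb (show b - 1 < b by omega) ?_).1
    have h2 := hx.dist (b - 2) (j + 1 - b) (by omega)
    rw [show j + 1 - b + (b - 2) = j - 1 by omega] at h2
    have h3 := A.D_mul h2 (A.XN_mem_D hgm (mul_mem hhm hh1))
    rw [show b - 2 + 1 = b - 1 by omega] at h3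
    convert h3 using 1
    show (x (j + 1 - b))⁻¹ * (x j * h1) = _
    rw [hxm]
    simp only [mul_assoc]
  intro u hu v hv
  have hle : R ≤ Subgroup.centralizer {u} := sup_le
    (fun t ht => Subgroup.mem_centralizer_singleton_iff.2 (hκh u hu t ht).symm)
    (fun t ht => Subgroup.mem_centralizer_singleton_iff.2 (hκc u hu t ht).symm)
  exact (Subgroup.mem_centralizer_singleton_iff.1 (hle (hsub hv))).symm

/-- The critical distance is at most two. -/
theorem le_two : b ≤ 2 := by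
  by_contra hlt
  have hb3 : 3 ≤ b := by omega
  obtain ⟨x, hx⟩ := A.exists_chain hb (by omega) b
  set j := b - 1
  obtain ⟨g1, hg1, h1, hh1, he⟩ := hx.step j (by omega)
  obtain ⟨g2, hg2, h2, hh2, he2⟩ := hx.step (j + 1) (by omega)
  have hne := A.turn_noncomm hb (by omega) hx (j := j) (by omega) (by omega) hg1 hh1 he
  set c := x j
  set y := x (j + (b - 1))
  set z := x (j + b)
  obtain ⟨u, hu, w, hw, hne'⟩ : ∃ u ∈ cj (c * h1) A.V, ∃ w ∈ cj y A.V, u * w ≠ w * u := by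
    simpa [Comm] using hne
  set r := w * u * w⁻¹ * u⁻¹ with hr
  have hr1 : r ≠ 1 := fun h => hne' (by rw [hr, mul_inv_eq_one, mul_inv_eq_iff_eq_mul] at h; exact h.symm)
  have hcyD : c⁻¹ * y ∈ A.D (b - 1) := hx.dist (b - 1) j (by omega)
  have hwc : w ∈ cj c A.Q₁ := (A.near hb (by omega) hcyD).2 hw
  -- it lies in the line of the turned edge
  have hrZ : r ∈ cj c A.Z := by
    rw [← (A.cj_mulN c hh1).2]
    refine A.into' ?_ hu
    rw [(A.cj_mulN c hh1).1]
    exact cj_mono c A.Q_le hwc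
  -- and in the far module
  have hry : r ∈ cj y A.V := by
    have hd : y⁻¹ * (c * h1) ∈ A.D b := by
      have := A.D_mul (A.D_inv hcyD) (A.N_mem_D hh1)
      rw [Nat.sub_add_cancel (by omega : 1 ≤ b)] at this
      convert this using 1
      group
    have := mul_mem hw (A.cjV_normal (A.edge_le_X hb hd u hu).1 (inv_mem hw))
    rwa [← mul_assoc, ← mul_assoc] at this
  have hzc : cj z A.V ≤ cj (c * g1) A.S₁ := by
    have h2' : (x (j + 1))⁻¹ * z ∈ A.D (b - 1) := by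
      have := hx.dist (b - 1) (j + 1) (by omega)
      rwa [show j + 1 + (b - 1) = j + b by omega] at this
    have h3 := A.edge hb (show b - 1 < b by omega) (a := c) (g := g1) hh1 h2'
    rwa [← he, mul_inv_cancel_left] at h3
  have hrZ1 : r ∈ cj (c * g1) A.Z := by
    refine A.pair_cent hb (hx.window j (by omega)) hg1 hzc (cj_mono c A.Z_le hrZ) fun t ht => ?_
    refine ((A.near hb (show 1 < b by omega) ?_).1 r hry t ht).symm
    have := hx.dist 1 (j + (b - 1)) (by omega)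
    rwa [show j + (b - 1) + 1 = j + b by omega] at this
  have hturn := hx.turn j (by omega) (by omega)
  rw [he, (A.cj_mulN (c * g1) hh1).1, cj_mul c g1, ← cj_sup] at hturn
  have hgood1 : A.S₁ ⊔ cj g1 A.S₁ = A.X := by
    have := congrArg (cj c⁻¹) hturn
    rwa [← cj_mul, ← cj_mul, inv_mul_cancel, cj_one, cj_one] at this
  have hrC : r ∈ cj c A.C := A.good_inf' hg1 hgood1 hrZ hrZ1
  -- it is central at the next vertex as well
  have hrC1 : r ∈ cj (x (j + 1)) A.C := by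
    have hgood2 : A.S₁ ⊔ cj g2 A.S₁ = A.X := by
      have hturn2 := hx.turn (j + 1) (by omega) (by omega)
      rw [he2, (A.cj_mulN (x (j + 1) * g2) hh2).1, cj_mul (x (j + 1)) g2, ← cj_sup] at hturn2
      have := congrArg (cj (x (j + 1))⁻¹) hturn2
      rwa [← cj_mul, ← cj_mul, inv_mul_cancel, cj_one, cj_one] at this
    have hz' : cj (x (j + 1 + b)) A.V ≤ cj (x (j + 1) * g2) A.S₁ := by
      have h2' : (x (j + 1 + 1))⁻¹ * x (j + 1 + b) ∈ A.D (b - 1) := by
        have := hx.dist (b - 1) (j + 1 + 1) (by omega)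
        rwa [show j + 1 + 1 + (b - 1) = j + 1 + b by omega] at this
      have h3 := A.edge hb (show b - 1 < b by omega) (a := x (j + 1)) (g := g2) hh2 h2'
      rwa [← he2, mul_inv_cancel_left] at h3
    have hrx : r ∈ cj (x (j + 1)) A.Z := by
      rw [he, (A.cj_mulN (c * g1) hh1).2]; exact hrZ1
    refine A.good_inf' hg2 hgood2 hrx (A.pair_cent hb (hx.window (j + 1) (by omega)) hg2 hz'
      (cj_mono _ A.Z_le hrx) fun t ht => ?_)
    refine ((A.near hb (show 2 < b by omega) ?_).1 r hry t ht).symm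
    have := hx.dist 2 (j + (b - 1)) (by omega)
    rwa [show j + (b - 1) + 2 = j + 1 + b by omega] at this
  -- turning it forward gives a contradiction
  set k := c * g1 * c⁻¹ with hk
  have hkr : k * r * k⁻¹ = r := by
    have h1' := A.C_cent (back hrC) hg1
    calc k * r * k⁻¹ = c * (g1 * (c⁻¹ * r * c)) * g1⁻¹ * c⁻¹ := by simp only [hk]; group
      _ = _ := by rw [h1']; group
  have hu' : k * u * k⁻¹ ∈ cj (x (j + 1)) A.V := by
    rw [he, show c * g1 * h1 = k * (c * h1) by simp only [hk]; group, cj_mul]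
    exact conj_mem_cj hu
  have hw' : k * w * k⁻¹ ∈ cj (x (j + 1)) A.X ∧ IsPGroup p (Subgroup.zpowers (k * w * k⁻¹)) := by
    refine A.edge_le_X hb (c := k * y) ?_ _ (by rw [cj_mul]; exact conj_mem_cj hw)
    have := A.D_mul (A.N_mem_D (inv_mem hh1)) hcyD
    rw [show 1 + (b - 1) = b by omega] at this
    convert this using 1
    rw [he]
    simp only [hk]
    group
  have h3 := A.fpf' hw'.1 hw'.2 hu' (by
    convert hrC1 using 1
    rw [← hkr]
    simp only [hr]
    group)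
  apply hne'
  calc u * w = k⁻¹ * ((k * u * k⁻¹) * (k * w * k⁻¹)) * k := by group
    _ = k⁻¹ * ((k * w * k⁻¹) * (k * u * k⁻¹)) * k := by rw [h3]
    _ = _ := by group

end Critical

end Amalgam

end CfsgLib.PushingUpRankOne
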