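/-
The structure inside the group at critical distance two.
-/
import Cfsg.Agent.Lib.PushingUpRankOne.Structure

set_option autoImplicit false
set_option linter.unusedSectionVars false
set_option linter.style.haveILetI false

open Matrix CfsgLib.Perm.SL2Unipotent
open scoped MatrixGroups commutatorElement

namespace CfsgLib.PushingUpRankOne

open CfsgLib.LocalEvenB.PushingUp CfsgLib.LocalEvenB CfsgLib.LocalEven.PushingUpClosure

variable {G : Type*} [Group G] [Finite G] {p : ℕ} [Fact p.Prime] {F : Type*} [Field F] [Fintype F]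

/-- The data at critical distance two: `U` is a neighbouring module, `a` turns it, and `Y` is a far module. -/
structure TwoData (p n : ℕ) (S Q U Y : Subgroup G) (a : G) : Prop where
  le : U ≤ Q
  norm : S ≤ Subgroup.normalizer (U : Set G)
  line : omegaZ p S ≤ U
  comm : ∀ u ∈ U, ∀ v ∈ U, u * v = v * u
  pow : ∀ u ∈ U, u ^ p = 1
  card : (omegaZ p S).relIndex U = p ^ n
  gen : S ⊔ S.map (MulAut.conj a).toMonoidHom = ⊤
  inf : ∀ u ∈ U, (∀ v ∈ U, u * (a * v * a⁻¹) = a * v * a⁻¹ * u) → u ∈ omegaZ p S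
  inf' : ∀ v ∈ U, (∀ u ∈ U, u * (a * v * a⁻¹) = a * v * a⁻¹ * u) → v ∈ omegaZ p S
  commC : ∀ u ∈ U, ∀ v ∈ U, u * (a * v * a⁻¹) * u⁻¹ * (a * v * a⁻¹)⁻¹ ∈ baseC p S
  noncomm : ∃ u ∈ U, ∃ v ∈ U, u * (a * v * a⁻¹) ≠ a * v * a⁻¹ * u
  cover : ∀ q ∈ Q, ∃ v ∈ U, ∃ r ∈ Q, (∀ u ∈ U, u * r = r * u) ∧ q = a * v * a⁻¹ * r
  far_le : Y ≤ S
  far_pow : ∀ y ∈ Y, y ^ p = 1
  far_comm : ∀ y ∈ Y, ∀ y' ∈ Y, y * y' = y' * y
  far_gen : ∀ s ∈ S, ∃ y ∈ Y, ∃ q ∈ Q, s = y * q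
  far_cent : ∀ y ∈ Y, ∀ u ∈ U, y * u = u * y
  far_into : ∀ y ∈ Y, ∀ r ∈ Q, (∀ u ∈ U, u * r = r * u) → y * r * y⁻¹ * r⁻¹ ∈ omegaZ p S

/-- The join of the conjugates of the neighbouring module. -/
def modW (U : Subgroup G) : Subgroup G := Subgroup.normalClosure (U : Set G)

instance modW_normal (U : Subgroup G) : (modW U).Normal := Subgroup.normalClosure_normal

/-- The elements fixed modulo the module. -/
def modE (p : ℕ) (S U : Subgroup G) : Subgroup G where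
  carrier := {x | x ∈ modW U ∧ ∀ g : G, g * x * g⁻¹ * x⁻¹ ∈ baseV p S}
  one_mem' := ⟨one_mem _, fun g => by simp⟩
  mul_mem' := fun {a b} ha hb => ⟨mul_mem ha.1 hb.1, fun g => by
    rw [show g * (a * b) * g⁻¹ * (a * b)⁻¹ = (g * a * g⁻¹ * a⁻¹) * (a * (g * b * g⁻¹ * b⁻¹) * a⁻¹) by group]
    exact mul_mem (ha.2 g) ((baseV_normal p S).conj_mem _ (hb.2 g) a)⟩
  inv_mem' := fun {a} ha => ⟨inv_mem ha.1, fun g => by
    rw [show g * a⁻¹ * g⁻¹ * a⁻¹⁻¹ = a⁻¹ * (g * a * g⁻¹ * a⁻¹)⁻¹ * a⁻¹⁻¹ by group]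
    exact (baseV_normal p S).conj_mem _ (inv_mem (ha.2 g)) a⁻¹⟩

instance modE_normal (p : ℕ) (S U : Subgroup G) : (modE p S U).Normal :=
  ⟨fun x hx h => ⟨(modW_normal U).conj_mem x hx.1 h, fun g => by
    rw [show g * (h * x * h⁻¹) * g⁻¹ * (h * x * h⁻¹)⁻¹ =
      ((g * h) * x * (g * h)⁻¹ * x⁻¹) * (h * x * h⁻¹ * x⁻¹)⁻¹ by group]
    exact mul_mem (hx.2 _) (inv_mem (hx.2 _))⟩⟩

/-- The elements of the join centralising the neighbouring module. -/
def modK (U : Subgroup G) : Subgroup G := modW U ⊓ Subgroup.centralizer (U : Set G)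

/-- What fixes an element modulo a normal subgroup. -/
theorem fixed_all {R A B : Subgroup G} (hR : R.Normal) (h : A ⊔ B = ⊤) {x : G}
    (hA : ∀ g ∈ A, g * x * g⁻¹ * x⁻¹ ∈ R) (hB : ∀ g ∈ B, g * x * g⁻¹ * x⁻¹ ∈ R) (g : G) :
    g * x * g⁻¹ * x⁻¹ ∈ R := by
  let D : Subgroup G :=
    { carrier := {g | g * x * g⁻¹ * x⁻¹ ∈ R}
      one_mem' := by simp
      mul_mem' := fun {g k} hg hk => by
        show g * k * x * (g * k)⁻¹ * x⁻¹ ∈ R
        rw [show g * k * x * (g * k)⁻¹ * x⁻¹ = (g * (k * x * k⁻¹ * x⁻¹) * g⁻¹) * (g * x * g⁻¹ * x⁻¹) by group]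
        exact mul_mem (hR.conj_mem _ hk g) hg
      inv_mem' := fun {g} hg => by
        show g⁻¹ * x * g⁻¹⁻¹ * x⁻¹ ∈ R
        have h1 := hR.conj_mem _ (inv_mem hg) g⁻¹
        rwa [show g⁻¹ * (g * x * g⁻¹ * x⁻¹)⁻¹ * g⁻¹⁻¹ = g⁻¹ * x * g⁻¹⁻¹ * x⁻¹ by group] at h1 }
  exact (h.ge.trans (sup_le (show A ≤ D from hA) (show B ≤ D from hB))) (Subgroup.mem_top g)

namespace TwoData

variable {S Q M U Y : Subgroup G} {a : G} {n m : ℕ} {φ : G →* PSL2 F} (X : Pre p S Q M n φ)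
  (T : TwoData p m S Q U Y a)
include X T

theorem W_le : modW U ≤ Q := by
  haveI := X.hyp.setup.normal
  exact Subgroup.normalClosure_le_normal T.le

theorem U_le_W : U ≤ modW U := Subgroup.subset_normalClosure

theorem U'_le_W {v : G} (hv : v ∈ U) : a * v * a⁻¹ ∈ modW U := (modW_normal U).conj_mem v (U_le_W X T hv) a

theorem V_le_W : baseV p S ≤ modW U :=
  Subgroup.normalClosure_le_normal fun _ hz => U_le_W X T (T.line hz)

theorem C_cent {c : G} (hc : c ∈ baseC p S) (g : G) : g * c = c * g := Subgroup.mem_center_iff.1 hc.2 g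

theorem comm_WQ {w q : G} (hw : w ∈ modW U) (hq : q ∈ Q) : w * q * w⁻¹ * q⁻¹ ∈ baseC p S := by
  haveI := fixer_normal (baseC p S) Q X.hyp.setup.normal
  refine ((Subgroup.normalClosure_le_normal (N := fixer (baseC p S) Q) fun u hu =>
    ⟨by rw [Subgroup.normalizer_eq_top_iff.2 X.hyp.setup.normal]; trivial, fun q hq => ?_⟩) hw).2 q hq
  obtain ⟨v, hv, r, -, hr, rfl⟩ := T.cover q hq
  convert T.commC u hu v hv using 1
  calc u * (a * v * a⁻¹ * r) * u⁻¹ * (a * v * a⁻¹ * r)⁻¹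
      = u * (a * v * a⁻¹) * (r * u⁻¹ * r⁻¹) * (a * v * a⁻¹)⁻¹ := by group
    _ = _ := by rw [(show Commute u r from hr u hu).inv_left.symm.eq, mul_inv_cancel_right]

theorem W_pow {w : G} (hw : w ∈ modW U) : w ^ p ∈ baseC p S := by
  set π := QuotientGroup.mk' (baseC p S)
  suffices h : π w ^ p = 1 by
    rw [← map_pow] at h
    exact (QuotientGroup.eq_one_iff _).1 h
  induction hw using Subgroup.closure_induction with
  | mem x hx =>
    obtain ⟨u, hu, hux⟩ := Group.mem_conjugatesOfSet_iff.1 hx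
    obtain ⟨g, rfl⟩ := isConj_iff.1 hux
    rw [← map_pow, conj_pow, T.pow u hu, mul_one, mul_inv_cancel, map_one]
  | one => rw [map_one, one_pow]
  | mul x y hx hy ihx ihy =>
    have hc : Commute (π x) (π y) := by
      have h1 := comm_WQ X T hx (W_le X T hy)
      have h2 : π (x * y * x⁻¹ * y⁻¹) = 1 := (QuotientGroup.eq_one_iff _).2 h1
      rw [map_mul, map_mul, map_mul, map_inv, map_inv, mul_inv_eq_one, mul_inv_eq_iff_eq_mul] at h2
      exact h2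
    rw [map_mul, hc.mul_pow, ihx, ihy, one_mul]
  | inv x hx ih => rw [map_inv, inv_pow, ih, inv_one]

theorem C_le_K {c : G} (hc : c ∈ baseC p S) : c ∈ modK U :=
  ⟨V_le_W X T hc.1, fun u _ => C_cent X T hc u⟩

theorem U_le_K : U ≤ modK U := fun u hu => ⟨U_le_W X T hu, fun v hv => T.comm v hv u hu⟩

theorem comm_YK {y k : G} (hy : y ∈ Y) (hk : k ∈ modK U) : y * k * y⁻¹ * k⁻¹ ∈ omegaZ p S :=
  T.far_into y hy k (W_le X T hk.1) hk.2

theorem S_fix_K {s k : G} (hs : s ∈ S) (hk : k ∈ modK U) : s * k * s⁻¹ * k⁻¹ ∈ omegaZ p S := by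
  obtain ⟨y, hy, q, hq, rfl⟩ := T.far_gen s hs
  have h1 := inv_mem (comm_WQ X T hk.1 hq)
  rw [show (k * q * k⁻¹ * q⁻¹)⁻¹ = q * k * q⁻¹ * k⁻¹ by group] at h1
  rw [show y * q * k * (y * q)⁻¹ * k⁻¹ = (y * (q * k * q⁻¹ * k⁻¹) * y⁻¹) * (y * k * y⁻¹ * k⁻¹) by group,
    C_cent X T h1 y, mul_inv_cancel_right]
  exact mul_mem (X.baseC_le h1) (comm_YK X T hy hk)

theorem S_fix_K' {s k : G} (hs : s ∈ S) (hk : k ∈ modK U) : s * k * s⁻¹ * k⁻¹ ∈ baseV p S :=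
  omegaZ_le_baseV (S_fix_K X T hs hk)

theorem conj_fix {s k : G} (hs : s ∈ S) (hk : k ∈ modK U) :
    (a * s * a⁻¹) * (a * k * a⁻¹) * (a * s * a⁻¹)⁻¹ * (a * k * a⁻¹)⁻¹ ∈ baseV p S := by
  convert (baseV_normal p S).conj_mem _ (S_fix_K' X T hs hk) a using 1
  group

theorem S_into {s w : G} (hs : s ∈ S) (hw : w ∈ modW U) : s * w * s⁻¹ * w⁻¹ ∈ modK U := by
  obtain ⟨y, hy, q, hq, rfl⟩ := T.far_gen s hs
  have h1 := inv_mem (comm_WQ X T hw hq)
  rw [show (w * q * w⁻¹ * q⁻¹)⁻¹ = q * w * q⁻¹ * w⁻¹ by group] at h1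
  rw [show y * q * w * (y * q)⁻¹ * w⁻¹ = (y * (q * w * q⁻¹ * w⁻¹) * y⁻¹) * (y * w * y⁻¹ * w⁻¹) by group,
    C_cent X T h1 y, mul_inv_cancel_right]
  refine mul_mem (C_le_K X T h1) ⟨(modW U).mul_mem ((modW_normal U).conj_mem w hw y) ((modW U).inv_mem hw), fun u hu => ?_⟩
  have hwn := T.norm (X.hyp.setup.le (W_le X T hw))
  have hu' : w⁻¹ * u * w ∈ U := by
    have h2 := (Subgroup.mem_normalizer_iff.1 (inv_mem hwn) u).1 hu
    rwa [inv_inv] at h2
  have c1 : Commute y (w⁻¹ * u * w) := T.far_cent y hy _ hu'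
  have c2 : Commute y u := T.far_cent y hy u hu
  symm
  calc y * w * y⁻¹ * w⁻¹ * u = y * w * (y⁻¹ * (w⁻¹ * u * w)) * w⁻¹ := by group
    _ = y * w * ((w⁻¹ * u * w) * y⁻¹) * w⁻¹ := by rw [c1.inv_left.eq]
    _ = y * u * (w * y⁻¹ * w⁻¹) := by group
    _ = u * y * (w * y⁻¹ * w⁻¹) := by rw [c2.eq]
    _ = _ := by group

theorem split {w : G} (hw : w ∈ modW U) : ∃ v ∈ U, ∃ k ∈ modK U, w = a * v * a⁻¹ * k := by
  obtain ⟨v, hv, r, hr, hru, rfl⟩ := T.cover w (W_le X T hw)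
  refine ⟨v, hv, r, ⟨?_, hru⟩, rfl⟩
  have := mul_mem (inv_mem (U'_le_W X T hv)) hw
  rwa [inv_mul_cancel_left] at this

theorem V_le_E : baseV p S ≤ modE p S U := fun v hv =>
  ⟨V_le_W X T hv, fun g => mul_mem ((baseV_normal p S).conj_mem v hv g) (inv_mem hv)⟩

theorem Z_le_E : omegaZ p S ≤ modE p S U := omegaZ_le_baseV.trans (V_le_E X T)

theorem inf_E {u : G} (hu : u ∈ U) (huE : u ∈ modE p S U) : u ∈ omegaZ p S := by
  refine T.inf u hu fun v hv => ?_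
  have h1 : a⁻¹ * u * a⁻¹⁻¹ * u⁻¹ ∈ baseV p S := huE.2 a⁻¹
  obtain ⟨t, ht⟩ : ∃ t, t = a⁻¹ * u * a⁻¹⁻¹ * u⁻¹ := ⟨_, rfl⟩
  rw [← ht] at h1
  have hc : Commute (a⁻¹ * u * a) v := by
    rw [show a⁻¹ * u * a = t * u by rw [ht]; group]
    exact Commute.mul_left (X.Q_comm (T.le hv) h1).symm (T.comm u hu v hv)
  calc u * (a * v * a⁻¹) = a * ((a⁻¹ * u * a) * v) * a⁻¹ := by group
    _ = a * (v * (a⁻¹ * u * a)) * a⁻¹ := by rw [hc.eq]
    _ = _ := by group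

theorem conj_Z {v : G} (hv : v ∈ omegaZ p S) : a * v * a⁻¹ ∈ baseV p S :=
  (baseV_normal p S).conj_mem v (omegaZ_le_baseV hv) a

theorem E_le_K : modE p S U ≤ modK U := by
  intro e he
  obtain ⟨v, hv, k, hk, rfl⟩ := split X T he.1
  have hv' : a * v * a⁻¹ ∈ modE p S U := ⟨U'_le_W X T hv, fixed_all inferInstance T.gen (fun s hs => ?_)
    (fun g hg => by obtain ⟨s, hs, rfl⟩ := hg; exact conj_fix X T hs (U_le_K X T hv))⟩
  · have hvE : v ∈ modE p S U := by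
      have := (modE_normal p S U).conj_mem _ hv' a⁻¹
      simpa [mul_assoc] using this
    refine mul_mem (s := modK U) ⟨U'_le_W X T hv, fun u hu => ?_⟩ hk
    exact (X.Q_comm (T.le hu) (conj_Z X T (inf_E X T hv hvE)))
  · obtain ⟨x, hx⟩ : ∃ x, x = a * v * a⁻¹ := ⟨_, rfl⟩
    rw [← hx] at he ⊢
    rw [show s * x * s⁻¹ * x⁻¹ = (s * (x * k) * s⁻¹ * (x * k)⁻¹) *
      (x * (s * k * s⁻¹ * k⁻¹)⁻¹ * x⁻¹) by group]
    exact mul_mem (he.2 s) ((baseV_normal p S).conj_mem _ (inv_mem (S_fix_K' X T hs hk)) x)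

theorem E_comm {e w : G} (he : e ∈ modE p S U) (hw : w ∈ modW U) : e * w = w * e := by
  haveI : (Subgroup.centralizer (modE p S U : Set G)).Normal := normal_centralizer inferInstance
  exact (Subgroup.normalClosure_le_normal (N := Subgroup.centralizer (modE p S U : Set G))
    (fun u hu x hx => ((E_le_K X T hx).2 u hu).symm) hw) e he

theorem K_split {k : G} (hk : k ∈ modK U) : ∃ u ∈ U, ∃ e ∈ modE p S U, k = u * e := by
  obtain ⟨v, hv, r, hr, he⟩ := split X T ((modW_normal U).conj_mem k hk.1 a)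
  obtain ⟨e, hee⟩ : ∃ e, e = v⁻¹ * k := ⟨_, rfl⟩
  have heK : e ∈ modK U := hee ▸ mul_mem (inv_mem (U_le_K X T hv)) hk
  have hre : r = a * e * a⁻¹ := by
    rw [hee, show a * (v⁻¹ * k) * a⁻¹ = (a * v * a⁻¹)⁻¹ * (a * k * a⁻¹) by group, he, inv_mul_cancel_left]
  have hrE : r ∈ modE p S U := ⟨hr.1, fixed_all inferInstance T.gen (fun s hs => S_fix_K' X T hs hr)
    (fun g hg => by obtain ⟨s, hs, rfl⟩ := hg; rw [hre]; exact conj_fix X T hs heK)⟩
  refine ⟨v, hv, e, ?_, by rw [hee, mul_inv_cancel_left]⟩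
  have := (modE_normal p S U).conj_mem _ hrE a⁻¹
  rw [hre] at this
  simpa [mul_assoc] using this

theorem U'_inf_K {v : G} (hv : v ∈ U) (h : a * v * a⁻¹ ∈ modK U) : v ∈ omegaZ p S := T.inf' v hv h.2

theorem relIndex_K : (modE p S U).relIndex (modK U) = p ^ m := by
  have h1 : modK U = U ⊔ modE p S U := by
    refine le_antisymm (fun k hk => ?_) (sup_le (U_le_K X T) (E_le_K X T))
    obtain ⟨u, hu, e, he, rfl⟩ := K_split X T hk
    exact mul_mem (Subgroup.mem_sup_left hu) (Subgroup.mem_sup_right he)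
  rw [h1, Subgroup.relIndex_sup_right, ← Subgroup.inf_relIndex_right]
  convert T.card using 2
  exact le_antisymm (fun x hx => inf_E X T hx.2 hx.1) fun x hx => ⟨Z_le_E X T hx, T.line hx⟩

theorem relIndex_W : (modK U).relIndex (modW U) = p ^ m := by
  set U' := U.map (MulAut.conj a).toMonoidHom
  have hW : modW U = U' ⊔ modK U := by
    refine le_antisymm (fun w hw => ?_) (sup_le ?_ inf_le_left)
    · obtain ⟨v, hv, k, hk, rfl⟩ := split X T hw
      exact mul_mem (Subgroup.mem_sup_left ⟨v, hv, rfl⟩) (Subgroup.mem_sup_right hk)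
    · rintro _ ⟨v, hv, rfl⟩; exact U'_le_W X T hv
  have hn : U' ≤ Subgroup.normalizer (modK U : Set G) := by
    have key : ∀ w ∈ modW U, ∀ k ∈ modK U, w * k * w⁻¹ ∈ modK U := fun w hw k hk => by
      have h1 := mul_mem (C_le_K X T (comm_WQ X T hw (W_le X T hk.1))) hk
      rwa [inv_mul_cancel_right] at h1
    rintro _ ⟨v, hv, rfl⟩
    have hw := U'_le_W X T hv
    rw [Subgroup.mem_normalizer_iff]
    refine fun k => ⟨key _ hw k, fun h => ?_⟩
    have := key _ (inv_mem hw) _ h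
    simpa [mul_assoc] using this
  have hinf : U' ⊓ modK U = (omegaZ p S).map (MulAut.conj a).toMonoidHom := by
    refine le_antisymm ?_ ?_
    · rintro _ ⟨⟨v, hv, rfl⟩, hK⟩
      exact ⟨v, U'_inf_K X T hv hK, rfl⟩
    · rintro _ ⟨z, hz, rfl⟩
      exact ⟨⟨z, T.line hz, rfl⟩, E_le_K X T (V_le_E X T (conj_Z X T hz))⟩
  have hc := CfsgLib.Fusion.Thompson.card_sup_mul_card_inf hn
  have e1 := Subgroup.relIndex_mul_relIndex ⊥ (modK U) (modW U) bot_le inf_le_left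
  have e2 := Subgroup.relIndex_mul_relIndex ⊥ (omegaZ p S) U bot_le T.line
  rw [Subgroup.relIndex_bot_left, Subgroup.relIndex_bot_left] at e1 e2
  rw [T.card] at e2
  rw [sup_comm, inf_comm, ← hW, hinf, Subgroup.card_map_of_injective (MulAut.conj a).injective,
    Subgroup.card_map_of_injective (MulAut.conj a).injective, ← e1, ← e2] at hc
  refine Nat.eq_of_mul_eq_mul_left (Nat.mul_pos (Nat.card_pos (α := ↥(modK U))) (Nat.card_pos (α := ↥(omegaZ p S)))) ?_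
  linarith [hc]

/-- Only `E` is fixed modulo `E`. -/
theorem W_noFix {x : G} (hx : x ∈ modW U) (hfix : ∀ g : G, g * x * g⁻¹ * x⁻¹ ∈ modE p S U) :
    x ∈ modE p S U := by
  obtain ⟨v, hv, k, hk, rfl⟩ := split X T hx
  obtain ⟨x', hx'⟩ : ∃ x', x' = a * v * a⁻¹ := ⟨_, rfl⟩
  have hx'fix : ∀ g : G, g * x' * g⁻¹ * x'⁻¹ ∈ modE p S U := by
    refine fixed_all inferInstance T.gen (fun s hs => ?_) (fun g hg => ?_)
    · rw [show s * x' * s⁻¹ * x'⁻¹ = (s * (x' * k) * s⁻¹ * (x' * k)⁻¹) *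
        (x' * (s * k * s⁻¹ * k⁻¹)⁻¹ * x'⁻¹) by group]
      refine mul_mem (hx' ▸ hfix s) ((modE_normal p S U).conj_mem _ (inv_mem ?_) x')
      exact V_le_E X T (S_fix_K' X T hs hk)
    · obtain ⟨s, hs, rfl⟩ := hg
      exact hx' ▸ V_le_E X T (conj_fix X T hs (U_le_K X T hv))
  have h1 := hx'fix a⁻¹
  rw [hx', show a⁻¹ * (a * v * a⁻¹) * a⁻¹⁻¹ * (a * v * a⁻¹)⁻¹ = v * (a * v * a⁻¹)⁻¹ by group] at h1
  have h2 : a * v * a⁻¹ ∈ modK U := by
    have := mul_mem (inv_mem (E_le_K X T h1)) (U_le_K X T hv)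
    simpa [mul_assoc] using this
  have hxK : a * v * a⁻¹ * k ∈ modK U := mul_mem h2 hk
  obtain ⟨u, hu, e, he, hue⟩ := K_split X T hxK
  rw [hue] at hfix ⊢
  have hufix : ∀ g : G, g * u * g⁻¹ * u⁻¹ ∈ modE p S U := fun g => by
    rw [show g * u * g⁻¹ * u⁻¹ = (g * (u * e) * g⁻¹ * (u * e)⁻¹) * (u * (g * e * g⁻¹ * e⁻¹)⁻¹ * u⁻¹) by group]
    exact mul_mem (hfix g) ((modE_normal p S U).conj_mem _
      (inv_mem (mul_mem ((modE_normal p S U).conj_mem e he g) (inv_mem he))) u)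
  have h3 : a * u * a⁻¹ ∈ modK U := by
    have := mul_mem (E_le_K X T (hufix a)) (U_le_K X T hu)
    rwa [inv_mul_cancel_right] at this
  exact mul_mem (Z_le_E X T (U'_inf_K X T hu h3)) he

end TwoData

namespace TwoData

variable {S Q M U Y : Subgroup G} {a : G} {n : ℕ} {φ : G →* PSL2 F} (X : Pre p S Q M n φ)
  (T : TwoData p n S Q U Y a)
include X T

theorem section_W : LineSection p n S Q (modW U) (modK U) (modE p S U) := by
  have hC : baseC p S ≤ modE p S U := (inf_le_left : baseC p S ≤ baseV p S).trans (V_le_E X T)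
  refine ⟨inferInstance, inferInstance, E_le_K X T, inf_le_left,
    fun x hx y hy => hC (comm_WQ X T hx (W_le X T hy)), fun x hx => hC (W_pow X T hx),
    fun q hq x hx => hC ?_, fun s hs l hl => Z_le_E X T (S_fix_K X T hs hl),
    fun s hs x hx => S_into X T hs hx, relIndex_K X T, relIndex_W X T, fun x hx hfix => W_noFix X T hx hfix⟩
  · have := inv_mem (comm_WQ X T hx hq)
    convert this using 1
    group

theorem fixes_VE : Fixes p (baseV p S) (modE p S U) := fun x _ _ he => he.2 x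

theorem exists_far : ∃ y ∈ Y, y ∉ Q := by
  obtain ⟨s, hs, hsQ⟩ := X.exists_notQ
  obtain ⟨y, hy, q, hq, rfl⟩ := T.far_gen s hs
  exact ⟨y, hy, fun h => hsQ (mul_mem h hq)⟩

theorem fixes_WQ : Fixes p (modW U) Q := by
  obtain ⟨y, hy, hyQ⟩ := exists_far X T
  refine X.fixes_of inferInstance X.hyp.setup.normal T.far_le (fun h => hyQ (h hy)) fun y hy q hq => ?_
  obtain ⟨v, hv, r, hr, hru, rfl⟩ := T.cover q hq
  obtain ⟨x, hx⟩ : ∃ x, x = a * v * a⁻¹ := ⟨_, rfl⟩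
  have hxW : x ∈ modW U := hx ▸ U'_le_W X T hv
  rw [← hx, show y * (x * r) * y⁻¹ * (x * r)⁻¹ = (y * x * y⁻¹ * x⁻¹) * (x * (y * r * y⁻¹ * r⁻¹) * x⁻¹) by group]
  exact mul_mem (mul_mem ((modW_normal U).conj_mem x hxW y) (inv_mem hxW))
    ((modW_normal U).conj_mem _ (V_le_W X T (omegaZ_le_baseV (T.far_into y hy r hr hru))) x)

end TwoData

/-- The natural modules at critical distance two share their representation, whose kernel is `Q`. -/
theorem TwoData.natural {S Q M U Y : Subgroup G} {a : G} {n : ℕ} {φ : G →* PSL2 F} (X : Pre p S Q M n φ)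
    (T : TwoData p n S Q U Y a) : ∃ (ρ : G →* SL(2, F)) (ψ ψ' : G → Fin 2 → F),
      NaturalMap S φ ρ (baseV p S) (omegaZ p S) (baseC p S) ψ ∧
      NaturalMap S φ ρ (modW U) (modK U) (modE p S U) ψ' ∧ ∀ g, ρ g = 1 ↔ g ∈ Q := by
  obtain ⟨ρ, ψ, D⟩ := X.lineSection.natural X.hyp
  obtain ⟨ρ', ψ', D'⟩ := (TwoData.section_W X T).natural X.hyp
  obtain rfl := lift_unique T.gen D.compat D'.compat D.upper D'.upper
  refine ⟨ρ, ψ, ψ', D, D', fun g => X.rho_ker D.compat D.upper (fun x hx hρ r hr => ?_) g⟩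
  have hWQ := TwoData.W_le X T
  have hEW : modE p S U ≤ modW U := fun e he => he.1
  have hVQ := X.baseV_le_Q
  -- down the series
  have a1 : x * r * x⁻¹ * r⁻¹ ∈ modW U := TwoData.fixes_WQ X T x hx r hr
  have a2 : x * r * x⁻¹ * r⁻¹ ∈ modE p S U :=
    X.coprime_step inferInstance hx hr ((D'.ker_iff inferInstance x).1 hρ _ a1)
  have a3 : x * r * x⁻¹ * r⁻¹ ∈ baseV p S := X.coprime_step inferInstance hx hr (a2.2 x)
  have a4 : x * r * x⁻¹ * r⁻¹ ∈ baseC p S :=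
    X.coprime_step inferInstance hx hr ((D.ker_iff inferInstance x).1 hρ _ a3)
  have a5 := X.coprime_step (R := ⊥) inferInstance hx hr (by
    rw [Subgroup.mem_bot, TwoData.C_cent X T a4 x, mul_inv_cancel_right, mul_inv_cancel])
  rw [Subgroup.mem_bot, mul_inv_eq_one, mul_inv_eq_iff_eq_mul] at a5
  exact a5

/-- A far element whose double commutator with a turned element is nontrivial. -/
theorem TwoData.witness {S Q M U Y : Subgroup G} {a : G} {n : ℕ} {φ : G →* PSL2 F} (X : Pre p S Q M n φ)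
    (T : TwoData p n S Q U Y a) : ∃ y ∈ Y, ∃ u ∈ U, ∃ v ∈ U,
      u * (a * v * a⁻¹) ≠ a * v * a⁻¹ * u ∧ ∃ e ∈ modE p S U,
        (a * v * a⁻¹) * y * (a * v * a⁻¹)⁻¹ * y⁻¹ = u * e ∧
        (a * v * a⁻¹) * (u * e) * (a * v * a⁻¹)⁻¹ * (u * e)⁻¹ = (a * v * a⁻¹) * u * (a * v * a⁻¹)⁻¹ * u⁻¹ := by
  obtain ⟨ρ, ψ, ψ', D, D', hker⟩ := TwoData.natural X T
  obtain ⟨u, hu, v, hv, hne⟩ := T.noncomm
  obtain ⟨x, hx⟩ : ∃ x, x = a * v * a⁻¹ := ⟨_, rfl⟩
  have hxW : x ∈ modW U := hx ▸ TwoData.U'_le_W X T hv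
  have hxK : x ∉ modK U := fun h => hne (hx ▸ h.2 u hu)
  have hx1 : ψ' x 1 ≠ 0 := fun h => hxK ((D'.line x hxW).2 h)
  obtain ⟨s, hs, hsc⟩ := X.hyp.exists_up (-ψ' u 0 / ψ' x 1)
  obtain ⟨y, hy, q, hq, rfl⟩ := T.far_gen s hs
  obtain ⟨t, ht⟩ := D.upper y (T.far_le hy)
  have htc : t = -ψ' u 0 / ψ' x 1 := by
    refine pr_up_inj ?_
    rw [← ht, D.compat, ← hsc, map_mul, X.hyp.map_Q q hq, mul_one]
  have hm : y * x * y⁻¹ * x⁻¹ ∈ modW U := mul_mem ((modW_normal U).conj_mem x hxW y) (inv_mem hxW)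
  have hval : ψ' (y * x * y⁻¹ * x⁻¹) = -ψ' u := by
    have e := D'.map_mul _ hm _ hxW
    rw [inv_mul_cancel_right, D'.act y x hxW, ht] at e
    have hu1 : ψ' u 1 = 0 := (D'.line u (TwoData.U_le_W X T hu)).1 (TwoData.U_le_K X T hu)
    ext i
    have ei := congrFun e i
    fin_cases i <;> simp [up_val, Matrix.mulVec, dotProduct, Fin.sum_univ_two, htc, hu1, hx1] at ei ⊢
    · linear_combination -ei
    · exact ei
  have hE : (y * x * y⁻¹ * x⁻¹) * u ∈ modE p S U := by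
    refine (D'.ker _ (mul_mem hm (TwoData.U_le_W X T hu))).1 ?_
    rw [D'.map_mul _ hm _ (TwoData.U_le_W X T hu), hval, neg_add_cancel]
  refine ⟨y, hy, u, hu, v, hv, hne, u⁻¹ * (y * x * y⁻¹ * x⁻¹)⁻¹, ?_, ?_, ?_⟩
  · rw [← _root_.mul_inv_rev]; exact inv_mem hE
  · rw [← hx]; group
  · rw [← hx]
    set e := u⁻¹ * (y * x * y⁻¹ * x⁻¹)⁻¹
    have he : e ∈ modE p S U := by
      show u⁻¹ * (y * x * y⁻¹ * x⁻¹)⁻¹ ∈ _
      rw [← _root_.mul_inv_rev]; exact inv_mem hE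
    calc x * (u * e) * x⁻¹ * (u * e)⁻¹ = x * u * (e * x⁻¹) * e⁻¹ * u⁻¹ := by group
      _ = x * u * (x⁻¹ * e) * e⁻¹ * u⁻¹ := by rw [(show Commute e x from TwoData.E_comm X T he hxW).inv_right.eq]
      _ = _ := by group

end CfsgLib.PushingUpRankOne
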