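/-
At critical distance two the elements of order `p` act quadratically unless `p = 3`.
-/
import Cfsg.Agent.Lib.PushingUpRankOne.Two

set_option autoImplicit false
set_option linter.unusedSectionVars false
set_option linter.style.haveILetI false

open Matrix CfsgLib.Perm.SL2Unipotent
open scoped MatrixGroups commutatorElement

namespace CfsgLib.PushingUpRankOne

open CfsgLib.LocalEvenB.PushingUp CfsgLib.LocalEvenB CfsgLib.LocalEven.PushingUpClosure

variable {G : Type*} [Group G] [Finite G] {p : ℕ} [Fact p.Prime] {F : Type*} [Field F] [Fintype F]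

section Abstract

variable {H : Type*} [Group H]

/-- Doubling a unipotent action on an abelian subgroup. -/
theorem double_step {x w d b : H} (hw : x * w * x⁻¹ = d * w) (hd : x * d * x⁻¹ = b * d) (hb : x * b * x⁻¹ = b)
    (hbd : Commute b d) :
    (x * x) * w * (x * x)⁻¹ = (b * d * d) * w ∧ (x * x) * (b * d * d) * (x * x)⁻¹ = b ^ 4 * (b * d * d) ∧
      (x * x) * b ^ 4 * (x * x)⁻¹ = b ^ 4 ∧ Commute (b ^ 4) (b * d * d) := by
  have hd2 : (x * x) * d * (x * x)⁻¹ = b * b * d := by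
    calc (x * x) * d * (x * x)⁻¹ = x * (x * d * x⁻¹) * x⁻¹ := by group
      _ = x * (b * d) * x⁻¹ := by rw [hd]
      _ = (x * b * x⁻¹) * (x * d * x⁻¹) := by group
      _ = _ := by rw [hb, hd, mul_assoc]
  have hb2 : (x * x) * b * (x * x)⁻¹ = b := by
    calc (x * x) * b * (x * x)⁻¹ = x * (x * b * x⁻¹) * x⁻¹ := by group
      _ = _ := by rw [hb, hb]
  refine ⟨?_, ?_, ?_, ?_⟩
  · calc (x * x) * w * (x * x)⁻¹ = x * (x * w * x⁻¹) * x⁻¹ := by group
      _ = x * (d * w) * x⁻¹ := by rw [hw]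
      _ = (x * d * x⁻¹) * (x * w * x⁻¹) := by group
      _ = _ := by rw [hd, hw, mul_assoc (b * d) d w]
  · calc (x * x) * (b * d * d) * (x * x)⁻¹
        = ((x * x) * b * (x * x)⁻¹) * ((x * x) * d * (x * x)⁻¹) * ((x * x) * d * (x * x)⁻¹) := by group
      _ = b * (b * b) * (d * (b * b)) * d := by rw [hb2, hd2]; group
      _ = b * (b * b) * ((b * b) * d) * d := by rw [(hbd.mul_left hbd).symm.eq]
      _ = _ := by simp [pow_succ, mul_assoc]
  · rw [conj_pow.symm, hb2]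
  · exact ((Commute.refl b).mul_right hbd).mul_right hbd |>.pow_left 4

end Abstract

namespace TwoData

variable {S Q M U Y : Subgroup G} {a : G} {n : ℕ} {φ : G →* PSL2 F} (X : Pre p S Q M n φ)
  (T : TwoData p n S Q U Y a)
include X T

theorem quad_two (hp : p = 2) {w x : G} (hw : w ∈ modW U) (hx : x ^ p = 1) :
    x * (x * w * x⁻¹ * w⁻¹) * x⁻¹ * (x * w * x⁻¹ * w⁻¹)⁻¹ ∈ baseC p S := by
  subst hp
  have hxi : x⁻¹ = x := inv_eq_of_mul_eq_one_right (by rw [← pow_two, hx])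
  have hd : x * w * x⁻¹ * w⁻¹ ∈ modW U := mul_mem ((modW_normal U).conj_mem w hw x) (inv_mem hw)
  have e : x * (x * w * x⁻¹ * w⁻¹) * x⁻¹ = (x * w * x⁻¹ * w⁻¹)⁻¹ := by
    calc x * (x * w * x⁻¹ * w⁻¹) * x⁻¹ = (x * x) * w * x⁻¹ * w⁻¹ * x⁻¹ := by group
      _ = w * x * w⁻¹ * x⁻¹ := by rw [← pow_two, hx, one_mul, hxi]
      _ = _ := by group
  rw [e, ← pow_two, inv_pow]
  exact inv_mem (W_pow X T hd)

/-- For `p ≥ 5` the Sylow subgroup acts quadratically on the join. -/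
theorem quad_big (hp2 : p ≠ 2) (hp3 : p ≠ 3) {w x : G} (hw : w ∈ modW U) (hx : x ∈ S) :
    x * (x * w * x⁻¹ * w⁻¹) * x⁻¹ * (x * w * x⁻¹ * w⁻¹)⁻¹ ∈ baseC p S := by
  obtain ⟨ρ, ψ, ψ', D, D', hker⟩ := TwoData.natural X T
  have hprime : p.Prime := Fact.out
  haveI := X.hyp.charP
  have h2 : (2 : F) ≠ 0 := by
    intro h
    have h' : ((2 : ℕ) : F) = 0 := by exact_mod_cast h
    rw [CharP.cast_eq_zero_iff F p] at h'
    exact hp2 ((Nat.prime_dvd_prime_iff_eq hprime Nat.prime_two).1 h')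
  obtain ⟨h, hh⟩ := D.surj_rho (SL2Natural.tE 2)
  set π := QuotientGroup.mk' (baseC p S) with hπ
  have h1C : ∀ {g : G}, g ∈ baseC p S → π g = 1 := fun hg => (QuotientGroup.eq_one_iff _).2 hg
  have hWc : ∀ {u v : G}, u ∈ modW U → v ∈ Q → Commute (π u) (π v) := fun {u v} hu hv => by
    have := h1C (comm_WQ X T hu hv)
    rw [map_mul, map_mul, map_mul, map_inv, map_inv, mul_inv_eq_one, mul_inv_eq_iff_eq_mul] at this
    exact this
  let d : G → G := fun u => x * u * x⁻¹ * u⁻¹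
  let B : G → G := fun u => d (d u)
  have hdK : ∀ {u : G}, u ∈ modW U → d u ∈ modK U := fun hu => S_into X T hx hu
  have hdZ : ∀ {k : G}, k ∈ modK U → d k ∈ omegaZ p S := fun hk => S_fix_K X T hx hk
  have hdz : ∀ {z : G}, z ∈ omegaZ p S → d z = 1 := fun {z} hz => by
    show x * z * x⁻¹ * z⁻¹ = 1
    rw [hz.2.1 x hx, mul_inv_cancel_right, mul_inv_cancel]
  have hdmul : ∀ {u v : G}, u ∈ modW U → v ∈ modW U → π (d (u * v)) = π (d u) * π (d v) := by
    intro u v hu hv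
    have hc := hWc hu (W_le X T (hdK hv).1)
    calc π (d (u * v)) = π (x * u * x⁻¹) * π (d v) * (π u)⁻¹ := by
          simp only [d, map_mul, map_inv]; group
      _ = _ := by rw [mul_assoc, ← hc.inv_left.eq, ← mul_assoc, ← map_inv, ← map_mul]
  have hBmul : ∀ {u v : G}, u ∈ modW U → v ∈ modW U → π (B (u * v)) = π (B u) * π (B v) := by
    intro u v hu hv
    have e := hdmul hu hv
    rw [← hdmul (hdK hu).1 (hdK hv).1]
    show π (x * d (u * v) * x⁻¹ * (d (u * v))⁻¹) = π (x * (d u * d v) * x⁻¹ * (d u * d v)⁻¹)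
    simp only [map_mul, map_inv, e]
  have hB1 : ∀ {k : G}, k ∈ modK U → π (B k) = 1 := fun hk => by
    show π (d (d _)) = 1
    rw [hdz (hdZ hk), map_one]
  -- the action of the torus on the two ends
  have hconjK : ∀ {u : G}, u ∈ modW U → u⁻¹ * ((h * u * h⁻¹) * (h * u * h⁻¹)) ∈ modK U := fun {u} hu => by
    have hu' : h * u * h⁻¹ ∈ modW U := (modW_normal U).conj_mem u hu h
    have hinv : ψ' u⁻¹ = -ψ' u := by
      have e1 := D'.map_mul _ (inv_mem hu) _ hu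
      rw [inv_mul_cancel, (D'.ker 1 (one_mem _)).2 (one_mem _)] at e1
      exact eq_neg_of_add_eq_zero_left e1.symm
    rw [D'.line _ (mul_mem (inv_mem hu) (mul_mem hu' hu')), D'.map_mul _ (inv_mem hu) _ (mul_mem hu' hu'),
      D'.map_mul _ hu' _ hu', hinv, D'.act h u hu, hh, SL2Natural.tE_val h2]
    simp [Matrix.mulVec, dotProduct, Fin.sum_univ_two]
    field_simp
    ring
  have hconjZ : ∀ {z : G}, z ∈ omegaZ p S → π (h * z * h⁻¹) = π z ^ 2 := fun {z} hz => by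
    have hv := omegaZ_le_baseV hz
    have hz' : h * z * h⁻¹ ∈ baseV p S := (baseV_normal p S).conj_mem z hv h
    have h0 : ψ z 1 = 0 := (D.line z hv).1 hz
    have e1 : ψ (h * z * h⁻¹) = ψ (z * z) := by
      rw [D.act h z hv, D.map_mul z hv z hv, hh, SL2Natural.tE_val h2]
      ext i
      fin_cases i <;> simp [Matrix.mulVec, dotProduct, Fin.sum_univ_two, h0]
      ring
    have hm : h * z * h⁻¹ * (z * z)⁻¹ ∈ baseV p S := mul_mem hz' (inv_mem (mul_mem hv hv))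
    have e2 := D.map_mul _ hm _ (mul_mem hv hv)
    rw [inv_mul_cancel_right, e1, right_eq_add] at e2
    have e3 := h1C ((D.ker _ hm).1 e2)
    rw [map_mul, map_inv, mul_inv_eq_one] at e3
    rw [e3, map_mul, pow_two]
  obtain ⟨q, hq, hqe⟩ : ∃ q ∈ Q, h * x * h⁻¹ = (x * x) * (x * x) * q := by
    refine ⟨((x * x) * (x * x))⁻¹ * (h * x * h⁻¹), (hker _).1 ?_, (mul_inv_cancel_left _ _).symm⟩
    obtain ⟨c, hc⟩ := D.upper x hx
    simp only [map_mul, map_inv, hc, hh]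
    rw [SL2Natural.tE_up h2, mul_inv_cancel_right, up_mul, up_mul, up_inv, up_mul, ← up_zero]
    congr 1
    ring
  set w' := h * w * h⁻¹
  have hw' : w' ∈ modW U := (modW_normal U).conj_mem w hw h
  -- the double commutator of the fourth power
  have hx4 : π (h * B w * h⁻¹) = π (B w') ^ 16 := by
    have hu := hdK hw'
    have hb := hdZ hu
    set X₀ := π x
    set W₀ := π w'
    have a1 : X₀ * W₀ * X₀⁻¹ = π (d w') * W₀ := by simp [X₀, W₀, d, mul_assoc]
    have a2 : X₀ * π (d w') * X₀⁻¹ = π (B w') * π (d w') := by simp [X₀, B, d, mul_assoc]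
    have a3 : X₀ * π (B w') * X₀⁻¹ = π (B w') := by
      rw [← map_inv, ← map_mul, ← map_mul, show x * B w' * x⁻¹ = d (B w') * B w' by simp [d], hdz (show B w' ∈ omegaZ p S from hb), one_mul]
    have a4 : Commute (π (B w')) (π (d w')) :=
      hWc (V_le_W X T (omegaZ_le_baseV hb)) (W_le X T hu.1)
    obtain ⟨b1, b2, b3, b4⟩ := double_step a1 a2 a3 a4
    obtain ⟨c1, c2, -, -⟩ := double_step b1 b2 b3 b4
    set D4 := π (B w') ^ 4 * (π (B w') * π (d w') * π (d w')) * (π (B w') * π (d w') * π (d w'))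
    have hD4 : ∃ u ∈ modW U, π u = D4 := ⟨B w' ^ 4 * (B w' * d w' * d w') * (B w' * d w' * d w'),
      mul_mem (mul_mem (pow_mem (V_le_W X T (omegaZ_le_baseV hb)) 4)
        (mul_mem (mul_mem (V_le_W X T (omegaZ_le_baseV hb)) hu.1) hu.1))
        (mul_mem (mul_mem (V_le_W X T (omegaZ_le_baseV hb)) hu.1) hu.1), by simp [D4]⟩
    obtain ⟨u4, hu4, hu4e⟩ := hD4
    have hq1 : π q * W₀ * (π q)⁻¹ = W₀ := by rw [← (hWc hw' hq).eq, mul_inv_cancel_right]
    have hq2 : π q * D4 * (π q)⁻¹ = D4 := by rw [← hu4e, ← (hWc hu4 hq).eq, mul_inv_cancel_right]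
    set Z4 := (X₀ * X₀) * (X₀ * X₀)
    have hY : π (h * x * h⁻¹) = Z4 * π q := by rw [hqe]; simp [Z4, X₀]
    have e : π (h * B w * h⁻¹) = π (h * x * h⁻¹) * (π (h * x * h⁻¹) * W₀ * (π (h * x * h⁻¹))⁻¹ * W₀⁻¹) *
        (π (h * x * h⁻¹))⁻¹ * (π (h * x * h⁻¹) * W₀ * (π (h * x * h⁻¹))⁻¹ * W₀⁻¹)⁻¹ := by
      simp only [B, d, W₀, w', ← map_inv, ← map_mul]
      congr 1
      group
    have g1 : π (h * x * h⁻¹) * W₀ * (π (h * x * h⁻¹))⁻¹ * W₀⁻¹ = D4 := by
      rw [hY, show Z4 * π q * W₀ * (Z4 * π q)⁻¹ = Z4 * (π q * W₀ * (π q)⁻¹) * Z4⁻¹ by group, hq1, c1,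
        mul_inv_cancel_right]
    rw [e, g1, hY, show Z4 * π q * D4 * (Z4 * π q)⁻¹ = Z4 * (π q * D4 * (π q)⁻¹) * Z4⁻¹ by group, hq2, c2,
      mul_inv_cancel_right, ← pow_mul]
  have hbW : B w ∈ omegaZ p S := hdZ (hdK hw)
  have hsq : π (B w') ^ 2 = π (B w) := by
    have hk := hconjK hw
    have e := hBmul hw hk.1
    rw [mul_inv_cancel_left, hB1 hk, mul_one, hBmul hw' hw', ← pow_two] at e
    exact e
  have h6 : π (B w) ^ 6 = 1 := by
    rw [hconjZ hbW] at hx4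
    have e : π (B w) ^ 8 = π (B w) ^ 2 := by rw [hx4, ← hsq, ← pow_mul]
    calc π (B w) ^ 6 = π (B w) ^ 8 * (π (B w) ^ 2)⁻¹ := by group
      _ = _ := by rw [e, mul_inv_cancel]
  have hp' : π (B w) ^ p = 1 := by rw [← map_pow, hbW.2.2, map_one]
  have hcop : Nat.gcd 6 p = 1 := by
    rw [Nat.gcd_comm]
    refine hprime.coprime_iff_not_dvd.2 fun hd => ?_
    rcases hprime.dvd_mul.1 (show p ∣ 2 * 3 from hd) with h | h
    · exact hp2 ((Nat.prime_dvd_prime_iff_eq hprime Nat.prime_two).1 h)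
    · exact hp3 ((Nat.prime_dvd_prime_iff_eq hprime Nat.prime_three).1 h)
  exact (QuotientGroup.eq_one_iff _).1 (orderOf_eq_one_iff.1 (Nat.dvd_one.1
    (hcop ▸ Nat.dvd_gcd (orderOf_dvd_of_pow_eq_one h6) (orderOf_dvd_of_pow_eq_one hp')) : orderOf (π (B w)) = 1))

theorem quad (hp3 : p ≠ 3) {w x : G} (hw : w ∈ modW U) (hx : x ^ p = 1) :
    x * (x * w * x⁻¹ * w⁻¹) * x⁻¹ * (x * w * x⁻¹ * w⁻¹)⁻¹ ∈ baseC p S := by
  by_cases hp2 : p = 2
  · exact quad_two X T hp2 hw hx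
  obtain ⟨P, hP⟩ := X.hyp.setup.sylow
  have hxp : IsPGroup p (Subgroup.zpowers x) := by
    obtain ⟨i, -, hi⟩ := (Nat.dvd_prime_pow (Fact.out : p.Prime)).1
      (show orderOf x ∣ p ^ 1 by rw [pow_one]; exact orderOf_dvd_of_pow_eq_one hx)
    exact IsPGroup.of_card (n := i) (by rw [Nat.card_zpowers, hi])
  obtain ⟨R, hR⟩ := hxp.exists_le_sylow
  obtain ⟨g, hg⟩ := MulAction.exists_smul_eq G R P
  have hmem : g * x * g⁻¹ ∈ S := by
    rw [← hP, ← hg]
    exact ⟨x, hR (Subgroup.mem_zpowers x), rfl⟩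
  have h1 := (baseC_normal p S).conj_mem _
    (quad_big X T hp2 hp3 ((modW_normal U).conj_mem w hw g) hmem) g⁻¹
  convert h1 using 1
  group

end TwoData

end CfsgLib.PushingUpRankOne
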