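/-
The Sylow subgroup at critical distance two.
-/
import Cfsg.Agent.Lib.PushingUpRankOne.Quad

set_option autoImplicit false
set_option linter.unusedSectionVars false
set_option linter.style.haveILetI false

open Matrix CfsgLib.Perm.SL2Unipotent
open scoped MatrixGroups commutatorElement

namespace CfsgLib.PushingUpRankOne

open CfsgLib.LocalEvenB.PushingUp CfsgLib.LocalEvenB CfsgLib.LocalEven.PushingUpClosure

variable {G : Type*} [Group G] [Finite G] {p : ℕ} [Fact p.Prime] {F : Type*} [Field F] [Fintype F]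

section Abstract

variable {H : Type*} [Group H]

/-- In a group of exponent three an element commutes with its conjugates. -/
theorem comm_conj_of_three (h : ∀ z : H, z ^ 3 = 1) (x y : H) : Commute x (y * x * y⁻¹) := by
  have h3 : ∀ z : H, z * z = z⁻¹ := fun z => eq_inv_of_mul_eq_one_left (by rw [← h z, pow_succ, pow_two])
  have key : ∀ z : H, x * z * x = z⁻¹ * x⁻¹ * z⁻¹ := fun z => by
    have h1 : (x * z) * ((x * z) * (x * z)) = 1 := by rw [← h (x * z), pow_succ', pow_two]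
    have h2 := eq_inv_of_mul_eq_one_left h1
    calc x * z * x = x * z * (x * z) * z⁻¹ := by group
      _ = (x * z)⁻¹ * z⁻¹ := by rw [h3]
      _ = _ := by group
  show x * (y * x * y⁻¹) = y * x * y⁻¹ * x
  calc x * (y * x * y⁻¹) = (x * y * x) * y⁻¹ := by group
    _ = y⁻¹ * x⁻¹ * (y⁻¹ * y⁻¹) := by rw [key]; group
    _ = y⁻¹ * x⁻¹ * y := by rw [h3, inv_inv]
    _ = (y * y) * x⁻¹ * y := by rw [h3]
    _ = y * (x * y⁻¹ * x) := by rw [key, inv_inv]; group
    _ = _ := by group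

theorem double_comm_eq_one (h : ∀ z : H, z ^ 3 = 1) (x y : H) :
    x * (x * y * x⁻¹ * y⁻¹) * x⁻¹ * (x * y * x⁻¹ * y⁻¹)⁻¹ = 1 := by
  have c := (comm_conj_of_three h x y).inv_right
  rw [show (y * x * y⁻¹)⁻¹ = y * x⁻¹ * y⁻¹ by group] at c
  have c' : Commute x (x * y * x⁻¹ * y⁻¹) := by
    rw [show x * y * x⁻¹ * y⁻¹ = x * (y * x⁻¹ * y⁻¹) by group]
    exact (Commute.refl x).mul_right c
  rw [c'.eq, mul_inv_cancel_right, mul_inv_cancel]

end Abstract

namespace TwoData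

variable {S Q M U Y : Subgroup G} {a : G} {n : ℕ} {φ : G →* PSL2 F} (X : Pre p S Q M n φ)
  (T : TwoData p n S Q U Y a)
include X T

theorem C_pow {c : G} (hc : c ∈ baseC p S) : c ^ p = 1 := X.baseV_pow hc.1

/-- An element of order two acting as `-1`. -/
theorem exists_tau (hp : p = 3) {ρ : G →* SL(2, F)} (hs : Function.Surjective ρ)
    (hker : ∀ g, ρ g = 1 ↔ g ∈ Q) :
    ∃ τ : G, (orderOf τ).Coprime p ∧ τ * τ = 1 ∧ ∀ v : Fin 2 → F, (ρ τ).1 *ᵥ v = -v := by
  haveI := X.hyp.charP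
  have h2 : (-1 : F) ≠ 0 := neg_ne_zero.2 one_ne_zero
  obtain ⟨t, ht⟩ := hs (SL2Natural.tE (-1 : F))
  have hz2 : SL2Natural.tE (-1 : F) * SL2Natural.tE (-1 : F) = 1 := by
    rw [SL2Natural.tE_mul h2 h2]
    apply Subtype.ext
    rw [SL2Natural.tE_val (by simp), Matrix.SpecialLinearGroup.coe_one]
    ext i j
    fin_cases i <;> fin_cases j <;> simp
  obtain ⟨k, m, hm, e⟩ := Nat.exists_eq_pow_mul_and_not_dvd (orderOf_pos t).ne' p (Fact.out : p.Prime).ne_one
  have hcop : (orderOf (t ^ p ^ k)).Coprime p := by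
    refine Nat.Coprime.coprime_dvd_left (orderOf_dvd_of_pow_eq_one ?_)
      (((Fact.out : p.Prime).coprime_iff_not_dvd.2 hm).symm)
    rw [← pow_mul, ← e, pow_orderOf_eq_one]
  have hodd : Odd (p ^ k) := Odd.pow (by subst hp; decide)
  have hρ : ρ (t ^ p ^ k) = SL2Natural.tE (-1 : F) := by
    obtain ⟨j, hj⟩ := hodd
    rw [map_pow, ht, hj, pow_succ, pow_mul, pow_two, hz2, one_pow, one_mul]
  refine ⟨t ^ p ^ k, hcop, ?_, fun v => ?_⟩
  · have hQ : t ^ p ^ k * t ^ p ^ k ∈ Q := (hker _).1 (by rw [map_mul, hρ, hz2])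
    obtain ⟨i, hi⟩ := X.isPGroup_Q ⟨_, hQ⟩
    refine orderOf_eq_one_iff.1 (Nat.eq_one_of_dvd_coprimes (Nat.Coprime.pow_right i ?_) dvd_rfl
      (orderOf_dvd_of_pow_eq_one (by simpa using congrArg Subtype.val hi)))
    exact Nat.Coprime.coprime_dvd_left (by rw [← pow_two]; exact orderOf_pow_dvd 2) hcop
  · rw [hρ, SL2Natural.tE_val h2]
    ext i
    fin_cases i <;> simp [Matrix.mulVec, dotProduct, Fin.sum_univ_two]

/-- The elements of order prime to `p` centralise the Frattini subgroup of `Q`. -/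
theorem phi_fixed (hp : p = 3) (x : G) (hx : (orderOf x).Coprime p) :
    ∀ r ∈ HSubgroup.phi Q, x * r = r * x := by
  obtain ⟨ρ, ψ, ψ', D, D', hker⟩ := TwoData.natural X T
  obtain ⟨τ, hτc, hτ2, hτv⟩ := exists_tau X T hp D.surj_rho hker
  have hτi : τ⁻¹ = τ := inv_eq_of_mul_eq_one_right hτ2
  set π := QuotientGroup.mk' (baseC p S)
  have hWc : ∀ {u v : G}, u ∈ modW U → v ∈ Q → Commute (π u) (π v) := fun {u v} hu hv => by
    have h := (QuotientGroup.eq_one_iff (N := baseC p S) _).2 (comm_WQ X T hu hv)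
    change π (u * v * u⁻¹ * v⁻¹) = 1 at h
    rw [map_mul, map_mul, map_mul, map_inv, map_inv, mul_inv_eq_one, mul_inv_eq_iff_eq_mul] at h
    exact h
  -- a decomposition of `Q`
  have hdec : ∀ q ∈ Q, ∃ w ∈ modW U, ∃ r ∈ Q, Commute τ r ∧ q = w * r := by
    intro q hq
    obtain ⟨w, hwd⟩ : ∃ w, w = τ * q * τ⁻¹ * q⁻¹ := ⟨_, rfl⟩
    have hw : w ∈ modW U := hwd ▸ fixes_WQ X T τ hτc q hq
    have hconj : τ * w * τ⁻¹ = w⁻¹ := by
      rw [hwd]
      calc τ * (τ * q * τ⁻¹ * q⁻¹) * τ⁻¹ = (τ * τ) * q * τ⁻¹ * q⁻¹ * τ⁻¹ := by group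
        _ = q * τ * q⁻¹ * τ⁻¹ := by rw [hτ2, one_mul, hτi]
        _ = _ := by group
    obtain ⟨i, hi⟩ : ∃ i, orderOf w = p ^ i := by
      obtain ⟨i, hi⟩ := X.isPGroup_Q ⟨w, W_le X T hw⟩
      obtain ⟨j, -, hj⟩ := (Nat.dvd_prime_pow (Fact.out : p.Prime)).1
        (orderOf_dvd_of_pow_eq_one (show w ^ p ^ i = 1 by simpa using congrArg Subtype.val hi))
      exact ⟨j, hj⟩
    obtain ⟨j, hj⟩ : Odd (orderOf w) := hi ▸ Odd.pow (by subst hp; decide)
    refine ⟨(w ^ (j + 1))⁻¹, inv_mem (pow_mem hw _), w ^ (j + 1) * q, mul_mem (pow_mem (W_le X T hw) _) hq, ?_,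
      (inv_mul_cancel_left _ _).symm⟩
    have hk : w ^ (j + 1) * w ^ (j + 1) = w := by
      rw [← pow_add, show j + 1 + (j + 1) = 2 * j + 1 + 1 by ring, pow_succ, ← hj, pow_orderOf_eq_one, one_mul]
    refine mul_inv_eq_iff_eq_mul.1 ?_
    calc τ * (w ^ (j + 1) * q) * τ⁻¹ = (τ * w ^ (j + 1) * τ⁻¹) * (τ * q * τ⁻¹ * q⁻¹) * q := by group
      _ = (w ^ (j + 1))⁻¹ * (w ^ (j + 1) * w ^ (j + 1)) * q := by rw [← conj_pow, hconj, inv_pow, ← hwd, hk]
      _ = _ := by rw [inv_mul_cancel_left]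
  -- so `τ` centralises the Frattini subgroup
  have hphiτ : HSubgroup.phi Q ≤ Subgroup.centralizer {τ} := by
    have hC : baseC p S ≤ Subgroup.centralizer {τ} := fun c hc =>
      Subgroup.mem_centralizer_singleton_iff.2 (C_cent X T hc τ).symm
    have hfix : ∀ {g r : G}, π g = π r → Commute τ r → g ∈ Subgroup.centralizer {τ} := fun {g r} he hr => by
      have h1 : r⁻¹ * g ∈ baseC p S := QuotientGroup.eq.1 he.symm
      have h2 := mul_mem (Subgroup.mem_centralizer_singleton_iff.2 hr.eq.symm : r ∈ Subgroup.centralizer {τ}) (hC h1)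
      rwa [mul_inv_cancel_left] at h2
    refine phi_le_of X.isPGroup_Q (fun q hq => ?_) (fun q hq q' hq' => ?_)
    · obtain ⟨w, hw, r, hr, hrτ, rfl⟩ := hdec q hq
      refine hfix (r := r ^ p) ?_ (hrτ.pow_right p)
      rw [map_pow, map_mul, (hWc hw hr).mul_pow, ← map_pow π w,
        show π (w ^ p) = 1 from (QuotientGroup.eq_one_iff _).2 (W_pow X T hw), one_mul, map_pow]
    · obtain ⟨w, hw, r, hr, hrτ, rfl⟩ := hdec q hq
      obtain ⟨w', hw', r', hr', hrτ', rfl⟩ := hdec q' hq'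
      refine hfix (r := ⁅r, r'⁆) ?_ ?_
      · rw [map_commutatorElement, map_commutatorElement, map_mul, map_mul]
        have a1 : Commute (π w) (π w') := hWc hw (W_le X T hw')
        have a2 : Commute (π w) (π r') := hWc hw hr'
        have a3 : Commute (π w') (π r) := hWc hw' hr
        have a4 : Commute (π w) (π r) := hWc hw hr
        have a5 : Commute (π w') (π r') := hWc hw' hr'
        simp only [commutatorElement_def]
        calc π w * π r * (π w' * π r') * (π w * π r)⁻¹ * (π w' * π r')⁻¹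
            = π w * (π r * π w') * π r' * (π r)⁻¹ * (π w)⁻¹ * (π r')⁻¹ * (π w')⁻¹ := by group
          _ = π w * π w' * (π r * π r' * (π r)⁻¹) * ((π w)⁻¹ * (π r')⁻¹) * (π w')⁻¹ := by
              rw [a3.symm.eq]; group
          _ = π w * π w' * (π r * π r' * (π r)⁻¹ * (π r')⁻¹) * (π w * 1)⁻¹ * (π w')⁻¹ := by
              rw [a2.inv_inv.eq]; group
          _ = (π w * π w') * (π r * π r' * (π r)⁻¹ * (π r')⁻¹) * (π w' * π w)⁻¹ := by group
          _ = (π w * π w') * (π r * π r' * (π r)⁻¹ * (π r')⁻¹) * (π w * π w')⁻¹ := by rw [a1.eq]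
          _ = _ := by
              have a6 : Commute (π w * π w') (π r * π r' * (π r)⁻¹ * (π r')⁻¹) :=
                ((((a4.mul_left a3).mul_right (a2.mul_left a5)).mul_right (a4.mul_left a3).inv_right).mul_right
                  (a2.mul_left a5).inv_right)
              rw [a6.eq, mul_inv_cancel_right]
      · simp only [commutatorElement_def]
        exact ((hrτ.mul_right hrτ').mul_right hrτ.inv_right).mul_right hrτ'.inv_right
  intro r hr
  haveI := X.phi_normal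
  have hrQ : r ∈ Q := HSubgroup.phi_le Q hr
  obtain ⟨s, hs⟩ : ∃ s, s = x * r * x⁻¹ * r⁻¹ := ⟨_, rfl⟩
  have hsphi : s ∈ HSubgroup.phi Q := hs ▸ mul_mem (X.phi_normal.conj_mem r hr x) (inv_mem hr)
  have hτs : ∀ {g : G}, g ∈ HSubgroup.phi Q → τ * g * τ⁻¹ = g := fun {g} hg => by
    rw [← Subgroup.mem_centralizer_singleton_iff.1 (hphiτ hg), mul_inv_cancel_right]
  have hval : ∀ {g : G}, ψ' (τ * g * τ⁻¹) = ψ' g → g ∈ modW U → g ∈ modE p S U := fun {g} he hg => by
    rw [D'.act τ g hg, hτv] at he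
    refine (D'.ker g hg).1 (funext fun i => ?_)
    have hi := congrFun he i
    have h2 : (2 : F) ≠ 0 := by
      intro h
      haveI := X.hyp.charP
      have h' : ((2 : ℕ) : F) = 0 := by exact_mod_cast h
      rw [CharP.cast_eq_zero_iff F p, hp] at h'
      norm_num at h'
    simp only [Pi.neg_apply] at hi
    exact (mul_eq_zero.1 (show (2 : F) * ψ' g i = 0 by linear_combination -hi)).resolve_left h2
  have hsW : s ∈ modW U := hs ▸ fixes_WQ X T x hx r hrQ
  have hsE : s ∈ modE p S U := hval (by rw [hτs hsphi]) hsW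
  have hxs : x * s * x⁻¹ * s⁻¹ ∈ baseC p S := by
    have hV : x * s * x⁻¹ * s⁻¹ ∈ baseV p S := hsE.2 x
    have hphi : x * s * x⁻¹ * s⁻¹ ∈ HSubgroup.phi Q :=
      mul_mem (X.phi_normal.conj_mem s hsphi x) (inv_mem hsphi)
    have he := hτs hphi
    set g := x * s * x⁻¹ * s⁻¹
    have he' := congrArg ψ he
    rw [D.act τ g hV, hτv] at he'
    refine (D.ker g hV).1 (funext fun i => ?_)
    have hi := congrFun he' i
    have h2 : (2 : F) ≠ 0 := by
      intro h
      haveI := X.hyp.charP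
      have h' : ((2 : ℕ) : F) = 0 := by exact_mod_cast h
      rw [CharP.cast_eq_zero_iff F p, hp] at h'
      norm_num at h'
    simp only [Pi.neg_apply] at hi
    exact (mul_eq_zero.1 (show (2 : F) * ψ g i = 0 by linear_combination -hi)).resolve_left h2
  have h1 : x * s * x⁻¹ * s⁻¹ ∈ (⊥ : Subgroup G) := X.coprime_step inferInstance hx (W_le X T hsW) (by
    rw [Subgroup.mem_bot, C_cent X T hxs x, mul_inv_cancel_right, mul_inv_cancel])
  rw [hs] at h1
  have h2 := X.coprime_step inferInstance hx hrQ h1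
  rw [Subgroup.mem_bot, mul_inv_eq_one, mul_inv_eq_iff_eq_mul] at h2
  exact h2

theorem comm_YQ {y q : G} (hy : y ∈ Y) (hq : q ∈ Q) : y * q * y⁻¹ * q⁻¹ ∈ modK U := by
  obtain ⟨v, hv, r, hr, hru, rfl⟩ := T.cover q hq
  obtain ⟨x, hx⟩ : ∃ x, x = a * v * a⁻¹ := ⟨_, rfl⟩
  have hxW : x ∈ modW U := hx ▸ U'_le_W X T hv
  rw [← hx, show y * (x * r) * y⁻¹ * (x * r)⁻¹ = (y * x * y⁻¹ * x⁻¹) * (x * (y * r * y⁻¹ * r⁻¹) * x⁻¹) by group]
  exact mul_mem (S_into X T (T.far_le hy) hxW) (E_le_K X T (V_le_E X T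
    ((baseV_normal p S).conj_mem _ (omegaZ_le_baseV (T.far_into y hy r hr hru)) x)))

/-- Commutators of the Sylow subgroup modulo the Frattini subgroup of `Q`. -/
theorem lcs_one_le : S.lowerCentralSeries 1 ≤ modK U ⊔ HSubgroup.phi Q := by
  haveI := X.phi_normal
  set π := QuotientGroup.mk' (HSubgroup.phi Q)
  have key : ∀ {g : G} {R : Subgroup G}, π g ∈ R.map π → g ∈ R ⊔ HSubgroup.phi Q := fun {g R} h => by
    obtain ⟨r, hr, he⟩ := h
    have := mul_mem (Subgroup.mem_sup_left hr) (Subgroup.mem_sup_right (QuotientGroup.eq.1 he) :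
      r⁻¹ * g ∈ R ⊔ HSubgroup.phi Q)
    rwa [mul_inv_cancel_left] at this
  rw [Subgroup.lowerCentralSeries_succ, Subgroup.lowerCentralSeries_zero]
  refine Subgroup.commutator_le.2 fun s hs t ht => ?_
  obtain ⟨y, hy, q, hq, rfl⟩ := T.far_gen s hs
  obtain ⟨y', hy', q', hq', rfl⟩ := T.far_gen t ht
  apply key
  have cqq : Commute (π q) (π q') := by
    have := (QuotientGroup.eq_one_iff (N := HSubgroup.phi Q) _).2 (HSubgroup.comm_mem_phi X.isPGroup_Q hq hq')
    change π ⁅q, q'⁆ = 1 at this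
    rw [map_commutatorElement] at this
    exact commutatorElement_eq_one_iff_commute.1 this
  have cyy : Commute (π y) (π y') := (show Commute y y' from T.far_comm y hy y' hy').map π
  have hm : ∀ {k : G}, k ∈ modK U → π k ∈ (modK U).map π := fun hk => ⟨_, hk, rfl⟩
  have e1 := hm (comm_YQ X T hy hq')
  have e2 := hm (comm_YQ X T hy' hq)
  -- `K` is normalised by `S`
  have hnorm : ∀ {g : G}, g ∈ S → ∀ {k : G}, π k ∈ (modK U).map π → π g * π k * (π g)⁻¹ ∈ (modK U).map π := by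
    rintro g hg k ⟨k₀, hk₀, he⟩
    rw [← he, ← map_inv, ← map_mul, ← map_mul]
    refine hm ?_
    have h' := mul_mem (E_le_K X T (Z_le_E X T (S_fix_K X T hg hk₀))) hk₀
    rwa [inv_mul_cancel_right] at h'
  rw [map_commutatorElement, map_mul, map_mul, commutatorElement_def]
  have e : π y * π q * (π y' * π q') * (π y * π q)⁻¹ * (π y' * π q')⁻¹ =
      (π y * π (y' * q * y'⁻¹ * q⁻¹)⁻¹ * (π y)⁻¹) * (π y' * π (y * q' * y⁻¹ * q'⁻¹) * (π y')⁻¹) := by
    simp only [map_mul, map_inv]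
    calc π y * π q * (π y' * π q') * (π y * π q)⁻¹ * (π y' * π q')⁻¹
        = π y * π q * π y' * (π q' * (π q)⁻¹) * (π y)⁻¹ * (π q')⁻¹ * (π y')⁻¹ := by group
      _ = π y * π q * π y' * ((π q)⁻¹ * π q') * (π y)⁻¹ * (π q')⁻¹ * (π y')⁻¹ := by rw [cqq.inv_left.eq]
      _ = π y * π q * π y' * (π q)⁻¹ * ((π y')⁻¹ * (π y)⁻¹ * (π y' * π y)) * π q' * (π y)⁻¹ * (π q')⁻¹ *
          (π y')⁻¹ := by
        rw [show (π y')⁻¹ * (π y)⁻¹ * (π y' * π y) = 1 by rw [cyy.symm.eq]; group]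
        group
      _ = _ := by group
  rw [e]
  refine mul_mem (hnorm (T.far_le hy) (by rw [map_inv]; exact inv_mem e2)) (hnorm (T.far_le hy') e1)

theorem lcs_two_le : S.lowerCentralSeries 2 ≤ omegaZ p S ⊔ HSubgroup.phi Q := by
  haveI := X.phi_normal
  have h1 := lcs_one_le X T
  rw [Subgroup.lowerCentralSeries_succ]
  refine (Subgroup.commutator_mono h1 le_rfl).trans (Subgroup.commutator_le.2 fun g hg t ht => ?_)
  obtain ⟨k, hk, r, hr, rfl⟩ := Subgroup.mem_sup_of_normal_right.1 hg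
  have e : ⁅k * r, t⁆ = (k * (r * (t * r⁻¹ * t⁻¹)) * k⁻¹) * (t * k * t⁻¹ * k⁻¹)⁻¹ := by
    rw [commutatorElement_def]; group
  rw [e]
  exact mul_mem (Subgroup.mem_sup_right (X.phi_normal.conj_mem _
    (mul_mem hr (X.phi_normal.conj_mem _ (inv_mem hr) t)) k))
    (Subgroup.mem_sup_left (inv_mem (S_fix_K X T ht hk)))

theorem lcs_three_le : S.lowerCentralSeries 3 ≤ HSubgroup.phi Q := by
  haveI := X.phi_normal
  have h2 := lcs_two_le X T
  rw [Subgroup.lowerCentralSeries_succ]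
  refine (Subgroup.commutator_mono h2 le_rfl).trans (Subgroup.commutator_le.2 fun g hg t ht => ?_)
  obtain ⟨z, hz, r, hr, rfl⟩ := Subgroup.mem_sup_of_normal_right.1 hg
  have htz : Commute t z := hz.2.1 t ht
  rw [commutatorElement_def, show z * r * t * (z * r)⁻¹ * t⁻¹ = z * (r * t * r⁻¹) * (z⁻¹ * t⁻¹) by group,
    htz.inv_inv.symm.eq, show z * (r * t * r⁻¹) * (t⁻¹ * z⁻¹) = z * (r * (t * r⁻¹ * t⁻¹)) * z⁻¹ by group]
  exact X.phi_normal.conj_mem _ (mul_mem hr (X.phi_normal.conj_mem _ (inv_mem hr) t)) z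

/-- Cubes modulo the Frattini subgroup of `Q`. -/
theorem cube_mem (hp : p = 3) : ∀ s ∈ S, s ^ 3 ∈ omegaZ p S ⊔ HSubgroup.phi Q := by
  subst hp
  haveI := X.phi_normal
  set π := QuotientGroup.mk' (HSubgroup.phi Q)
  intro s hs
  obtain ⟨y, hy, q, hq, rfl⟩ := T.far_gen s hs
  obtain ⟨d, hdd⟩ : ∃ d, d = y * q * y⁻¹ * q⁻¹ := ⟨_, rfl⟩
  have hd : d ∈ modK U := hdd ▸ comm_YQ X T hy hq
  obtain ⟨z, hzd⟩ : ∃ z, z = y * d * y⁻¹ * d⁻¹ := ⟨_, rfl⟩
  have hz : z ∈ omegaZ 3 S := hzd ▸ S_fix_K X T (T.far_le hy) hd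
  have hdQ : d ∈ Q := W_le X T hd.1
  have hzQ : z ∈ Q := X.omegaZ_le_Q hz
  have hcomm : ∀ {u v : G}, u ∈ Q → v ∈ Q → Commute (π u) (π v) := fun {u v} hu hv => by
    have h := (QuotientGroup.eq_one_iff (N := HSubgroup.phi Q) _).2 (HSubgroup.comm_mem_phi X.isPGroup_Q hu hv)
    change π ⁅u, v⁆ = 1 at h
    rw [map_commutatorElement] at h
    exact commutatorElement_eq_one_iff_commute.1 h
  have hcube : ∀ {u : G}, u ∈ Q → π u ^ 3 = 1 := fun {u} hu => by
    rw [← map_pow]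
    exact (QuotientGroup.eq_one_iff _).2 (HSubgroup.pow_mem_phi X.isPGroup_Q hu)
  have hy3 : π y * (π y * π y) = 1 := by
    rw [← map_mul, ← map_mul, ← pow_two, ← pow_succ', T.far_pow y hy, map_one]
  have eq1 : π y * π q * (π y)⁻¹ = π d * π q := by rw [hdd]; simp [mul_assoc]
  have ed : π y * π d * (π y)⁻¹ = π z * π d := by rw [hzd]; simp [mul_assoc]
  have eq2 : π y * π y * π q * (π y * π y)⁻¹ = π z * π d * (π d * π q) := by
    calc π y * π y * π q * (π y * π y)⁻¹ = π y * (π y * π q * (π y)⁻¹) * (π y)⁻¹ := by group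
      _ = π y * (π d * π q) * (π y)⁻¹ := by rw [eq1]
      _ = (π y * π d * (π y)⁻¹) * (π y * π q * (π y)⁻¹) := by group
      _ = _ := by rw [ed, eq1]
  have e : π ((y * q) ^ 3) = π z := by
    rw [map_pow, map_mul]
    calc (π y * π q) ^ 3 = (π y * π q * (π y)⁻¹) * (π y * π y * π q * (π y * π y)⁻¹) *
          (π y * (π y * π y)) * π q := by rw [pow_succ, pow_two]; group
      _ = (π d * π q) * (π z * π d * (π d * π q)) * π q := by rw [eq1, eq2, hy3, mul_one]
      _ = (π d * π q) * π z * (π d * π d * π q * π q) := by group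
      _ = π z * (π d * π q) * (π d * π d * π q * π q) := by
          rw [((hcomm hdQ hzQ).mul_left (hcomm hq hzQ)).eq]
      _ = π z * π d * (π q * (π d * π d)) * π q * π q := by group
      _ = π z * π d * ((π d * π d) * π q) * π q * π q := by
          rw [((hcomm hq hdQ).mul_right (hcomm hq hdQ)).eq]
      _ = π z * π d ^ 3 * π q ^ 3 := by simp [pow_succ, mul_assoc]
      _ = _ := by rw [hcube hdQ, hcube hq, mul_one, mul_one]
  have h := mul_mem (Subgroup.mem_sup_left hz) (Subgroup.mem_sup_right (QuotientGroup.eq.1 e.symm) :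
    z⁻¹ * (y * q) ^ 3 ∈ omegaZ 3 S ⊔ HSubgroup.phi Q)
  rwa [mul_inv_cancel_left] at h

end TwoData

namespace TwoData

variable {S Q M U Y : Subgroup G} {a : G} {n : ℕ} {φ : G →* PSL2 F} (X : Ctx p S Q M n φ)
  (T : TwoData p n S Q U Y a)
include X T

/-- The class of the Sylow subgroup is three. -/
theorem class_three (hp : p = 3) : S.lowerCentralSeries 3 = ⊥ ∧ S.lowerCentralSeries 2 ≠ ⊥ := by
  haveI := X.phi_normal
  have h3 := lcs_three_le X.pre T
  refine ⟨?_, ?_⟩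
  · have h4 : (⊤ : Subgroup ↥S).lowerCentralSeries 3 = ⊥ := by
      refine X.eq_bot_of_char inferInstance ?_ (phi_fixed X.pre T hp)
      rwa [Subgroup.map_lowerCentralSeries, ← MonoidHom.range_eq_map, Subgroup.range_subtype]
    have := congrArg (Subgroup.map S.subtype) h4
    rwa [Subgroup.map_lowerCentralSeries, ← MonoidHom.range_eq_map, Subgroup.range_subtype, Subgroup.map_bot] at this
  · intro hbot
    obtain ⟨y, hy, u, hu, v, hv, hne, e, -, hd, hdd⟩ := TwoData.witness X.pre T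
    obtain ⟨x, hxe⟩ : ∃ x, x = a * v * a⁻¹ := ⟨_, rfl⟩
    rw [← hxe] at hne hd hdd
    have hxS : x ∈ S := hxe ▸ X.hyp.setup.le (W_le X.pre T (U'_le_W X.pre T hv))
    have m1 : ⁅x, y⁆ ∈ S.lowerCentralSeries 1 := by
      rw [Subgroup.lowerCentralSeries_succ, Subgroup.lowerCentralSeries_zero]
      exact Subgroup.commutator_mem_commutator hxS (T.far_le hy)
    have m2 : ⁅⁅x, y⁆, x⁆ ∈ S.lowerCentralSeries 2 := by
      rw [Subgroup.lowerCentralSeries_succ S 1]
      exact Subgroup.commutator_mem_commutator m1 hxS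
    rw [hbot, Subgroup.mem_bot, commutatorElement_eq_one_iff_commute, commutatorElement_def, hd] at m2
    rw [m2.symm.eq, mul_inv_cancel_right, mul_inv_cancel] at hdd
    apply hne
    have := hdd.symm
    rw [mul_inv_eq_one, mul_inv_eq_iff_eq_mul] at this
    exact this.symm

/-- The exponent of the Sylow subgroup is nine. -/
theorem exponent_eq (hp : p = 3) : Monoid.exponent ↥S = 9 := by
  subst hp
  haveI := X.phi_normal
  have h3 := cube_mem X.pre T rfl
  -- the ninth powers are trivial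
  let P9 : Subgroup ↥S := Subgroup.closure (Set.range fun s : ↥S => s ^ 9)
  have hchar : P9.Characteristic := characteristic_of_forall fun f x hx => by
    induction hx using Subgroup.closure_induction with
    | mem y hy =>
      obtain ⟨s, rfl⟩ := hy
      rw [map_pow]
      exact Subgroup.subset_closure ⟨f s, rfl⟩
    | one => rw [map_one]; exact one_mem _
    | mul a b _ _ ha hb => rw [map_mul]; exact mul_mem ha hb
    | inv a _ ha => rw [map_inv]; exact inv_mem ha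
  have hle : P9.map S.subtype ≤ HSubgroup.phi Q := by
    rw [Subgroup.map_le_iff_le_comap, Subgroup.closure_le]
    rintro _ ⟨⟨s, hs⟩, rfl⟩
    show s ^ 9 ∈ HSubgroup.phi Q
    obtain ⟨z, hz, r, hr, he⟩ := Subgroup.mem_sup_of_normal_right.1 (h3 s hs)
    have hzr : Commute z r := (hz.2.1 r (X.hyp.setup.le (HSubgroup.phi_le Q hr))).symm
    rw [show (9 : ℕ) = 3 * 3 from rfl, pow_mul, ← he, hzr.mul_pow, hz.2.2, one_mul]
    exact pow_mem hr 3
  have hbot := X.eq_bot_of_char hchar hle (phi_fixed X.pre T rfl)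
  have hd : Monoid.exponent ↥S ∣ 3 ^ 2 := Monoid.exponent_dvd_of_forall_pow_eq_one fun s => by
    have : s ^ 9 ∈ P9 := Subgroup.subset_closure ⟨s, rfl⟩
    rwa [hbot, Subgroup.mem_bot] at this
  obtain ⟨k, hk, e⟩ := (Nat.dvd_prime_pow (Fact.out : Nat.Prime 3)).1 hd
  rcases (show k ≤ 1 ∨ k = 2 by omega) with hk1 | rfl
  swap
  · exact e
  exfalso
  have h33 : ∀ s : ↥S, s ^ 3 = 1 := fun s =>
    orderOf_dvd_iff_pow_eq_one.1 ((Monoid.order_dvd_exponent s).trans
      (by rw [e]; exact (pow_dvd_pow 3 hk1).trans (by norm_num)))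
  obtain ⟨y, hy, u, hu, v, hv, hne, ee, -, hd', hdd⟩ := TwoData.witness X.pre T
  obtain ⟨x, hxe⟩ : ∃ x, x = a * v * a⁻¹ := ⟨_, rfl⟩
  rw [← hxe] at hne hd' hdd
  have hxS : x ∈ S := hxe ▸ X.hyp.setup.le (W_le X.pre T (U'_le_W X.pre T hv))
  have := congrArg Subtype.val (double_comm_eq_one h33 ⟨x, hxS⟩ ⟨y, T.far_le hy⟩)
  simp only [Subgroup.coe_mul, Subgroup.coe_inv, OneMemClass.coe_one] at this
  rw [hd', hdd, mul_inv_eq_one, mul_inv_eq_iff_eq_mul] at this
  exact hne this.symm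

end TwoData

end CfsgLib.PushingUpRankOne
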