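/-
The element inverting the natural module at critical distance one, `p` odd.
-/
import Cfsg.Agent.Lib.PushingUpRankOne.Main

set_option autoImplicit false
set_option linter.unusedSectionVars false
set_option linter.style.haveILetI false

open Matrix CfsgLib.Perm.SL2Unipotent
open scoped MatrixGroups commutatorElement

namespace CfsgLib.PushingUpRankOne

open CfsgLib.LocalEvenB.PushingUp CfsgLib.LocalEvenB

variable {G : Type*} [Group G] [Finite G] {p : ℕ} [Fact p.Prime] {F : Type*} [Field F] [Fintype F]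

theorem prime_odd (hp : 5 ≤ p) : Odd p := (Fact.out : p.Prime).odd_of_ne_two (by omega)

namespace Ctx

variable {S Q M : Subgroup G} {n : ℕ} {φ : G →* PSL2 F} (X : Ctx p S Q M n φ)
include X

theorem two_ne_zero' (hp : p ≠ 2) : (2 : F) ≠ 0 := by
  intro h
  haveI := X.hyp.charP
  have h' : ((2 : ℕ) : F) = 0 := by exact_mod_cast h
  rw [CharP.cast_eq_zero_iff F p] at h'
  exact hp ((Nat.prime_dvd_prime_iff_eq Fact.out Nat.prime_two).1 h')

/-- Lifting an element of order prime to `p` to one of order prime to `p`, keeping it in a subgroup. -/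
theorem exists_coprime_lift {ρ : G →* SL(2, F)} {R : Subgroup G} {g : G} (hg : g ∈ R)
    (hz : (orderOf (ρ g)).Coprime p) : ∃ x ∈ R, (orderOf x).Coprime p ∧ ρ x = ρ g := by
  obtain ⟨k, m, hm, e⟩ := Nat.exists_eq_pow_mul_and_not_dvd (orderOf_pos g).ne' p (Fact.out : p.Prime).ne_one
  have hcop : (orderOf (g ^ p ^ k)).Coprime p := by
    refine Nat.Coprime.coprime_dvd_left (orderOf_dvd_of_pow_eq_one ?_)
      (((Fact.out : p.Prime).coprime_iff_not_dvd.2 hm).symm)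
    rw [← pow_mul, ← e, pow_orderOf_eq_one]
  obtain ⟨j, hj⟩ := exists_pow_eq_self_of_coprime (show (p ^ k).Coprime (orderOf (ρ g)) from (hz.pow_right k).symm)
  exact ⟨(g ^ p ^ k) ^ j, pow_mem (pow_mem hg _) j, Nat.Coprime.coprime_dvd_left (orderOf_pow_dvd j) hcop,
    by rw [map_pow, map_pow, hj]⟩

theorem tE_pow {a : F} (ha : a ≠ 0) : ∀ k : ℕ, SL2Natural.tE a ^ k = SL2Natural.tE (a ^ k) := by
  intro k
  induction k with
  | zero =>
    rw [pow_zero, pow_zero]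
    apply Subtype.ext
    rw [SL2Natural.tE_val one_ne_zero]
    ext i j
    fin_cases i <;> fin_cases j <;> simp
  | succ k ih => rw [pow_succ, ih, SL2Natural.tE_mul (pow_ne_zero _ ha) ha, pow_succ]

theorem tE_coprime {a : F} (ha : a ≠ 0) : (orderOf (SL2Natural.tE a)).Coprime p := by
  refine Nat.Coprime.coprime_dvd_left (orderOf_dvd_of_pow_eq_one (n := Fintype.card F - 1) ?_) ?_
  · rw [X.tE_pow ha, FiniteField.pow_card_sub_one_eq_one a ha, ← pow_zero a, ← X.tE_pow ha, pow_zero]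
  · rw [X.hyp.card, Nat.coprime_comm, (Fact.out : p.Prime).coprime_iff_not_dvd]
    intro h
    have h0 : n ≠ 0 := by have := X.hyp.one_le; omega
    have h1 := Nat.dvd_sub (dvd_pow_self p h0) h
    rw [Nat.sub_sub_self (Nat.one_le_pow _ _ (Fact.out : p.Prime).pos)] at h1
    exact (Fact.out : p.Prime).not_dvd_one h1

/-- Elements of order prime to `p` inside a subgroup covering `SL₂` generate `SL₂`. -/
theorem coprime_image_top (hp : 5 ≤ p) {ρ : G →* SL(2, F)} {R : Subgroup G} (hR : ∀ z, ∃ g ∈ R, ρ g = z) :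
    (Subgroup.closure {x : G | x ∈ R ∧ (orderOf x).Coprime p}).map ρ = ⊤ := by
  set L := Subgroup.closure {x : G | x ∈ R ∧ (orderOf x).Coprime p}
  have h2 := X.two_ne_zero' (by omega : p ≠ 2)
  have hmem : ∀ z : SL(2, F), (orderOf z).Coprime p → z ∈ L.map ρ := fun z hz => by
    obtain ⟨g, hg, rfl⟩ := hR z
    obtain ⟨x, hx, hxc, he⟩ := X.exists_coprime_lift hg hz
    exact ⟨x, Subgroup.subset_closure ⟨hx, hxc⟩, he⟩
  have hconj : ∀ z : SL(2, F), ∀ w ∈ L.map ρ, z * w * z⁻¹ ∈ L.map ρ := by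
    rintro z _ ⟨w, hw, rfl⟩
    obtain ⟨g, hg, rfl⟩ := hR z
    refine ⟨g * w * g⁻¹, ?_, by simp⟩
    have : L ≤ L.comap (MulAut.conj g).toMonoidHom := (Subgroup.closure_le _).2 fun x hx =>
      Subgroup.subset_closure ⟨mul_mem (mul_mem hg hx.1) (inv_mem hg), by
        rw [show (orderOf ((MulAut.conj g).toMonoidHom x)) = orderOf x from MulEquiv.orderOf_eq _ _]; exact hx.2⟩
    exact this hw
  have hsq : (2 : F) ^ 2 - 1 ≠ 0 := by
    intro h
    haveI := X.hyp.charP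
    have h' : ((3 : ℕ) : F) = 0 := by push_cast; linear_combination h
    rw [CharP.cast_eq_zero_iff F p] at h'
    have := Nat.le_of_dvd (by norm_num) h'
    omega
  have htE : SL2Natural.tE (2 : F) ∈ L.map ρ := hmem _ (X.tE_coprime h2)
  have hup : ∀ x : F, up x ∈ L.map ρ := by
    intro x
    have h1 := mul_mem htE (hconj (up (x / ((2 : F) ^ 2 - 1))) _ (inv_mem htE))
    rw [show SL2Natural.tE (2 : F) * (up (x / ((2 : F) ^ 2 - 1)) * (SL2Natural.tE (2 : F))⁻¹ *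
        (up (x / ((2 : F) ^ 2 - 1)))⁻¹) =
      (SL2Natural.tE (2 : F) * up (x / ((2 : F) ^ 2 - 1))) * (SL2Natural.tE (2 : F))⁻¹ *
        (up (x / ((2 : F) ^ 2 - 1)))⁻¹ by group,
      SL2Natural.tE_up h2, mul_inv_cancel_right, up_inv, up_mul] at h1
    convert h1 using 2
    rw [eq_comm, ← sub_eq_add_neg, show (2 : F) ^ 2 * (x / ((2 : F) ^ 2 - 1)) - x / ((2 : F) ^ 2 - 1) =
      ((2 : F) ^ 2 - 1) * (x / ((2 : F) ^ 2 - 1)) by ring, mul_div_cancel₀ x hsq]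
  refine eq_top_iff.2 fun z _ => ?_
  refine SL2Natural.sl_induction (P := fun z => z ∈ L.map ρ) (one_mem _) (fun _ _ => mul_mem) hup (fun x => ?_) z
  rw [SL2Natural.low_eq]
  exact hconj _ _ (hup _)

end Ctx

/-- The data of an inverting element. -/
structure Inverter (p : ℕ) (S Q : Subgroup G) (ρ : G →* SL(2, F)) (τ : G) : Prop where
  sq : τ * τ = 1
  coprime : (orderOf τ).Coprime p
  neg : ∀ v : Fin 2 → F, (ρ τ).1 *ᵥ v = -v
  decomp : ∀ q ∈ Q, ∃ v ∈ baseV p S, τ * v * τ⁻¹ = v⁻¹ ∧ ∃ r ∈ Q, τ * r = r * τ ∧ q = v * r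

theorem exists_inverter {S Q M U : Subgroup G} {n : ℕ} {φ : G →* PSL2 F} (X : Ctx p S Q M n φ)
    (D : OneData p S Q U) (hp : 5 ≤ p) {ρ : G →* SL(2, F)} {ψ : G → Fin 2 → F}
    (N : NaturalMap S φ ρ (baseV p S) (omegaZ p S) (baseC p S) ψ) (hker : ∀ g, ρ g = 1 ↔ g ∈ Q) :
    ∃ τ : G, Inverter p S Q ρ τ := by
  have h1 : (-1 : F) ≠ 0 := neg_ne_zero.2 one_ne_zero
  obtain ⟨t, ht⟩ := N.surj_rho (SL2Natural.tE (-1 : F))
  obtain ⟨τ, -, hcop, hρ⟩ := X.exists_coprime_lift (Subgroup.mem_top t) (ht ▸ X.tE_coprime h1)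
  rw [ht] at hρ
  have hval : (ρ τ).1 = -1 := by
    rw [hρ, SL2Natural.tE_val h1]
    ext i j
    fin_cases i <;> fin_cases j <;> simp
  have hsq : τ * τ = 1 := by
    have hQ : τ * τ ∈ Q := (hker _).1 (by
      apply Subtype.ext
      rw [map_mul, Matrix.SpecialLinearGroup.coe_mul, hval, Matrix.SpecialLinearGroup.coe_one]; simp)
    obtain ⟨i, hi⟩ := X.isPGroup_Q ⟨_, hQ⟩
    refine orderOf_eq_one_iff.1 (Nat.eq_one_of_dvd_coprimes (Nat.Coprime.pow_right i ?_) dvd_rfl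
      (orderOf_dvd_of_pow_eq_one (by simpa using congrArg Subtype.val hi)))
    exact Nat.Coprime.coprime_dvd_left (by rw [← pow_two]; exact orderOf_pow_dvd 2) hcop
  have hτi : τ⁻¹ = τ := inv_eq_of_mul_eq_one_right hsq
  refine ⟨τ, hsq, hcop, fun v => by rw [hval, Matrix.neg_mulVec, Matrix.one_mulVec], fun q hq => ?_⟩
  obtain ⟨w, hwd⟩ : ∃ w, w = τ * q * τ⁻¹ * q⁻¹ := ⟨_, rfl⟩
  have hw : w ∈ baseV p S := hwd ▸ OneData.fixesQ X.pre D τ hcop q hq
  have hconj : τ * w * τ⁻¹ = w⁻¹ := by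
    rw [hwd]
    calc τ * (τ * q * τ⁻¹ * q⁻¹) * τ⁻¹ = (τ * τ) * q * τ⁻¹ * q⁻¹ * τ⁻¹ := by group
      _ = q * τ * q⁻¹ * τ⁻¹ := by rw [hsq, one_mul, hτi]
      _ = _ := by group
  obtain ⟨j, hj⟩ := prime_odd (p := p) hp
  have hk : w ^ (j + 1) * w ^ (j + 1) = w := by
    rw [← pow_add, show j + 1 + (j + 1) = 2 * j + 1 + 1 by ring, pow_succ, ← hj, X.baseV_pow hw, one_mul]
  refine ⟨(w ^ (j + 1))⁻¹, inv_mem (pow_mem hw _), ?_, w ^ (j + 1) * q,
    mul_mem (pow_mem (X.baseV_le_Q hw) _) hq, ?_, (inv_mul_cancel_left _ _).symm⟩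
  · rw [← conj_inv, ← conj_pow, hconj, inv_pow]
  refine mul_inv_eq_iff_eq_mul.1 ?_
  calc τ * (w ^ (j + 1) * q) * τ⁻¹ = (τ * w ^ (j + 1) * τ⁻¹) * (τ * q * τ⁻¹ * q⁻¹) * q := by group
    _ = (w ^ (j + 1))⁻¹ * (w ^ (j + 1) * w ^ (j + 1)) * q := by rw [← conj_pow, hconj, inv_pow, ← hwd, hk]
    _ = _ := by rw [inv_mul_cancel_left]

namespace Inverter

variable {S Q M : Subgroup G} {n : ℕ} {φ : G →* PSL2 F} (X : Ctx p S Q M n φ) {ρ : G →* SL(2, F)}
  {ψ : G → Fin 2 → F} (N : NaturalMap S φ ρ (baseV p S) (omegaZ p S) (baseC p S) ψ)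
  (hker : ∀ g, ρ g = 1 ↔ g ∈ Q) {τ : G} (I : Inverter p S Q ρ τ)

/-- The inverted part of the module. -/
def modN (τ : G) (p : ℕ) (S : Subgroup G) : Set G := {v | v ∈ baseV p S ∧ τ * v * τ⁻¹ = v⁻¹}

include X in
theorem eq_one_of_both (hp : p ≠ 2) {v : G} (hv : v ∈ modN τ p S) (hc : τ * v = v * τ) : v = 1 := by
  have h1 := hv.2
  rw [hc, mul_inv_cancel_right, eq_inv_iff_mul_eq_one, ← pow_two] at h1
  have h2 := Nat.dvd_gcd (orderOf_dvd_of_pow_eq_one h1) (orderOf_dvd_of_pow_eq_one (X.baseV_pow hv.1))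
  rw [(Nat.coprime_primes Nat.prime_two Fact.out).2 hp.symm, Nat.dvd_one, orderOf_eq_one_iff] at h2
  exact h2

include X N hker I in
/-- The inverted part is invariant. -/
theorem conj_mem {v : G} (hv : v ∈ modN τ p S) (g : G) : g * v * g⁻¹ ∈ modN τ p S := by
  haveI := X.hyp.setup.normal
  refine ⟨(baseV_normal p S).conj_mem v hv.1 g, ?_⟩
  have hc : ρ (g⁻¹ * τ * g) = ρ τ := by
    apply Subtype.ext
    have hval : (ρ τ).1 = -1 := Matrix.ext_of_mulVec_single fun i => by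
      rw [I.neg, Matrix.neg_mulVec, Matrix.one_mulVec]
    rw [map_mul, map_mul, Matrix.SpecialLinearGroup.coe_mul, Matrix.SpecialLinearGroup.coe_mul, hval,
      Matrix.mul_neg, Matrix.mul_one, Matrix.neg_mul, ← Matrix.SpecialLinearGroup.coe_mul, ← map_mul, inv_mul_cancel,
      map_one, Matrix.SpecialLinearGroup.coe_one]
  obtain ⟨q, hq, he⟩ : ∃ q ∈ Q, g⁻¹ * τ * g = τ * q :=
    ⟨τ⁻¹ * (g⁻¹ * τ * g), (hker _).1 (by rw [map_mul, hc, map_inv, inv_mul_cancel]), (mul_inv_cancel_left _ _).symm⟩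
  have hqv : q * v * q⁻¹ = v := by rw [X.Q_comm hq hv.1, mul_inv_cancel_right]
  calc τ * (g * v * g⁻¹) * τ⁻¹ = g * ((g⁻¹ * τ * g) * v * (g⁻¹ * τ * g)⁻¹) * g⁻¹ := by group
    _ = g * (τ * (q * v * q⁻¹) * τ⁻¹) * g⁻¹ := by rw [he]; group
    _ = g * v⁻¹ * g⁻¹ := by rw [hqv, hv.2]
    _ = _ := by group

include X in
theorem mul_mem' {v w : G} (hv : v ∈ modN τ p S) (hw : w ∈ modN τ p S) : v * w ∈ modN τ p S := by
  refine ⟨mul_mem hv.1 hw.1, ?_⟩
  rw [show τ * (v * w) * τ⁻¹ = (τ * v * τ⁻¹) * (τ * w * τ⁻¹) by group, hv.2, hw.2,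
    X.baseV_comm (inv_mem hv.1) (inv_mem hw.1), _root_.mul_inv_rev]

omit [Fintype F] in
theorem inv_mem' {v : G} (hv : v ∈ modN τ p S) : v⁻¹ ∈ modN τ p S :=
  ⟨inv_mem hv.1, by rw [show τ * v⁻¹ * τ⁻¹ = (τ * v * τ⁻¹)⁻¹ by group, hv.2]⟩

include X I N in
/-- The inverted part maps onto the module. -/
theorem surj (hp : p ≠ 2) (u : Fin 2 → F) : ∃ v ∈ modN τ p S, ψ v = u := by
  obtain ⟨x, hx, rfl⟩ := N.surj u
  obtain ⟨v, hv, hvi, r, hr, hrτ, rfl⟩ := I.decomp x (X.baseV_le_Q hx)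
  have hrV : r ∈ baseV p S := by simpa using mul_mem (inv_mem hv) hx
  have h0 : ψ r = 0 := by
    have h1 := N.act τ r hrV
    rw [hrτ, mul_inv_cancel_right, I.neg] at h1
    funext i
    have hi := congrFun h1 i
    simp only [Pi.neg_apply] at hi
    exact (mul_eq_zero.1 (show (2 : F) * ψ r i = 0 by linear_combination hi)).resolve_left (X.two_ne_zero' hp)
  exact ⟨v, ⟨hv, hvi⟩, by rw [N.map_mul v hv r hrV, h0, add_zero]⟩

include X I N in
theorem inj (hp : p ≠ 2) {v w : G} (hv : v ∈ modN τ p S) (hw : w ∈ modN τ p S) (h : ψ v = ψ w) : v = w := by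
  have hm : v * w⁻¹ ∈ modN τ p S := mul_mem' (τ := τ) X hv (inv_mem' (τ := τ) hw)
  have h1 := N.map_mul _ hm.1 _ hw.1
  rw [inv_mul_cancel_right, h, right_eq_add] at h1
  have hC := (N.ker _ hm.1).1 h1
  exact mul_inv_eq_one.1 (eq_one_of_both X hp hm (Subgroup.mem_center_iff.1 hC.2 τ))

end Inverter

end CfsgLib.PushingUpRankOne
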