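/-
A maximal `p`-local subgroup of rank one pushing-up type has elementary abelian `O_p` when `p ≥ 5`.
-/
import Cfsg.Agent.Lib.PushingUpRankOne.Invert

set_option autoImplicit false
set_option linter.unusedSectionVars false
set_option linter.style.haveILetI false

open Matrix CfsgLib.Perm.SL2Unipotent
open scoped MatrixGroups Pointwise commutatorElement

namespace CfsgLib.PushingUpRankOne

open CfsgLib.LocalEvenB.PushingUp CfsgLib.LocalEvenB

variable {p : ℕ} [Fact p.Prime] {F : Type*} [Field F] [Fintype F]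

section Inside

variable {G : Type*} [Group G] [Finite G] {S Q M U : Subgroup G} {n : ℕ} {φ : G →* PSL2 F}
  (X : Ctx p S Q M n φ) (D : OneData p S Q U)
include X D

theorem OneData.pow_Q (hp : p ≠ 2) {q : G} (hq : q ∈ Q) : q ^ p = 1 := by
  have he := OneData.exponent_eq X D
  rw [if_neg hp] at he
  have := Monoid.pow_exponent_eq_one (⟨q, X.hyp.setup.le hq⟩ : ↥S)
  rw [he] at this
  exact congrArg Subtype.val this

theorem OneData.phi_central (hp : p ≠ 2) : HSubgroup.phi Q ≤ Subgroup.center G := by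
  obtain ⟨-, h2, -⟩ := OneData.class_two X D
  have hS : HSubgroup.phi Q ≤ Subgroup.centralizer (S : Set G) := by
    refine phi_le_of X.isPGroup_Q (fun q hq => by rw [OneData.pow_Q X D hp hq]; exact one_mem _) fun q hq q' hq' s hs => ?_
    have h1 : ⁅q, q'⁆ ∈ S.lowerCentralSeries 1 := by
      rw [Subgroup.lowerCentralSeries_succ, Subgroup.lowerCentralSeries_zero]
      exact Subgroup.commutator_mem_commutator (X.hyp.setup.le hq) (X.hyp.setup.le hq')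
    have h3 : ⁅⁅q, q'⁆, s⁆ ∈ S.lowerCentralSeries 2 := by
      rw [Subgroup.lowerCentralSeries_succ S 1]
      exact Subgroup.commutator_mem_commutator h1 hs
    rw [h2, Subgroup.mem_bot, commutatorElement_eq_one_iff_commute] at h3
    exact h3.eq.symm
  exact fun r hr => mem_center_of_fixed X.hyp.setup (hS hr) fun x hx => OneData.phi_fixed X.pre D x hx r hr

theorem OneData.comm_cent {s d : G} (hs : s ∈ S) (hd : d ∈ Q) (hdu : ∀ u ∈ U, u * d = d * u) :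
    s * d * s⁻¹ * d⁻¹ ∈ HSubgroup.phi Q := by
  obtain ⟨u, hu, q, hq, rfl⟩ := D.gen s hs
  have h0 : u * d * u⁻¹ * d⁻¹ = 1 := by rw [hdu u hu, mul_inv_cancel_right, mul_inv_cancel]
  rw [show u * q * d * (u * q)⁻¹ * d⁻¹ = (u * (q * d * q⁻¹ * d⁻¹) * u⁻¹) * (u * d * u⁻¹ * d⁻¹) by group, h0, mul_one]
  refine (X.phi_normal).conj_mem _ ?_ u
  have := HSubgroup.comm_mem_phi X.isPGroup_Q hq hd
  rwa [commutatorElement_def] at this

theorem OneData.comm_eq {q q' : G} (hq : q ∈ Q) (hq' : q' ∈ Q) : ∃ d ∈ Q, ∃ d' ∈ Q,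
    (∀ u ∈ U, u * d = d * u) ∧ (∀ u ∈ U, u * d' = d' * u) ∧ ⁅q, q'⁆ = ⁅d, d'⁆ := by
  obtain ⟨v, hv, d, hd, hdu, rfl⟩ := D.cover q hq
  obtain ⟨v', hv', d', hd', hdu', rfl⟩ := D.cover q' hq'
  refine ⟨d, hd, d', hd', hdu, hdu', ?_⟩
  have c1 : Commute d v' := X.Q_comm hd hv'
  have c2 : Commute d' v := X.Q_comm hd' hv
  have c3 : Commute v v' := X.baseV_comm hv hv'
  have hdd : d * d' * d⁻¹ * d'⁻¹ ∈ Q := mul_mem (mul_mem (mul_mem hd hd') (inv_mem hd)) (inv_mem hd')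
  rw [commutatorElement_def, commutatorElement_def]
  calc v * d * (v' * d') * (v * d)⁻¹ * (v' * d')⁻¹
      = v * (d * v') * d' * d⁻¹ * v⁻¹ * d'⁻¹ * v'⁻¹ := by group
    _ = (v * v') * d * d' * d⁻¹ * (v⁻¹ * d'⁻¹) * v'⁻¹ := by rw [c1.eq]; group
    _ = (v' * v) * d * d' * d⁻¹ * (d'⁻¹ * v⁻¹) * v'⁻¹ := by rw [c3.eq, c2.inv_inv.symm.eq]
    _ = (v' * v) * (d * d' * d⁻¹ * d'⁻¹) * (v' * v)⁻¹ := by group
    _ = _ := by rw [← X.Q_comm hdd (mul_mem hv' hv), mul_inv_cancel_right]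

end Inside

section Local

variable {H : Type*} [Group H] [Finite H] {G : Subgroup H} {S Q M U : Subgroup G} {n : ℕ} {φ : ↥G →* PSL2 F}
  (X : Ctx p S Q M n φ) (D : OneData p S Q U)
  (hmax : ∀ R : Subgroup H, IsPGroup p ↥R → R ≠ ⊥ → G ≤ Subgroup.normalizer (R : Set H) →
    Subgroup.normalizer (R : Set H) = G)

include X hmax in
/-- An element outside `G` does not normalise `G`. -/
theorem not_normalises {σ : H} (hσ : σ ∉ G) (h : ∀ g : ↥G, σ * (g : H) * σ⁻¹ ∈ G) : False := by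
  have hQn := X.hyp.setup.normal
  set R := Q.map G.subtype
  have hR : R ≠ ⊥ := by
    intro h0
    rw [Subgroup.map_eq_bot_iff_of_injective _ G.subtype_injective] at h0
    exact X.omegaZ_ne_bot (le_bot_iff.1 (h0 ▸ X.omegaZ_le_Q))
  have hRG : G ≤ Subgroup.normalizer (R : Set H) := fun g hg => by
    refine Subgroup.mem_normalizer_iff.2 fun x => ⟨?_, ?_⟩
    · rintro ⟨q, hq, rfl⟩
      exact ⟨⟨g, hg⟩ * q * ⟨g, hg⟩⁻¹, hQn.conj_mem q hq _, rfl⟩
    · rintro ⟨q, hq, he⟩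
      refine ⟨⟨g, hg⟩⁻¹ * q * ⟨g, hg⟩⁻¹⁻¹, hQn.conj_mem q hq _, ?_⟩
      replace he : (q : H) = g * x * g⁻¹ := he
      show g⁻¹ * (q : H) * g⁻¹⁻¹ = x
      rw [he]; group
  have hσR : σ ∈ Subgroup.normalizer (R : Set H) := by
    refine Subgroup.mem_normalizer_iff_map_conj_eq.2 (Subgroup.eq_of_le_of_card_ge ?_
      (le_of_eq (Subgroup.card_map_of_injective (MulAut.conj σ).injective).symm))
    set R' := (R.map (MulAut.conj σ).toMonoidHom).comap G.subtype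
    have hR' : R' ≤ Q := by
      refine X.hyp.setup.maximal R' ⟨fun x hx g => ?_⟩ ?_
      · obtain ⟨y, hy, hye⟩ := hx
        obtain ⟨g₀, hg₀⟩ : ∃ g₀ : ↥G, σ * (g₀ : H) * σ⁻¹ = g := by
          have hsur : Function.Surjective fun g₀ : ↥G => (⟨σ * (g₀ : H) * σ⁻¹, h g₀⟩ : ↥G) :=
            Finite.surjective_of_injective fun a b e => Subtype.ext (by simpa using congrArg Subtype.val e)
          obtain ⟨g₀, hg₀⟩ := hsur g
          exact ⟨g₀, congrArg Subtype.val hg₀⟩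
        refine ⟨(g₀ : H) * y * (g₀ : H)⁻¹, (Subgroup.mem_normalizer_iff.1 (hRG g₀.2) y).1 hy, ?_⟩
        replace hye : σ * y * σ⁻¹ = (x : H) := hye
        show σ * ((g₀ : H) * y * (g₀ : H)⁻¹) * σ⁻¹ = (g : H) * x * (g : H)⁻¹
        rw [← hye, ← hg₀]; group
      · exact ((X.isPGroup_Q.map G.subtype).map _).comap_of_injective G.subtype G.subtype_injective
    rintro _ ⟨y, hy, rfl⟩
    obtain ⟨q, hq, rfl⟩ := hy
    exact ⟨⟨σ * (q : H) * σ⁻¹, h q⟩, hR' ⟨q, ⟨q, hq, rfl⟩, rfl⟩, rfl⟩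
  exact hσ (hmax R (X.isPGroup_Q.map G.subtype) hR hRG ▸ hσR)

include X D hmax in
/-- No nontrivial subgroup is central in `G` and in a conjugate of `G`. -/
theorem no_common (hp : p ≠ 2) {σ : H} (hσ : σ ∉ G) {W : Subgroup H} (hW : W ≠ ⊥)
    (h1 : W ≤ (HSubgroup.phi Q).map G.subtype)
    (h2 : W.map (MulAut.conj σ).toMonoidHom ≤ (HSubgroup.phi Q).map G.subtype) : False := by
  have hc := OneData.phi_central X D hp
  have hcen : ∀ R : Subgroup H, R ≤ (HSubgroup.phi Q).map G.subtype → G ≤ Subgroup.normalizer (R : Set H) := by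
    intro R hR g hg
    refine Subgroup.centralizer_le_normalizer _ fun x hx => ?_
    obtain ⟨r, hr, rfl⟩ := hR hx
    exact (congrArg Subtype.val (Subgroup.mem_center_iff.1 (hc hr) ⟨g, hg⟩)).symm
  set W' := W.map (MulAut.conj σ).toMonoidHom
  have hPhi : IsPGroup p ↥((HSubgroup.phi Q).map G.subtype) := (X.isPGroup_Q.to_le (HSubgroup.phi_le Q)).map _
  have e := hmax W' (hPhi.to_le h2) (fun h => hW (Subgroup.map_eq_bot_iff_of_injective _ (MulAut.conj σ).injective |>.1 h))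
    (hcen W' h2)
  refine not_normalises X hmax hσ fun g => e.le ?_
  refine Subgroup.centralizer_le_normalizer _ fun x hx => ?_
  obtain ⟨w, hw, rfl⟩ := hx
  obtain ⟨r, hr, rfl⟩ := h1 hw
  have h := congrArg Subtype.val (Subgroup.mem_center_iff.1 (hc hr) g)
  simp only [Subgroup.coe_mul] at h
  show σ * (r : H) * σ⁻¹ * (σ * (g : H) * σ⁻¹) = σ * (g : H) * σ⁻¹ * (σ * (r : H) * σ⁻¹)
  calc σ * (r : H) * σ⁻¹ * (σ * (g : H) * σ⁻¹) = σ * ((r : H) * g) * σ⁻¹ := by group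
    _ = σ * ((g : H) * r) * σ⁻¹ := by rw [h]
    _ = _ := by group

variable {ρ : ↥G →* SL(2, F)} {ψ : ↥G → Fin 2 → F}
  (N : NaturalMap S φ ρ (baseV p S) (omegaZ p S) (baseC p S) ψ) (hker : ∀ g, ρ g = 1 ↔ g ∈ Q)
  {τ : ↥G} (I : Inverter p S Q ρ τ)

include X D hmax in
/-- Some element of `Q` centralising `U` is moved out of `Q`. -/
theorem exists_moved (hp : p ≠ 2) (hphi : HSubgroup.phi Q ≠ ⊥) {σ : H}
    (hσS : σ ∈ Subgroup.normalizer ((S.map G.subtype : Subgroup H) : Set H)) (hσ : σ ∉ G) :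
    ∃ d ∈ Q, (∀ u ∈ U, u * d = d * u) ∧ ∃ a ∈ S, a ∉ Q ∧ (a : H) = σ * (d : H) * σ⁻¹ := by
  by_contra! hall
  have key : ∀ d ∈ Q, (∀ u ∈ U, u * d = d * u) → ∃ a ∈ Q, (a : H) = σ * (d : H) * σ⁻¹ := fun d hd hdu => by
    obtain ⟨a, ha, hae⟩ := (Subgroup.mem_normalizer_iff.1 hσS _).1 ⟨d, X.hyp.setup.le hd, rfl⟩
    refine ⟨a, ?_, hae⟩
    by_contra haQ
    exact hall d hd hdu a ha haQ hae
  refine no_common X D hmax hp hσ (W := (HSubgroup.phi Q).map G.subtype)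
    (fun h => hphi ((Subgroup.map_eq_bot_iff_of_injective _ G.subtype_injective).1 h)) le_rfl ?_
  rw [Subgroup.map_map, Subgroup.map_le_iff_le_comap]
  refine phi_le_of X.isPGroup_Q (fun q hq => ?_) fun q hq q' hq' => ?_
  · rw [OneData.pow_Q X D hp hq]; exact one_mem _
  · obtain ⟨d, hd, d', hd', hdu, hdu', e⟩ := OneData.comm_eq X D hq hq'
    obtain ⟨a, ha, hae⟩ := key d hd hdu
    obtain ⟨a', ha', hae'⟩ := key d' hd' hdu'
    refine ⟨⁅a, a'⁆, HSubgroup.comm_mem_phi X.isPGroup_Q ha ha', ?_⟩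
    rw [e]
    show ((⁅a, a'⁆ : ↥G) : H) = σ * ((⁅d, d'⁆ : ↥G) : H) * σ⁻¹
    simp only [commutatorElement_def, Subgroup.coe_mul, Subgroup.coe_inv, hae, hae']
    group

include X D hmax N I hker in
/-- The inverted line is moved into the centre. -/
theorem line_moved (hp : p ≠ 2) (hphi : HSubgroup.phi Q ≠ ⊥) {σ : H}
    (hσS : σ ∈ Subgroup.normalizer ((S.map G.subtype : Subgroup H) : Set H)) (hσ : σ ∉ G) {z : ↥G}
    (hz : z ∈ Inverter.modN τ p S) (hzl : ψ z 1 = 0) :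
    ∃ r ∈ HSubgroup.phi Q, (r : H) = σ⁻¹ * (z : H) * σ := by
  obtain ⟨d, hd, hdu, a, ha, haQ, hae⟩ := exists_moved X D hmax hp hphi hσS hσ
  obtain ⟨c, hc⟩ := N.upper a ha
  have hc0 : c ≠ 0 := fun h => haQ ((hker a).1 (by rw [hc, h, up_zero]))
  obtain ⟨v, hv, hve⟩ := Inverter.surj X N I hp ![0, -ψ z 0 / c]
  have hcomm : v * a * v⁻¹ * a⁻¹ = z := by
    have h1 : v * a * v⁻¹ * a⁻¹ = v * (a * v⁻¹ * a⁻¹) := by group
    have h2 := Inverter.conj_mem X N hker I (Inverter.inv_mem' hv) a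
    have hψi : ψ v⁻¹ = -ψ v := by
      have e1 := N.map_mul _ (inv_mem hv.1) _ hv.1
      rw [inv_mul_cancel, (N.ker 1 (one_mem _)).2 (one_mem _)] at e1
      exact eq_neg_of_add_eq_zero_left e1.symm
    rw [h1]
    refine Inverter.inj X N I hp (Inverter.mul_mem' X hv h2) hz ?_
    rw [N.map_mul v hv.1 _ h2.1, N.act a _ (inv_mem hv.1), hc, hψi, hve]
    ext i
    fin_cases i <;> simp [up_val, Matrix.mulVec, dotProduct, Fin.sum_univ_two, hc0, hzl]
  obtain ⟨s, hs, hse⟩ := (Subgroup.mem_normalizer_iff.1 (inv_mem hσS) _).1 ⟨v, X.baseV_le hv.1, rfl⟩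
  refine ⟨s * d * s⁻¹ * d⁻¹, OneData.comm_cent X D hs hd hdu, ?_⟩
  replace hse : (s : H) = σ⁻¹ * (v : H) * σ⁻¹⁻¹ := hse
  rw [← hcomm]
  simp only [Subgroup.coe_mul, Subgroup.coe_inv, hse, hae]
  group

include X D hmax N I hker in
theorem phi_eq_bot (hp : 5 ≤ p) {σ : H}
    (hσS : σ ∈ Subgroup.normalizer ((S.map G.subtype : Subgroup H) : Set H)) (hσ : σ ∉ G) :
    HSubgroup.phi Q = ⊥ := by
  by_contra hphi
  have hp2 : p ≠ 2 := by omega
  have h2 := X.two_ne_zero' hp2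
  obtain ⟨t, -, htc, htρ⟩ : ∃ t ∈ (⊤ : Subgroup ↥G), (orderOf t).Coprime p ∧ ρ t = SL2Natural.tE (2 : F) := by
    obtain ⟨t, ht⟩ := N.surj_rho (SL2Natural.tE (2 : F))
    obtain ⟨x, hx, hxc, he⟩ := X.exists_coprime_lift (Subgroup.mem_top t) (ht ▸ X.tE_coprime h2)
    exact ⟨x, hx, hxc, he.trans ht⟩
  -- the inverted line
  set Z : Set ↥G := {z | z ∈ Inverter.modN τ p S ∧ ψ z 1 = 0}
  obtain ⟨z₀, hz₀, hz₀e⟩ := Inverter.surj X N I hp2 (![1, 0] : Fin 2 → F)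
  have hz₀Z : z₀ ∈ Z := ⟨hz₀, by rw [hz₀e]; simp⟩
  let W : Subgroup H :=
    { carrier := {x | ∃ z ∈ Z, σ⁻¹ * (z : H) * σ = x}
      one_mem' := ⟨1, ⟨⟨one_mem _, by simp⟩, by rw [(N.ker 1 (one_mem _)).2 (one_mem _)]; rfl⟩, by simp⟩
      mul_mem' := by
        rintro _ _ ⟨z, hz, rfl⟩ ⟨z', hz', rfl⟩
        exact ⟨z * z', ⟨Inverter.mul_mem' X hz.1 hz'.1, by
          rw [N.map_mul z hz.1.1 z' hz'.1.1, Pi.add_apply, hz.2, hz'.2, add_zero]⟩, by
          rw [Subgroup.coe_mul]; group⟩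
      inv_mem' := by
        rintro _ ⟨z, hz, rfl⟩
        refine ⟨z⁻¹, ⟨Inverter.inv_mem' hz.1, ?_⟩, by rw [Subgroup.coe_inv]; group⟩
        have e1 := N.map_mul _ (inv_mem hz.1.1) _ hz.1.1
        rw [inv_mul_cancel, (N.ker 1 (one_mem _)).2 (one_mem _)] at e1
        rw [eq_neg_of_add_eq_zero_left e1.symm, Pi.neg_apply, hz.2, neg_zero] }
  have hW1 : W ≤ (HSubgroup.phi Q).map G.subtype := by
    rintro _ ⟨z, hz, rfl⟩
    obtain ⟨r, hr, he⟩ := line_moved X D hmax N hker I hp2 hphi hσS hσ hz.1 hz.2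
    exact ⟨r, hr, he⟩
  have hWne : W ≠ ⊥ := by
    intro h
    have h1 : σ⁻¹ * (z₀ : H) * σ ∈ W := ⟨z₀, hz₀Z, rfl⟩
    rw [h, Subgroup.mem_bot] at h1
    have h3 : z₀ = 1 := Subtype.ext (by
      calc (z₀ : H) = σ * (σ⁻¹ * (z₀ : H) * σ) * σ⁻¹ := by group
        _ = _ := by rw [h1]; simp)
    rw [h3, (N.ker 1 (one_mem _)).2 (one_mem _)] at hz₀e
    simpa using congrFun hz₀e 0
  have hPhi : IsPGroup p ↥((HSubgroup.phi Q).map G.subtype) := (X.isPGroup_Q.to_le (HSubgroup.phi_le Q)).map _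
  have hWG : G ≤ Subgroup.normalizer (W : Set H) := fun g hg => by
    refine Subgroup.centralizer_le_normalizer _ fun x hx => ?_
    obtain ⟨r, hr, rfl⟩ := hW1 hx
    exact (congrArg Subtype.val (Subgroup.mem_center_iff.1 (OneData.phi_central X D hp2 hr) ⟨g, hg⟩)).symm
  have hNW := hmax W (hPhi.to_le hW1) hWne hWG
  -- the torus preserves the line
  have hZt : ∀ z ∈ Z, t * z * t⁻¹ ∈ Z := fun z hz => by
    refine ⟨Inverter.conj_mem X N hker I hz.1 t, ?_⟩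
    rw [N.act t z hz.1.1, htρ, SL2Natural.tE_val h2]
    simp [Matrix.mulVec, dotProduct, Fin.sum_univ_two, hz.2]
  have htG : σ⁻¹ * (t : H) * σ ∈ G := by
    refine hNW.le ?_
    refine Subgroup.mem_normalizer_iff_map_conj_eq.2 (Subgroup.eq_of_le_of_card_ge ?_
      (le_of_eq (Subgroup.card_map_of_injective (MulAut.conj _).injective).symm))
    rintro _ ⟨_, ⟨z, hz, rfl⟩, rfl⟩
    refine ⟨t * z * t⁻¹, hZt z hz, ?_⟩
    show σ⁻¹ * ((t * z * t⁻¹ : ↥G) : H) * σ = σ⁻¹ * (t : H) * σ * (σ⁻¹ * (z : H) * σ) * (σ⁻¹ * (t : H) * σ)⁻¹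
    rw [Subgroup.coe_mul, Subgroup.coe_mul, Subgroup.coe_inv]
    group
  set t' : ↥G := ⟨σ⁻¹ * (t : H) * σ, htG⟩
  have hfix : t' * z₀ * t'⁻¹ = z₀ := by
    obtain ⟨r, hr, he⟩ := line_moved X D hmax N hker I hp2 hphi (inv_mem hσS) (fun h => hσ (by simpa using inv_mem h)) hz₀ hz₀Z.2
    have h1 := congrArg Subtype.val (Subgroup.mem_center_iff.1 (OneData.phi_central X D hp2 hr) t)
    simp only [Subgroup.coe_mul, inv_inv] at h1 he
    apply Subtype.ext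
    show σ⁻¹ * (t : H) * σ * (z₀ : H) * (σ⁻¹ * (t : H) * σ)⁻¹ = z₀
    calc σ⁻¹ * (t : H) * σ * (z₀ : H) * (σ⁻¹ * (t : H) * σ)⁻¹ = σ⁻¹ * ((t : H) * (r : H)) * (t : H)⁻¹ * σ := by
          rw [he]; group
      _ = σ⁻¹ * (r : H) * σ := by rw [h1]; group
      _ = _ := by rw [he]; group
  have hρ : ∃ b, ρ t' = up b := by
    have e := N.act t' z₀ hz₀.1
    rw [hfix, hz₀e] at e
    have e0 := congrFun e 0
    have e1 := congrFun e 1
    simp [Matrix.mulVec, dotProduct, Fin.sum_univ_two] at e0 e1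
    refine ⟨(ρ t').1 0 1, sl_ext ?_ ?_ ?_ ?_⟩
    · simp [up_val, ← e0]
    · simp [up_val]
    · simp [up_val, ← e1]
    · have hdet := (ρ t').2
      rw [Matrix.det_fin_two, ← e0, ← e1] at hdet
      simpa [up_val] using hdet
  obtain ⟨b, hb⟩ := hρ
  have hord : orderOf t' = orderOf t := by
    rw [← Subgroup.orderOf_coe, ← Subgroup.orderOf_coe]
    show orderOf (σ⁻¹ * (t : H) * σ) = _
    rw [show σ⁻¹ * (t : H) * σ = MulAut.conj σ⁻¹ (t : H) by simp, MulEquiv.orderOf_eq]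
  have hb1 : ρ t' = 1 := by
    haveI := X.hyp.charP
    have hpow : ∀ k : ℕ, up b ^ k = up ((k : F) * b) := fun k => by
      induction k with
      | zero => simp [up_zero]
      | succ k ih => rw [pow_succ, ih, up_mul]; congr 1; push_cast; ring
    refine orderOf_eq_one_iff.1 (Nat.eq_one_of_dvd_coprimes (hord ▸ htc) (orderOf_map_dvd ρ t') ?_)
    refine orderOf_dvd_of_pow_eq_one ?_
    rw [hb, hpow, CharP.cast_eq_zero, zero_mul, up_zero]
  have ht1 : t' = 1 := by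
    obtain ⟨k, hk⟩ := X.isPGroup_Q ⟨t', (hker t').1 hb1⟩
    exact orderOf_eq_one_iff.1 (Nat.eq_one_of_dvd_coprimes ((hord ▸ htc).pow_right k) dvd_rfl
      (orderOf_dvd_of_pow_eq_one (by simpa using congrArg Subtype.val hk)))
  rw [ht1, orderOf_one] at hord
  rw [orderOf_eq_one_iff.1 hord.symm, map_one] at htρ
  have := congrArg (fun g : SL(2, F) => g.1 0 0) htρ
  simp only [SL2Natural.tE_val h2, Matrix.SpecialLinearGroup.coe_one] at this
  simp at this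
  exact one_ne_zero (show (1 : F) = 0 by linear_combination (-1 : F) * this)

end Local

end CfsgLib.PushingUpRankOne
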