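/-
When `O_p` is abelian at critical distance one, `p ≥ 5`, the group is the plane extended by `SL₂` times a centre.
-/
import Cfsg.Agent.Lib.PushingUpRankOne.Maximal
import Cfsg.Agent.Lib.Classical.SL2Sylow
import Mathlib.GroupTheory.Transfer

set_option autoImplicit false
set_option linter.unusedSectionVars false
set_option linter.style.haveILetI false

open Matrix CfsgLib.Perm.SL2Unipotent
open scoped MatrixGroups commutatorElement

namespace CfsgLib.PushingUpRankOne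

open CfsgLib.LocalEvenB.PushingUp CfsgLib.LocalEvenB

variable {G : Type*} [Group G] [Finite G] {p : ℕ} [Fact p.Prime] {F : Type*} [Field F] [Fintype F]

/-- The affine transformation with linear part `A` and translation `v`. -/
def affine (A : SL(2, F)) (v : Fin 2 → F) : SL(3, F) :=
  ⟨!![A.1 0 0, A.1 0 1, v 0; A.1 1 0, A.1 1 1, v 1; 0, 0, 1], by
    have h := A.2
    rw [Matrix.det_fin_two] at h
    rw [Matrix.det_fin_three]
    simp
    linear_combination h⟩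

theorem affine_mul (A B : SL(2, F)) (v w : Fin 2 → F) :
    affine A v * affine B w = affine (A * B) (v + A.1 *ᵥ w) := by
  apply Subtype.ext
  rw [Matrix.SpecialLinearGroup.coe_mul]
  ext i j
  fin_cases i <;> fin_cases j <;>
    simp [affine, Matrix.mul_apply, Fin.sum_univ_three, Fin.sum_univ_two, Matrix.mulVec,
      dotProduct] <;> ring

theorem affine_inj {A B : SL(2, F)} {v w : Fin 2 → F} (h : affine A v = affine B w) : A = B ∧ v = w := by
  have e : ∀ i j, (affine A v).1 i j = (affine B w).1 i j := fun i j => by rw [h]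
  refine ⟨sl_ext ?_ ?_ ?_ ?_, funext fun i => ?_⟩
  · simpa [affine] using e 0 0
  · simpa [affine] using e 0 1
  · simpa [affine] using e 1 0
  · simpa [affine] using e 1 1
  · fin_cases i
    · simpa [affine] using e 0 2
    · simpa [affine] using e 1 2

section Split

variable {S Q M U : Subgroup G} {n : ℕ} {φ : G →* PSL2 F} (X : Ctx p S Q M n φ) (D : OneData p S Q U)
  {ρ : G →* SL(2, F)} {ψ : G → Fin 2 → F}
  (N : NaturalMap S φ ρ (baseV p S) (omegaZ p S) (baseC p S) ψ) (hker : ∀ g, ρ g = 1 ↔ g ∈ Q)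
  {τ : G} (I : Inverter p S Q ρ τ)

/-- The inverted part as a subgroup. -/
def normPart : Subgroup G where
  carrier := Inverter.modN τ p S
  one_mem' := ⟨one_mem _, by simp⟩
  mul_mem' := Inverter.mul_mem' X
  inv_mem' := Inverter.inv_mem'

theorem mem_S_of_up {g : G} {c : F} (X : Ctx p S Q M n φ)
    (N : NaturalMap S φ ρ (baseV p S) (omegaZ p S) (baseC p S) ψ) (hker : ∀ g, ρ g = 1 ↔ g ∈ Q)
    (h : ρ g = up c) : g ∈ S := by
  obtain ⟨s, hs, hsc⟩ := X.hyp.exists_up c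
  obtain ⟨d, hd⟩ := N.upper s hs
  have e : d = c := pr_up_inj (by rw [← hd, N.compat, hsc])
  have h1 : s⁻¹ * g ∈ Q := (hker _).1 (by rw [map_mul, map_inv, hd, e, ← h, inv_mul_cancel])
  have := mul_mem hs (X.hyp.setup.le h1)
  rwa [mul_inv_cancel_left] at this

include X D N hker I in
theorem exists_split (hp : 5 ≤ p) (hphi : HSubgroup.phi Q = ⊥) :
    ∃ G₀ E : Subgroup G, (∀ a ∈ G₀, ∀ b ∈ E, a * b = b * a) ∧ G₀ ⊓ E = ⊥ ∧ G₀ ⊔ E = ⊤ ∧
      Cfsg.IsElementaryAbelian p E ∧ Nonempty (↥G₀ ≃* ↥(Cfsg.qdOver F)) := by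
  classical
  haveI := X.hyp.setup.normal
  have hp2 : p ≠ 2 := by omega
  have hprime : p.Prime := Fact.out
  have hQc : ∀ {a b : G}, a ∈ Q → b ∈ Q → a * b = b * a := fun {a b} ha hb => by
    have := HSubgroup.comm_mem_phi X.isPGroup_Q ha hb
    rw [hphi, Subgroup.mem_bot, commutatorElement_eq_one_iff_commute] at this
    exact this
  have hτi : τ⁻¹ = τ := inv_eq_of_mul_eq_one_right I.sq
  have hval : (ρ τ).1 = -1 := Matrix.ext_of_mulVec_single fun i => by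
    rw [I.neg, Matrix.neg_mulVec, Matrix.one_mulVec]
  have hconjτ : ∀ g : G, ∃ q ∈ Q, g⁻¹ * τ * g = τ * q := fun g => by
    have hc : ρ (g⁻¹ * τ * g) = ρ τ := by
      apply Subtype.ext
      rw [map_mul, map_mul, Matrix.SpecialLinearGroup.coe_mul, Matrix.SpecialLinearGroup.coe_mul, hval,
        Matrix.mul_neg, Matrix.mul_one, Matrix.neg_mul, ← Matrix.SpecialLinearGroup.coe_mul, ← map_mul, inv_mul_cancel,
        map_one, Matrix.SpecialLinearGroup.coe_one]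
    exact ⟨τ⁻¹ * (g⁻¹ * τ * g), (hker _).1 (by rw [map_mul, hc, map_inv, inv_mul_cancel]),
      (mul_inv_cancel_left _ _).symm⟩
  set CT : Subgroup G := Subgroup.centralizer {τ} with hCT
  have hmCT : ∀ {g : G}, g ∈ CT ↔ g * τ = τ * g := fun {g} => Subgroup.mem_centralizer_singleton_iff
  set E := Q ⊓ CT with hE
  -- the fixed part is central
  have hVC : ∀ {v : G}, v ∈ baseV p S → v ∈ CT → v ∈ baseC p S := fun {v} hv hvc => by
    refine (N.ker v hv).1 ?_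
    have h1 := N.act τ v hv
    rw [← (hmCT.1 hvc), mul_inv_cancel_right, I.neg] at h1
    funext i
    have hi := congrFun h1 i
    simp only [Pi.neg_apply] at hi
    exact (mul_eq_zero.1 (show (2 : F) * ψ v i = 0 by linear_combination hi)).resolve_left (X.two_ne_zero' hp2)
  have hEconj : ∀ g : G, ∀ r ∈ E, g * r * g⁻¹ ∈ E := fun g r hr => by
    refine ⟨X.hyp.setup.normal.conj_mem r hr.1 g, hmCT.2 ?_⟩
    obtain ⟨q, hq, he⟩ := hconjτ g
    have c : Commute r (g⁻¹ * τ * g) := by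
      rw [he]; exact Commute.mul_right (hmCT.1 hr.2) (hQc hr.1 hq)
    calc g * r * g⁻¹ * τ = g * (r * (g⁻¹ * τ * g)) * g⁻¹ := by group
      _ = g * ((g⁻¹ * τ * g) * r) * g⁻¹ := by rw [c.eq]
      _ = _ := by group
  have hcoprime : ∀ x : G, (orderOf x).Coprime p → ∀ r ∈ E, x * r = r * x := fun x hx r hr => by
    have h1 : x * r * x⁻¹ * r⁻¹ ∈ baseC p S :=
      hVC (OneData.fixesQ X.pre D x hx r hr.1) (mul_mem (hEconj x r hr).2 (inv_mem hr.2))
    have h2 := X.coprime_step (R := ⊥) inferInstance hx hr.1 (X.fixesC x hx _ h1)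
    rw [Subgroup.mem_bot, mul_inv_eq_one, mul_inv_eq_iff_eq_mul] at h2
    exact h2
  have hcen : ∀ r ∈ E, ∀ g : G, g * r = r * g := by
    intro r hr g
    have htop := X.coprime_image_top hp (ρ := ρ) (R := ⊤) fun z => by
      obtain ⟨x, hx⟩ := N.surj_rho z; exact ⟨x, Subgroup.mem_top x, hx⟩
    obtain ⟨l, hl, hle⟩ : ρ g ∈ (Subgroup.closure {x : G | x ∈ (⊤ : Subgroup G) ∧ (orderOf x).Coprime p}).map ρ :=
      htop ▸ Subgroup.mem_top _
    have hlr : Subgroup.closure {x : G | x ∈ (⊤ : Subgroup G) ∧ (orderOf x).Coprime p} ≤ Subgroup.centralizer {r} :=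
      (Subgroup.closure_le _).2 fun x hx => Subgroup.mem_centralizer_singleton_iff.2 (hcoprime x hx.2 r hr)
    have h1 : l⁻¹ * g ∈ Q := (hker _).1 (by rw [map_mul, map_inv, hle, inv_mul_cancel])
    have c1 : Commute l r := Subgroup.mem_centralizer_singleton_iff.1 (hlr hl)
    have c2 : Commute (l⁻¹ * g) r := hQc h1 hr.1
    have := c1.mul_left c2
    rwa [mul_inv_cancel_left] at this
  set V₀ : Subgroup G := normPart X (τ := τ) with hV₀
  haveI hVn : V₀.Normal := ⟨fun v hv g => Inverter.conj_mem X N hker I hv g⟩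
  have hQdec : ∀ q ∈ Q, ∃ v ∈ V₀, ∃ r ∈ E, q = v * r := fun q hq => by
    obtain ⟨v, hv, hvi, r, hr, hrτ, e⟩ := I.decomp q hq
    exact ⟨v, ⟨hv, hvi⟩, r, ⟨hr, hmCT.2 hrτ.symm⟩, e⟩
  have hV₀1 : ∀ {v : G}, v ∈ V₀ → v ∈ CT → v = 1 := fun {v} hv hc =>
    Inverter.eq_one_of_both X hp2 hv (hmCT.1 hc).symm
  have hQp : ∀ {q : G}, q ∈ Q → q ^ p = 1 := fun hq => OneData.pow_Q X D hp2 hq
  -- the centralizer of `τ` covers the quotient
  have hcov : ∀ z, ∃ g ∈ CT, ρ g = z := by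
    intro z
    obtain ⟨g, rfl⟩ := N.surj_rho z
    obtain ⟨q, hq, he⟩ := hconjτ g
    obtain ⟨j, hj⟩ := prime_odd (p := p) hp
    obtain ⟨s, hs⟩ : ∃ s, s = q ^ (j + 1) := ⟨_, rfl⟩
    have hqi : τ * q * τ⁻¹ = q⁻¹ := by
      have h1 : (τ * q) * (τ * q) = 1 := by
        rw [← he, show g⁻¹ * τ * g * (g⁻¹ * τ * g) = g⁻¹ * (τ * τ) * g by group, I.sq, mul_one, inv_mul_cancel]
      rw [hτi]
      exact eq_inv_of_mul_eq_one_left (by rw [← h1]; group)
    have hsQ : s ∈ Q := hs ▸ pow_mem hq _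
    have hss : s * s = q := by
      rw [hs, ← pow_add, show j + 1 + (j + 1) = 2 * j + 1 + 1 by ring, pow_succ, ← hj, hQp hq, one_mul]
    have hsi : τ * s * τ⁻¹ = s⁻¹ := by rw [hs, ← conj_pow, hqi, inv_pow]
    have hτs : s⁻¹ * τ = τ * s := by rw [← hsi]; group
    refine ⟨g * s⁻¹, hmCT.2 ?_, by rw [map_mul, map_inv, (hker s).2 hsQ, inv_one, mul_one]⟩
    have key : s⁻¹ * τ * s = g⁻¹ * τ * g := by rw [he, hτs, mul_assoc, hss]
    calc g * s⁻¹ * τ = g * (s⁻¹ * τ * s) * s⁻¹ := by group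
      _ = g * (g⁻¹ * τ * g) * s⁻¹ := by rw [key]
      _ = _ := by group
  set P := S ⊓ CT with hP
  have hEP : E ≤ P := fun r hr => ⟨X.hyp.setup.le hr.1, hr.2⟩
  have hPp : ∀ {s : G}, s ∈ P → s ^ p = 1 := fun {s} hs => by
    have he := OneData.exponent_eq X D
    rw [if_neg hp2] at he
    have := Monoid.pow_exponent_eq_one (⟨s, hs.1⟩ : ↥S)
    rw [he] at this
    exact congrArg Subtype.val this
  have hPc : ∀ {s t : G}, s ∈ P → t ∈ P → s * t = t * s := by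
    intro s t hs ht
    obtain ⟨u, hu, q, hq, rfl⟩ := D.gen s hs.1
    obtain ⟨u', hu', q', hq', rfl⟩ := D.gen t ht.1
    obtain ⟨v, hv, r, hr, rfl⟩ := hQdec q hq
    obtain ⟨v', hv', r', hr', rfl⟩ := hQdec q' hq'
    set π := QuotientGroup.mk' V₀
    have h0 : π v = 1 := (QuotientGroup.eq_one_iff v).2 hv
    have h0' : π v' = 1 := (QuotientGroup.eq_one_iff v').2 hv'
    have cA : Commute (π u) (π u') := (show Commute u u' from D.comm u hu u' hu').map π
    have cB : ∀ g, Commute (π g) (π r) := fun g => (show Commute g r from hcen r hr g).map π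
    have cB' : ∀ g, Commute (π g) (π r') := fun g => (show Commute g r' from hcen r' hr' g).map π
    have hπ : Commute (π (u * (v * r))) (π (u' * (v' * r'))) := by
      simp only [map_mul, h0, h0', one_mul]
      exact ((cA.mul_right (cB' u)).mul_left ((cB u').symm.mul_right (cB' r)))
    set a := u * (v * r)
    set b := u' * (v' * r')
    have hm : a * b * a⁻¹ * b⁻¹ ∈ V₀ := (QuotientGroup.eq_one_iff _).1 (by
      show π (a * b * a⁻¹ * b⁻¹) = 1
      simp only [map_mul, map_inv]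
      rw [hπ.eq, mul_inv_cancel_right, mul_inv_cancel])
    have := hV₀1 hm (mul_mem (mul_mem (mul_mem hs.2 ht.2) (inv_mem hs.2)) (inv_mem ht.2))
    rwa [mul_inv_eq_one, mul_inv_eq_iff_eq_mul] at this
  -- a complement of the fixed part in the Sylow subgroup
  obtain ⟨P₀, ⟨hP₀, hP₀E⟩, hmax⟩ := Set.Finite.exists_maximal (Set.toFinite {R : Subgroup G | R ≤ P ∧ R ⊓ E = ⊥})
    ⟨⊥, bot_le, bot_inf_eq _⟩
  have hP₀cov : ∀ x ∈ P, ∃ b ∈ P₀, ∃ r ∈ E, x = b * r := by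
    intro x hx
    have hn : E ≤ Subgroup.normalizer (P₀ : Set G) := fun r hr => Subgroup.centralizer_le_normalizer _
      fun b _ => hcen r hr b
    suffices h : x ∈ P₀ ⊔ E by
      rw [← SetLike.mem_coe, Subgroup.coe_mul_of_right_le_normalizer_left _ _ hn] at h
      obtain ⟨b, hb, r, hr, e⟩ := h
      exact ⟨b, hb, r, hr, e.symm⟩
    by_contra hxn
    have hsup : P₀ ⊔ Subgroup.zpowers x ≤ P := sup_le hP₀ (Subgroup.zpowers_le.2 hx)
    refine hxn (Subgroup.mem_sup_left (hmax ⟨hsup, ?_⟩ le_sup_left (Subgroup.mem_sup_right (Subgroup.mem_zpowers x))))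
    rw [eq_bot_iff]
    rintro y ⟨hy, hyE⟩
    have hn' : Subgroup.zpowers x ≤ Subgroup.normalizer (P₀ : Set G) := Subgroup.zpowers_le.2
      (Subgroup.centralizer_le_normalizer _ fun b hb => hPc (hP₀ hb) hx)
    have hy' : y ∈ ((P₀ ⊔ Subgroup.zpowers x : Subgroup G) : Set G) := hy
    rw [Subgroup.coe_mul_of_right_le_normalizer_left _ _ hn'] at hy'
    obtain ⟨b, hb, xi, hxi, rfl⟩ := hy'
    obtain ⟨i, rfl⟩ := hxi
    by_cases hi : (p : ℤ) ∣ i
    · obtain ⟨k, rfl⟩ := hi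
      have e1 : x ^ ((p : ℤ) * k) = 1 := by rw [_root_.zpow_mul, zpow_natCast, hPp hx, _root_.one_zpow]
      show b * x ^ ((p : ℤ) * k) ∈ (⊥ : Subgroup G)
      rw [e1, mul_one, ← hP₀E]
      refine ⟨hb, ?_⟩
      have h := hyE
      simp only [e1, mul_one] at h
      exact h
    · exfalso
      refine hxn ?_
      have hxi' : x ^ i ∈ P₀ ⊔ E := by
        have := mul_mem (Subgroup.mem_sup_left (inv_mem hb) : b⁻¹ ∈ P₀ ⊔ E) (Subgroup.mem_sup_right hyE)
        simpa using this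
      have hcop : IsCoprime i (p : ℤ) :=
        ((Nat.prime_iff_prime_int.1 hprime).coprime_iff_not_dvd.2 hi).symm
      obtain ⟨a, c, hac⟩ := hcop
      have hx1 : x = (x ^ i) ^ a := by
        conv_lhs => rw [← zpow_one x, ← hac, _root_.zpow_add, mul_comm c, _root_.zpow_mul x (p : ℤ) c, zpow_natCast, _root_.zpow_mul' x a i, hPp hx, _root_.one_zpow,
          mul_one]
      rw [hx1]
      exact zpow_mem hxi' a
  -- transfer
  set P' := P.subgroupOf CT with hP'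
  letI : CommGroup P' :=
    { (inferInstance : Group P') with
      mul_comm := fun a b => Subtype.ext (Subtype.ext (hPc a.2 b.2)) }
  set P₀' := (P₀.subgroupOf CT).subgroupOf P' with hP₀'
  let f : P' →* P' ⧸ P₀' := QuotientGroup.mk' P₀'
  let Φ : ↥CT →* P' ⧸ P₀' := MonoidHom.transfer f
  have hidx : ¬ p ∣ P'.index := by
    haveI := X.hyp.charP
    have e : P' = (Cfsg.upperUnipotentSL2 F).comap (ρ.comp CT.subtype) := by
      ext ⟨g, hg⟩
      constructor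
      · exact fun h => mem_upper.2 (N.upper g (show g ∈ P from h).1)
      · intro h
        obtain ⟨c, hc⟩ := mem_upper.1 h
        exact ⟨mem_S_of_up X N hker (show ρ g = up c from hc), hg⟩
    rw [e, Subgroup.index_comap_of_surjective _ (fun z => by obtain ⟨g, hg, he⟩ := hcov z; exact ⟨⟨g, hg⟩, he⟩)]
    have hu : Cfsg.upperUnipotentSL2 F = CfsgLib.Classical.unipSL F := by
      ext g
      rw [mem_upper]
      constructor
      · rintro ⟨c, rfl⟩
        exact ⟨Multiplicative.ofAdd c, Subtype.ext (CfsgLib.Classical.uSL_coe c)⟩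
      · rintro ⟨c, rfl⟩
        exact ⟨c.toAdd, Subtype.ext (CfsgLib.Classical.uSL_coe c.toAdd)⟩
    rw [hu]
    exact (CfsgLib.Classical.unipSLSylow (F := F) p).not_dvd_index
  have hΦE : ∀ (r : G) (hr : r ∈ E), ∃ hm : (⟨r, hr.2⟩ : ↥CT) ^ P'.index ∈ P',
      Φ ⟨r, hr.2⟩ = f ⟨_, hm⟩ := fun r hr => by
    have key : ∀ (k : ℕ) (g₀ : ↥CT), g₀⁻¹ * (⟨r, hr.2⟩ : ↥CT) ^ k * g₀ ∈ P' → g₀⁻¹ * (⟨r, hr.2⟩ : ↥CT) ^ k * g₀ =
        (⟨r, hr.2⟩ : ↥CT) ^ k := fun k g₀ _ => by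
      have c : Commute g₀ (⟨r, hr.2⟩ : ↥CT) := Subtype.ext (hcen r hr g₀)
      rw [mul_assoc, ← (c.pow_right k).eq, inv_mul_cancel_left]
    exact ⟨_, MonoidHom.transfer_eq_pow (ϕ := f) _ key⟩
  have hf1 : ∀ {x : P'}, f x = 1 ↔ ((x : ↥CT) : G) ∈ P₀ := fun {x} => QuotientGroup.eq_one_iff x
  set G₁ := Φ.ker.map CT.subtype with hG₁
  have hG₁E : ∀ r ∈ G₁, r ∈ E → r = 1 := by
    rintro _ ⟨g, hg, rfl⟩ hr
    obtain ⟨hm, e⟩ := hΦE g hr
    have h1 : f ⟨_, hm⟩ = 1 := e.symm.trans hg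
    have h2 : (g : G) ^ P'.index ∈ (⊥ : Subgroup G) := by
      rw [← hP₀E]
      exact ⟨by simpa using hf1.1 h1, pow_mem hr _⟩
    have h3 := Nat.dvd_gcd (orderOf_dvd_of_pow_eq_one (Subgroup.mem_bot.1 h2)) (orderOf_dvd_of_pow_eq_one (hQp hr.1))
    rw [Nat.gcd_comm, (hprime.coprime_iff_not_dvd.2 hidx), Nat.dvd_one, orderOf_eq_one_iff] at h3
    exact h3
  have hCTsplit : ∀ c ∈ CT, ∃ g ∈ G₁, ∃ r ∈ E, c = g * r := by
    intro c hc
    obtain ⟨x, hx⟩ := QuotientGroup.mk'_surjective P₀' (Φ ⟨c, hc⟩)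
    obtain ⟨b, hb, r, hr, e⟩ := hP₀cov _ (show ((x : ↥CT) : G) ∈ P from x.2)
    obtain ⟨j, hj⟩ := exists_pow_eq_self_of_coprime (x := r) (show P'.index.Coprime (orderOf r) from
      Nat.Coprime.coprime_dvd_right (orderOf_dvd_of_pow_eq_one (hQp hr.1)) (hprime.coprime_iff_not_dvd.2 hidx).symm)
    have hr0 : r ^ j ∈ E := pow_mem hr j
    obtain ⟨hm, e0⟩ := hΦE (r ^ j) hr0
    have hrm : (r ^ j) ^ P'.index = r := by rw [← pow_mul, mul_comm, pow_mul]; exact hj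
    have hbP : b ∈ P := hP₀ hb
    have hx' : Φ ⟨c, hc⟩ = Φ ⟨r ^ j, hr0.2⟩ := by
      rw [← hx, e0]
      have hxe : x = ⟨⟨b, hbP.2⟩, hbP⟩ * ⟨_, hm⟩ := by
        apply Subtype.ext; apply Subtype.ext
        show ((x : ↥CT) : G) = b * ((r ^ j) ^ P'.index)
        rw [hrm, e]
      show f x = _
      rw [hxe, map_mul, (hf1 (x := ⟨⟨b, hbP.2⟩, hbP⟩)).2 hb, one_mul]
    refine ⟨c * (r ^ j)⁻¹, ⟨⟨c, hc⟩ * ⟨r ^ j, hr0.2⟩⁻¹, ?_, rfl⟩, r ^ j, hr0, (inv_mul_cancel_right _ _).symm⟩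
    show _ ∈ Φ.ker
    rw [MonoidHom.mem_ker, map_mul, map_inv, hx', mul_inv_cancel]
  set G₀ := V₀ ⊔ G₁ with hG₀
  have hG₁CT : G₁ ≤ CT := Subgroup.map_subtype_le _
  have hmem : ∀ g : G, g ∈ G₀ → ∃ v ∈ V₀, ∃ c ∈ G₁, g = v * c := fun g hg => by
    obtain ⟨v, hv, c, hc, e⟩ := Subgroup.mem_sup_of_normal_left.1 hg
    exact ⟨v, hv, c, hc, e.symm⟩
  have hinf : G₀ ⊓ E = ⊥ := by
    rw [eq_bot_iff]
    rintro x ⟨hx, hxE⟩
    obtain ⟨v, hv, c, hc, rfl⟩ := hmem _ hx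
    have hv1 : v = 1 := hV₀1 hv (by
      have := CT.mul_mem hxE.2 (CT.inv_mem (hG₁CT hc))
      rwa [mul_inv_cancel_right] at this)
    subst hv1
    rw [one_mul] at hxE ⊢
    exact Subgroup.mem_bot.2 (hG₁E c hc hxE)
  have htop : G₀ ⊔ E = ⊤ := by
    refine eq_top_iff.2 fun g _ => ?_
    obtain ⟨c, hc, hce⟩ := hcov (ρ g)
    have hq : c⁻¹ * g ∈ Q := (hker _).1 (by rw [map_mul, map_inv, hce, inv_mul_cancel])
    obtain ⟨v, hv, r, hr, e⟩ := hQdec _ hq
    obtain ⟨g₁, hg₁, r', hr', rfl⟩ := hCTsplit c hc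
    rw [show g = g₁ * r' * ((g₁ * r')⁻¹ * g) by group, e]
    exact mul_mem (mul_mem (Subgroup.mem_sup_left (Subgroup.mem_sup_right hg₁)) (Subgroup.mem_sup_right hr'))
      (mul_mem (Subgroup.mem_sup_left (Subgroup.mem_sup_left hv)) (Subgroup.mem_sup_right hr))
  refine ⟨G₀, E, fun a _ b hb => hcen b hb a, hinf, htop,
    ⟨⟨⟨fun x y => Subtype.ext (hQc x.2.1 y.2.1)⟩⟩, fun x hx => hQp hx.1⟩, ?_⟩
  -- coordinates
  choose! vp hvp cp hcp hdec using hmem
  let θ₀ : ↥G₀ → SL(3, F) := fun g => affine (ρ g) (ψ (vp (g : G)))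
  have huniq : ∀ {v c : G}, v ∈ V₀ → c ∈ G₁ → vp (v * c) = v := fun {v c} hv hc => by
    have hg : v * c ∈ G₀ := mul_mem (Subgroup.mem_sup_left hv) (Subgroup.mem_sup_right hc)
    have e := hdec _ hg
    have h1 : v⁻¹ * vp (v * c) = c * (cp (v * c))⁻¹ := by
      rw [eq_mul_inv_iff_mul_eq, mul_assoc, ← e, inv_mul_cancel_left]
    have h2 : v⁻¹ * vp (v * c) = 1 := hV₀1 (mul_mem (inv_mem hv) (hvp _ hg))
      (h1 ▸ hG₁CT (mul_mem hc (inv_mem (hcp _ hg))))
    exact (inv_mul_eq_one.1 h2).symm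
  let θ : ↥G₀ →* SL(3, F) := MonoidHom.mk' θ₀ fun g h => by
    have hv1 := hvp _ g.2
    have hv2 := hvp _ h.2
    have hc1 := hcp _ g.2
    have hc2 := hcp _ h.2
    have e : ((g * h : ↥G₀) : G) = (vp (g : G) * ((g : G) * vp (h : G) * (g : G)⁻¹)) * (cp (g : G) * cp (h : G)) := by
      rw [Subgroup.coe_mul]
      conv_lhs => rw [hdec _ g.2, hdec _ h.2]
      have hgv : (g : G) * vp (h : G) * (g : G)⁻¹ = cp (g : G) * vp (h : G) * (cp (g : G))⁻¹ := by
        conv_lhs => rw [hdec _ g.2]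
        have hin : cp (g : G) * vp (h : G) * (cp (g : G))⁻¹ ∈ Q := X.baseV_le_Q (hVn.conj_mem _ hv2 _).1
        calc vp (g : G) * cp (g : G) * vp (h : G) * (vp (g : G) * cp (g : G))⁻¹
            = vp (g : G) * (cp (g : G) * vp (h : G) * (cp (g : G))⁻¹) * (vp (g : G))⁻¹ := by group
          _ = _ := by rw [hQc (X.baseV_le_Q hv1.1) hin, mul_inv_cancel_right]
      rw [hgv]
      group
    show affine (ρ ((g * h : ↥G₀) : G)) (ψ (vp ((g * h : ↥G₀) : G))) = θ₀ g * θ₀ h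
    have hv3 := hVn.conj_mem _ hv2 (g : G)
    rw [affine_mul, ← map_mul]
    have hvv : vp ((g * h : ↥G₀) : G) = vp (g : G) * ((g : G) * vp (h : G) * (g : G)⁻¹) := by
      rw [e]; exact huniq (mul_mem hv1 hv3) (mul_mem hc1 hc2)
    rw [hvv, N.map_mul _ hv1.1 _ hv3.1, N.act (g : G) _ hv2.1]
    rfl
  have hinj : Function.Injective θ := by
    refine (injective_iff_map_eq_one θ).2 fun g hg => ?_
    have h1 : affine (ρ (g : G)) (ψ (vp (g : G))) = affine 1 0 := by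
      rw [show affine (ρ (g : G)) (ψ (vp (g : G))) = 1 from hg]
      apply Subtype.ext
      ext i j
      fin_cases i <;> fin_cases j <;> simp [affine]
    obtain ⟨hρ, hψ⟩ := affine_inj h1
    have hgQ := (hker _).1 hρ
    have hv : vp (g : G) = 1 := hV₀1 (hvp _ g.2) (by
      have hC : vp (g : G) ∈ baseC p S := (N.ker _ (hvp _ g.2).1).1 hψ
      exact hmCT.2 (Subgroup.mem_center_iff.1 hC.2 τ).symm)
    have e := hdec _ g.2
    rw [hv, one_mul] at e
    have hc : cp (g : G) ∈ E := ⟨e ▸ hgQ, hG₁CT (hcp _ g.2)⟩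
    exact Subtype.ext (e.trans (hG₁E _ (hcp _ g.2) hc))
  have hrange : θ.range = Cfsg.qdOver F := by
    refine le_antisymm ?_ ((Subgroup.closure_le _).2 ?_)
    · rintro _ ⟨g, rfl⟩
      show affine (ρ (g : G)) (ψ (vp (g : G))) ∈ _
      exact Subgroup.subset_closure ⟨by simp [affine], by simp [affine], by simp [affine]⟩
    · rintro m ⟨h20, h21, h22⟩
      let A : SL(2, F) := ⟨!![m.1 0 0, m.1 0 1; m.1 1 0, m.1 1 1], by
        have h := m.2
        rw [Matrix.det_fin_three, h20, h21, h22] at h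
        rw [Matrix.det_fin_two]
        simp
        linear_combination h⟩
      obtain ⟨c, hc, hcA⟩ := hcov A
      obtain ⟨g₁, hg₁, r, hr, rfl⟩ := hCTsplit c hc
      rw [map_mul, (hker r).2 hr.1, mul_one] at hcA
      obtain ⟨v, hv, hve⟩ := Inverter.surj X N I hp2 ![m.1 0 2, m.1 1 2]
      refine ⟨⟨v * g₁, mul_mem (Subgroup.mem_sup_left (show v ∈ V₀ from hv)) (Subgroup.mem_sup_right hg₁)⟩, ?_⟩
      show affine (ρ (v * g₁)) (ψ (vp (v * g₁))) = m
      rw [huniq hv hg₁, map_mul, (hker v).2 (X.baseV_le_Q hv.1), one_mul, hcA, hve]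
      apply Subtype.ext
      ext i j
      fin_cases i <;> fin_cases j <;> simp [affine, A, h20, h21, h22]
  exact ⟨(MonoidHom.ofInjective hinj).trans (MulEquiv.subgroupCongr hrange)⟩

end Split

/-- A maximal `p`-local subgroup of pushing-up type is the plane extended by `SL₂` times a centre. -/
theorem maximal_local {H : Type*} [Group H] [Finite H] (hp : 5 ≤ p) {G : Subgroup H} {S Q M : Subgroup G} {n : ℕ}
    {φ : ↥G →* PSL2 F} (X : Ctx p S Q M n φ)
    (hmax : ∀ R : Subgroup H, IsPGroup p ↥R → R ≠ ⊥ → G ≤ Subgroup.normalizer (R : Set H) →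
      Subgroup.normalizer (R : Set H) = G)
    {σ : H} (hσS : σ ∈ Subgroup.normalizer ((S.map G.subtype : Subgroup H) : Set H)) (hσ : σ ∉ G) :
    ∃ G₀ E : Subgroup H, Cfsg.IsInternalDirectProduct G₀ E G ∧ Cfsg.IsElementaryAbelian p E ∧
      Nonempty (↥G₀ ≃* ↥(Cfsg.qdOver F)) := by
  rcases X.cases with ⟨U, D⟩ | ⟨h3, -⟩
  swap
  · omega
  obtain ⟨ρ, ψ, N, hker⟩ := OneData.natural X D
  obtain ⟨τ, I⟩ := exists_inverter X D hp N hker
  have hphi := phi_eq_bot X D hmax N hker I hp hσS hσ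
  obtain ⟨G₀, E, hc, hinf, hsup, ⟨hEc, hEp⟩, ⟨e⟩⟩ := exists_split X D N hker I hp hphi
  refine ⟨G₀.map G.subtype, E.map G.subtype, ⟨Subgroup.map_subtype_le _, Subgroup.map_subtype_le _, ?_, ?_, ?_⟩,
    ⟨?_, ?_⟩, ⟨(Subgroup.equivMapOfInjective G₀ _ G.subtype_injective).symm.trans e⟩⟩
  · rintro _ ⟨a, ha, rfl⟩ _ ⟨b, hb, rfl⟩
    exact congrArg Subtype.val (hc a ha b hb)
  · rw [← Subgroup.map_inf _ _ _ G.subtype_injective, hinf, Subgroup.map_bot]
  · rw [← Subgroup.map_sup, hsup, ← MonoidHom.range_eq_map, Subgroup.range_subtype]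
  · refine ⟨⟨?_⟩⟩
    rintro ⟨_, a, ha, rfl⟩ ⟨_, b, hb, rfl⟩
    haveI := hEc
    exact Subtype.ext (congrArg (fun t : E => ((t : ↥G) : H)) (mul_comm' (⟨a, ha⟩ : E) ⟨b, hb⟩))
  · rintro _ ⟨a, ha, rfl⟩
    rw [← map_pow, hEp a ha, map_one]

end CfsgLib.PushingUpRankOne
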